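import Cfsg.Agent.H561.AATool
import Cfsg.Agent.H711.MonReal
import Cfsg.Agent.H565.RankTwo
import Cfsg.Agent.H847.RadFiveE
import Cfsg.Agent.BpSpor.MFiveTop
import Cfsg.Agent.MFive.Rho

/-!
# The `AA` problem for the Monster, `p = 3` (helper561)
-/

set_option autoImplicit false
set_option maxRecDepth 100000

namespace Cfsg.Agent.H561.AAM3

open Subgroup Cfsg Cfsg.Agent.H459.Rad Cfsg.Agent.H460.AA Cfsg.Agent.H102.AAGen Cfsg.Agent.H561.AATool
open Cfsg.Agent.LThreeMB Cfsg.Agent.MonsterU Cfsg.Agent.MonsterU.Ch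
open Cfsg.Agent.MonsterU.Lam2 (L2 IsType)
open Cfsg.Spor (Co1)

universe u

/-- centralizers in simple groups -/
theorem cent_ne_top {G : Type*} [Group G] [IsSimpleGroup G] (hna : ¬ IsMulCommutative G) {x : G} (hx : x ≠ 1) :
    centralizer ({x} : Set G) ≠ ⊤ := by
  intro h1
  have h2 : x ∈ center G := by
    rw [mem_center_iff]
    intro b
    exact mem_centralizer_singleton_iff.1 (h1 ▸ mem_top b)
  rcases (inferInstance : (center G).Normal).eq_bot_or_eq_top with h3 | h3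
  · rw [h3, mem_bot] at h2
    exact hx h2
  · apply hna
    exact ⟨⟨fun x y => (mem_center_iff.1 (by rw [h3]; exact mem_top y : y ∈ center G) x)⟩⟩

section chart

variable {G : Type u} [Group G] {Q : Subgroup G} {z : G} {eta : G → L2}
  {pi : Subgroup.centralizer ({z} : Set G) →* Co1}

theorem false_of_comm_z [Finite G] [IsSimpleGroup G] (hna : ¬ IsMulCommutative G) (h : Chart Q z eta pi)
    (hco : IsSimpleGroup Co1) (hcn : ¬ IsMulCommutative Co1)
    {p : ℕ} [hp : Fact p.Prime] (ho : Odd p) {a : G} (ha : orderOf a = p) (hR : RC (MulAut.conj a))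
    (haz : a * z = z * a) : False := by
  have haC : a ∈ centralizer ({z} : Set G) := mem_centralizer_singleton_iff.2 haz
  have h1 := mem_radIn_coe (x := ⟨a, haC⟩) |>.1 (mem_radIn hR (cent_ne_top hna h.large.z_ne) haC)
  have h2 := rad_le_ker hcn pi h.pi_surj h1
  have h3 : a ∈ Q := (h.pi_eq_one ⟨a, haC⟩).1 h2
  have h4 := MFive.eq_one_of_pow ho (by rw [← ha, pow_orderOf_eq_one]) (MFive.pow_four h h3)
  rw [h4, orderOf_one] at ha
  exact hp.out.one_lt.ne ha

theorem false_of_comm_conj [Finite G] [IsSimpleGroup G] (hna : ¬ IsMulCommutative G) (h : Chart Q z eta pi)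
    (hco : IsSimpleGroup Co1) (hcn : ¬ IsMulCommutative Co1)
    {p : ℕ} [hp : Fact p.Prime] (ho : Odd p) {a : G} (ha : orderOf a = p) (hR : RC (MulAut.conj a)) {g : G}
    (haz : a * (g * z * g⁻¹) = (g * z * g⁻¹) * a) : False := by
  refine false_of_comm_z hna h hco hcn (hp := hp) ho (a := g⁻¹ * a * g⁻¹⁻¹) (by rw [orderOf_conj', ha]) (RC_conj hR g⁻¹) ?_
  rw [inv_inv]
  calc g⁻¹ * a * g * z = g⁻¹ * (a * (g * z * g⁻¹)) * g := by group
    _ = g⁻¹ * ((g * z * g⁻¹) * a) * g := by rw [haz]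
    _ = z * (g⁻¹ * a * g) := by group

/-- the order of `C_Q(x)` -/
theorem card_CQ (h : Chart Q z eta pi) {p : ℕ} (ho : Odd p) {x : Subgroup.centralizer ({z} : Set G)} (hx : x ^ p = 1) :
    Nat.card ↥(Q ⊓ centralizer ({(x : G)} : Set G)) = fr (pi x) * 2 := by
  rw [← MFive.card_PB h ho hx]
  refine Nat.card_congr (Equiv.ofBijective (fun q => (⟨mk (x : G) (mem_centralizer_singleton_iff.1 (mem_inf.1 q.2).2),
    mem_PB.2 ⟨q, _, (mem_inf.1 q.2).1, rfl⟩⟩ : ↥(PB Q (x : G)))) ⟨?_, ?_⟩)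
  · intro a b hab
    have h3 := congrArg Subtype.val hab
    obtain ⟨i, hi⟩ := (mk_eq_mk (mem_centralizer_singleton_iff.1 (mem_inf.1 a.2).2)
      (mem_centralizer_singleton_iff.1 (mem_inf.1 b.2).2)).1 h3
    have h4 : (x : G) ^ i ∈ Q := by
      have : (x : G) ^ i = (a : G)⁻¹ * b := by rw [← hi]; group
      rw [this]
      exact Q.mul_mem (Q.inv_mem (mem_inf.1 a.2).1) (mem_inf.1 b.2).1
    rw [MFive.eq_one_of_mem h ho hx h4 ⟨i, rfl⟩, mul_one] at hi
    exact Subtype.ext hi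
  · rintro ⟨u, hu⟩
    obtain ⟨g, hg, hgQ, rfl⟩ := mem_PB.1 hu
    exact ⟨⟨g, mem_inf.2 ⟨hgQ, mem_centralizer_singleton_iff.2 hg⟩⟩, rfl⟩

end chart

/-- a group of order 9 -/
theorem exists_nine {G : Type*} [Group G] {x b : G} (hx : orderOf x = 3) (hb : orderOf b = 3) (hxb : x * b = b * x)
    (hbx : b ∉ zpowers x) :
    ∃ F : Subgroup G, Nat.card F = 3 ^ 2 ∧ (∀ a ∈ F, ∃ i j : ℤ, a = x ^ i * b ^ j) ∧ x ∈ F ∧ b ∈ F := by
  have : Fact (Nat.Prime 3) := ⟨Nat.prime_three⟩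
  have : Finite ↥(zpowers b) := Nat.finite_of_card_ne_zero (by rw [Nat.card_zpowers, hb]; norm_num)
  have hxb' : Commute x b := hxb
  let f : ↥(zpowers x) × ↥(zpowers b) →* G := (zpowers x).subtype.noncommCoprod (zpowers b).subtype (by
    rintro ⟨_, i, rfl⟩ ⟨_, j, rfl⟩
    exact (hxb'.zpow_left i).zpow_right j)
  have hf : ∀ s, f s = (s.1 : G) * s.2 := fun s => rfl
  have hinj : Function.Injective f := by
    rw [← MonoidHom.ker_eq_bot_iff, eq_bot_iff]
    rintro ⟨⟨s, hs⟩, ⟨t, ht⟩⟩ hst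
    rw [MonoidHom.mem_ker, hf] at hst
    have h1 : s * t = 1 := hst
    have h2 : t = s⁻¹ := eq_inv_of_mul_eq_one_right h1
    have h3 : t ∈ zpowers x := by rw [h2]; exact inv_mem hs
    have h4 : t = 1 := by
      by_contra hne
      apply hbx
      obtain ⟨j, rfl⟩ := ht
      have h5 : zpowers ((fun k : ℤ => b ^ k) j) = zpowers b := by
        have h6 : zpowers (b ^ j) ≤ zpowers b := zpowers_le.2 (zpow_mem (mem_zpowers b) j)
        refine eq_of_le_of_card_ge h6 ?_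
        have h7 : orderOf (b ^ j) = 3 := orderOf_eq_prime (by
          rw [← zpow_natCast, ← zpow_mul, mul_comm, zpow_mul, zpow_natCast, ← hb, pow_orderOf_eq_one, one_zpow]) hne
        rw [Nat.card_zpowers, Nat.card_zpowers, hb, h7]
      have h8 : b ∈ zpowers ((fun k : ℤ => b ^ k) j) := by rw [h5]; exact mem_zpowers b
      exact (zpowers_le.2 h3) h8
    have h5 : s = 1 := by rw [h4, mul_one] at h1; exact h1
    rw [mem_bot]
    exact Prod.ext (Subtype.ext h5) (Subtype.ext h4)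
  refine ⟨f.range, ?_, ?_, ⟨(⟨x, mem_zpowers x⟩, 1), by rw [hf]; exact mul_one _⟩,
    ⟨(1, ⟨b, mem_zpowers b⟩), by rw [hf]; exact one_mul _⟩⟩
  · rw [← Nat.card_congr (MonoidHom.ofInjective hinj).toEquiv, Nat.card_prod, Nat.card_zpowers, Nat.card_zpowers, hx, hb]
    norm_num
  · rintro _ ⟨⟨⟨_, i, rfl⟩, ⟨_, j, rfl⟩⟩, rfl⟩
    exact ⟨i, j, rfl⟩

/-- the product over the elements of a set of eight elements -/
theorem card_eight {G : Type*} [Group G] [Finite G] {F : Subgroup G} (hF : Nat.card F = 3 ^ 2) [Fintype {f : G // f ∈ F ∧ f ≠ 1}] :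
    Fintype.card {f : G // f ∈ F ∧ f ≠ 1} = 8 := by
  have h1 : Nat.card {f : F // f ≠ 1} = 8 := by
    classical
    have := Fintype.ofFinite F
    rw [Nat.card_eq_fintype_card, Fintype.card_subtype_compl, ← Nat.card_eq_fintype_card, hF]
    simp
  rw [← Nat.card_eq_fintype_card, ← h1]
  refine Nat.card_congr ⟨fun f => ⟨⟨f.1, f.2.1⟩, fun h => f.2.2 (congrArg Subtype.val h)⟩,
    fun f => ⟨f.1.1, f.1.2, fun h => f.2 (Subtype.ext h)⟩, fun _ => rfl, fun _ => rfl⟩

/-- the combinatorics -/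
theorem comb {α : Type*} [Fintype α] [DecidableEq α] (h8 : Fintype.card α = 8) (c : α → ℕ)
    (hc : ∀ a, c a = 2 ∨ c a = 2 ^ 7 ∨ c a = 2 ^ 9 ∨ c a = 2 ^ 13) {p q s : α} (hpq : p ≠ q) (hps : p ≠ s) (hqs : q ≠ s)
    (hcp : c q = c p) (hp : c p ≠ 2) (hprod : ∏ a, c a ^ 3 = (c p) ^ 18 * (2 ^ 25) ^ 6) : c s = 2 ^ 13 := by
  by_contra hne
  have hs : c s ≤ 2 ^ 9 := by
    rcases hc s with h | h | h | h
    · rw [h]; norm_num
    · rw [h]; norm_num
    · rw [h]
    · exact absurd h hne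
  have h1 : ∏ a, c a ^ 3 = c p ^ 3 * (c q ^ 3 * (c s ^ 3 *
      ∏ a ∈ ((Finset.univ.erase p).erase q).erase s, c a ^ 3)) := by
    rw [← Finset.mul_prod_erase Finset.univ (fun a => c a ^ 3) (Finset.mem_univ p),
      ← Finset.mul_prod_erase (Finset.univ.erase p) (fun a => c a ^ 3) (by simp [hpq.symm] : q ∈ Finset.univ.erase p),
      ← Finset.mul_prod_erase ((Finset.univ.erase p).erase q) (fun a => c a ^ 3)
        (by simp [hps.symm, hqs.symm] : s ∈ (Finset.univ.erase p).erase q)]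
  have h2 : (((Finset.univ.erase p).erase q).erase s).card = 5 := by
    rw [Finset.card_erase_of_mem (by simp [hps.symm, hqs.symm] : s ∈ (Finset.univ.erase p).erase q),
      Finset.card_erase_of_mem (by simp [hpq.symm] : q ∈ Finset.univ.erase p),
      Finset.card_erase_of_mem (Finset.mem_univ p), Finset.card_univ, h8]
  have h3 : ∏ a ∈ ((Finset.univ.erase p).erase q).erase s, c a ^ 3 ≤ (2 ^ 39) ^ 5 := by
    rw [← h2]
    refine Finset.prod_le_pow_card _ _ _ fun a _ => ?_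
    have h4 : c a ≤ 2 ^ 13 := by
      rcases hc a with h | h | h | h <;> rw [h] <;> norm_num
    calc c a ^ 3 ≤ (2 ^ 13) ^ 3 := Nat.pow_le_pow_left h4 3
      _ = 2 ^ 39 := by norm_num
  have h4 : c s ^ 3 ≤ 2 ^ 27 := by
    calc c s ^ 3 ≤ (2 ^ 9) ^ 3 := Nat.pow_le_pow_left hs 3
      _ = 2 ^ 27 := by norm_num
  have h5 : (c p) ^ 18 * (2 ^ 25) ^ 6 ≤ c p ^ 3 * (c p ^ 3 * (2 ^ 27 * (2 ^ 39) ^ 5)) := by
    rw [← hprod, h1, hcp]
    exact Nat.mul_le_mul_left _ (Nat.mul_le_mul_left _ (Nat.mul_le_mul h4 h3))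
  rcases hc p with h | h | h | h
  · exact hp h
  · rw [h] at h5; norm_num at h5
  · rw [h] at h5; norm_num at h5
  · rw [h] at h5; norm_num at h5

/-- **Brauer–Wielandt**: if `C_Q(x) ≤ C_Q(b)` has order `2 ^ (r + 1)` -/
theorem rank_twelve {G : Type u} [Group G] [Finite G] {Q : Subgroup G} {z : G} {eta : G → L2}
    {pi : Subgroup.centralizer ({z} : Set G) →* Co1} (h : Chart Q z eta pi) (I : CoOne)
    {x b : Subgroup.centralizer ({z} : Set G)} (hx : orderOf x = 3) (hb : orderOf b = 3) (hxb : x * b = b * x)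
    (hbx : b ∉ zpowers x) (hfr : fr (pi x) ≠ 1) (hle : ∀ q ∈ Q, q * (x : G) = x * q → q * (b : G) = b * q) :
    fr (pi b) = 2 ^ 12 := by
  classical
  have hbx' : (b : G) ∉ zpowers (x : G) := by
    rintro ⟨i, hi⟩
    exact hbx ⟨i, Subtype.ext hi⟩
  have hxG : orderOf (x : G) = 3 := by rw [Subgroup.orderOf_coe, hx]
  have hbG : orderOf (b : G) = 3 := by rw [Subgroup.orderOf_coe, hb]
  obtain ⟨F, hF, hel, hxF, hbF⟩ := exists_nine hxG hbG (congrArg Subtype.val hxb) hbx'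
  have hxb' : Commute (x : G) (b : G) := congrArg Subtype.val hxb
  have hx3 : (x : G) ^ 3 = 1 := by rw [← hxG, pow_orderOf_eq_one]
  have hb3 : (b : G) ^ 3 = 1 := by rw [← hbG, pow_orderOf_eq_one]
  have hFz : ∀ f ∈ F, f * z = z * f := by
    intro f hf
    obtain ⟨i, j, rfl⟩ := hel f hf
    have h1 : Commute (x : G) z := mem_centralizer_singleton_iff.1 x.2
    have h2 : Commute (b : G) z := mem_centralizer_singleton_iff.1 b.2
    exact (h1.zpow_left i).mul_left (h2.zpow_left j)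
  have hF3 : ∀ f ∈ F, f ^ 3 = 1 := by
    intro f hf
    obtain ⟨i, j, rfl⟩ := hel f hf
    have h1 : Commute ((x : G) ^ i) ((b : G) ^ j) := (hxb'.zpow_left i).zpow_right j
    rw [h1.mul_pow, ← zpow_natCast, ← zpow_natCast, ← zpow_mul, ← zpow_mul, mul_comm i, mul_comm j, zpow_mul, zpow_mul,
      zpow_natCast, zpow_natCast, hx3, hb3, one_zpow, one_zpow, mul_one]
  have hFc : ∀ a ∈ F, ∀ b ∈ F, a * b = b * a := by
    intro a ha c hc
    obtain ⟨i, j, rfl⟩ := hel a ha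
    obtain ⟨k, l, rfl⟩ := hel c hc
    have h1 : Commute ((x : G) ^ i * (b : G) ^ j) ((x : G) ^ k) :=
      (((Commute.refl (x : G)).zpow_left i).zpow_right k).mul_left ((hxb'.symm.zpow_left j).zpow_right k)
    have h2 : Commute ((x : G) ^ i * (b : G) ^ j) ((b : G) ^ l) :=
      ((hxb'.zpow_left i).zpow_right l).mul_left (((Commute.refl (b : G)).zpow_left j).zpow_right l)
    exact h1.mul_right h2
  have hFQ : F ≤ normalizer (Q : Set G) := by
    intro f hf
    have key : ∀ f ∈ F, ∀ q ∈ Q, f * q * f⁻¹ ∈ Q := fun f hf q hq => h.large.conj_mem f (hFz f hf) q hq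
    rw [mem_normalizer_iff]
    intro q
    refine ⟨fun hq => key f hf q hq, fun hq => ?_⟩
    have h1 := key f⁻¹ (F.inv_mem hf) _ hq
    have h2 : f⁻¹ * (f * q * f⁻¹) * f⁻¹⁻¹ = q := by group
    rwa [h2] at h1
  haveI : Fintype {f : G // f ∈ F ∧ f ≠ 1} := Fintype.ofFinite _
  have hBW := H565.RankTwo.brauer_wielandt Nat.prime_three F Q hFQ hF hFc hF3 (not_three_dvd h)
  have hcF : Nat.card ↥(Q ⊓ centralizer (F : Set G)) = fr (pi x) * 2 := by
    rw [← card_CQ h (p := 3) (by decide) (x := x) (by rw [← hx, pow_orderOf_eq_one])]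
    congr 1
    congr 1
    ext q
    rw [mem_inf, mem_inf, mem_centralizer_singleton_iff, mem_centralizer_iff]
    constructor
    · rintro ⟨h1, h2⟩
      exact ⟨h1, (h2 x hxF).symm⟩
    · rintro ⟨h1, h2⟩
      refine ⟨h1, fun f hf => ?_⟩
      obtain ⟨i, j, rfl⟩ := hel f hf
      have h3 : Commute q (x : G) := h2
      have h4 : Commute q (b : G) := hle q h1 h2
      exact ((h3.zpow_right i).mul_right (h4.zpow_right j)).symm
  rw [hcF, h.card_Q] at hBW
  rw [← card_CQ h (p := 3) (by decide) (x := x) (by rw [← hx, pow_orderOf_eq_one])] at hBW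
  have h8 := card_eight hF
  obtain ⟨c, hc⟩ : ∃ c : {f : G // f ∈ F ∧ f ≠ 1} → ℕ, ∀ f, c f = Nat.card ↥(Q ⊓ centralizer ({f.1} : Set G)) :=
    ⟨_, fun _ => rfl⟩
  have hf3 : Fact (Nat.Prime 3) := ⟨Nat.prime_three⟩
  have hcv : ∀ k : centralizer ({z} : Set G), orderOf k = 3 →
      Nat.card ↥(Q ⊓ centralizer ({(k : G)} : Set G)) = fr (pi k) * 2 := by
    intro k hk
    exact card_CQ h (p := 3) (by decide) (by rw [← hk, pow_orderOf_eq_one])
  have hcc : ∀ f, c f = 2 ∨ c f = 2 ^ 7 ∨ c f = 2 ^ 9 ∨ c f = 2 ^ 13 := by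
    intro f
    have h1 : orderOf (⟨f.1, mem_centralizer_singleton_iff.2 (hFz f.1 f.2.1)⟩ : centralizer ({z} : Set G)) = 3 := by
      rw [Subgroup.orderOf_mk]
      exact orderOf_eq_prime (hF3 f.1 f.2.1) f.2.2
    have h2 := hcv _ h1
    rw [hc f]
    rcases I.ranks _ (orderOf_pi h h1) with h3 | h3 | h3 | h3
    · left; rw [h2, h3]
    · right; left; rw [h2, h3]; norm_num
    · right; right; left; rw [h2, h3]; norm_num
    · right; right; right; rw [h2, h3]; norm_num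
  have hx1 : (x : G) ≠ 1 := by
    intro h1
    rw [h1, orderOf_one] at hxG
    norm_num at hxG
  have hb1 : (b : G) ≠ 1 := by
    intro h1
    rw [h1, orderOf_one] at hbG
    norm_num at hbG
  obtain ⟨p, hp⟩ : ∃ p : {f : G // f ∈ F ∧ f ≠ 1}, p.1 = (x : G) := ⟨⟨x, hxF, hx1⟩, rfl⟩
  obtain ⟨q, hq⟩ : ∃ p : {f : G // f ∈ F ∧ f ≠ 1}, p.1 = (x : G)⁻¹ :=
    ⟨⟨(x : G)⁻¹, F.inv_mem hxF, fun h0 => hx1 (inv_eq_one.1 h0)⟩, rfl⟩
  obtain ⟨s, hs⟩ : ∃ p : {f : G // f ∈ F ∧ f ≠ 1}, p.1 = (b : G) := ⟨⟨b, hbF, hb1⟩, rfl⟩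
  have hcp : c p = fr (pi x) * 2 := by rw [hc, hp, hcv x hx]
  have hcq : c q = c p := by
    rw [hc, hc, hp, hq]
    congr 1
    congr 1
    ext g
    rw [mem_inf, mem_inf, mem_centralizer_singleton_iff, mem_centralizer_singleton_iff]
    refine and_congr_right fun _ => ?_
    constructor
    · intro h1
      have h2 : Commute g (x : G)⁻¹ := h1
      exact (by simpa using h2.inv_right : Commute g (x : G))
    · intro h1
      have h2 : Commute g (x : G) := h1
      exact h2.inv_right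
  have hfin : c s = 2 ^ 13 := by
    refine comb h8 c hcc (p := p) (q := q) (s := s) ?_ ?_ ?_ hcq ?_ ?_
    · intro h0
      have h1 : (x : G) = (x : G)⁻¹ := by
        have h1 := congrArg Subtype.val h0
        rwa [hp, hq] at h1
      have h2 : (x : G) ^ 2 = 1 := by
        rw [pow_two]
        nth_rw 2 [h1]
        exact mul_inv_cancel _
      have h3 := orderOf_dvd_of_pow_eq_one h2
      rw [hxG] at h3
      norm_num at h3
    · intro h0
      apply hbx'
      rw [← hs, ← h0, hp]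
      exact mem_zpowers _
    · intro h0
      apply hbx'
      rw [← hs, ← h0, hq]
      exact inv_mem (mem_zpowers _)
    · rw [hcp]
      intro h0
      exact hfr (by omega)
    · rw [hcp]
      have e1 : ∏ a, c a ^ 3 = ∏ f : {f : G // f ∈ F ∧ f ≠ 1}, Nat.card ↥(Q ⊓ centralizer ({f.1} : Set G)) ^ 3 :=
        Finset.prod_congr rfl fun f _ => by rw [hc]
      rw [e1, hBW, card_CQ h (p := 3) (by decide) (x := x) (by rw [← hx, pow_orderOf_eq_one])]
      norm_num
  rw [hc, hs, hcv b hb] at hfin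
  omega


/-! ### the main argument -/

/-- the element `b` : `u` commutes with `b = a a^u` -/
theorem exists_b {D : Type u} [Group D] [Finite D] {z x : D} {N : Subgroup D} {A : Type*} [Group A]
    {f : ↥(centralizer ({z} : Set D)) →* A} (h : BpSpor.M5.Rad 3 z x N f) {a w : D} (ha : a ∈ N) (ha3 : a ^ 3 = 1)
    (hww : w * w = 1) (hwz : w * z = z * w) (hne : w ≠ z)
    (hodd : ∀ t : D, t * t = 1 → t ≠ 1 → a * t = t * a → False) :
    ∃ b ∈ N, b ^ 3 = 1 ∧ a * b = b * a ∧ w * b = b * w ∧ b ∉ zpowers x := by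
  have hp3 : Fact (Nat.Prime 3) := ⟨Nat.prime_three⟩
  have hwi : w⁻¹ = w := inv_eq_of_mul_eq_one_left hww
  obtain ⟨a', ha'⟩ : ∃ a', a' = w * a * w⁻¹ := ⟨_, rfl⟩
  have ha'N : a' ∈ N := ha' ▸ h.nN.conj_mem a ha w
  have hwa' : w * a' * w⁻¹ = a := by
    rw [ha', hwi]
    calc w * (w * a * w) * w = (w * w) * a * (w * w) := by group
      _ = a := by rw [hww, one_mul, mul_one]
  have hwx : ∀ i : ℤ, w * x ^ i * w⁻¹ = x ^ i := fun i => by rw [h.xzc i w, mul_inv_cancel_right]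
  -- `a` and `a'` commute
  have hcomm : a * a' = a' * a := by
    obtain ⟨i, hi⟩ := h.comm (by norm_num) ha ha'N
    have h1 : a' * a * a'⁻¹ = a * x ^ i := by
      calc a' * a * a'⁻¹ = (w * a * w⁻¹) * (w * a' * w⁻¹) * (w * a * w⁻¹)⁻¹ := by rw [hwa', ← ha']
        _ = w * (a * a' * a⁻¹) * w⁻¹ := by group
        _ = (w * a' * w⁻¹) * (w * x ^ i * w⁻¹) := by rw [hi]; group
        _ = a * x ^ i := by rw [hwa', hwx]
    have h2 : a * a' = a' * a * x ^ i := by
      calc a * a' = (a * a' * a⁻¹) * a := by group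
        _ = a' * x ^ i * a := by rw [hi]
        _ = a' * (x ^ i * a) := by group
        _ = a' * (a * x ^ i) := by rw [h.xzc i a]
        _ = _ := by group
    have h3 : a' * a = a * a' * x ^ i := by
      calc a' * a = (a' * a * a'⁻¹) * a' := by group
        _ = a * x ^ i * a' := by rw [h1]
        _ = a * (x ^ i * a') := by group
        _ = a * (a' * x ^ i) := by rw [h.xzc i a']
        _ = _ := by group
    have h4 : x ^ i * x ^ i = 1 := by
      rw [h3, mul_assoc, mul_assoc] at h2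
      exact mul_eq_left.1 (by rw [← mul_assoc] at h2; exact h2.symm)
    rw [h2, h.sq_one (by norm_num) h4, mul_one]
  refine ⟨a * a', N.mul_mem ha ha'N, ?_, ?_, ?_, ?_⟩
  · rw [(show Commute a a' from hcomm).mul_pow, ha3, one_mul, ha', conj_pow, ha3, mul_one, mul_inv_cancel]
  · rw [← mul_assoc, mul_assoc, mul_assoc, ← hcomm]
  · calc w * (a * a') = (w * a * w⁻¹) * (w * a' * w⁻¹) * w := by group
      _ = a' * a * w := by rw [hwa', ← ha']
      _ = a * a' * w := by rw [hcomm]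
  · rintro ⟨k, hk⟩
    have hk' : x ^ k = a * a' := hk
    obtain ⟨j, hj⟩ := h.inv (by norm_num) ha
    -- `z w` centralizes `a` modulo `⟨x⟩`
    have h1 : a' = a⁻¹ * x ^ k := by rw [hk']; group
    have h2 : (z * w) * (z * w) = 1 := by
      calc (z * w) * (z * w) = z * (w * z) * w := by group
        _ = (z * z) * (w * w) := by rw [hwz]; group
        _ = 1 := by rw [h.zz, hww, one_mul]
    have h3 : (z * w) * a * (z * w)⁻¹ = a * x ^ (k - j) := by
      calc (z * w) * a * (z * w)⁻¹ = z * (w * a * w⁻¹) * z⁻¹ := by group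
        _ = z * (a⁻¹ * x ^ k) * z⁻¹ := by rw [← ha', h1]
        _ = (z * a * z⁻¹)⁻¹ * (z * x ^ k * z⁻¹) := by group
        _ = (a⁻¹ * x ^ j)⁻¹ * x ^ k := by rw [hj, h.xzc k z, mul_inv_cancel_right]
        _ = (x ^ (-j) * a) * x ^ k := by rw [zpow_neg]; group
        _ = (a * x ^ (-j)) * x ^ k := by rw [h.xzc (-j) a]
        _ = _ := by rw [mul_assoc, ← zpow_add, neg_add_eq_sub]
    have h4 := h.cent_of_mod (by norm_num) h2 h3
    rw [h4, mul_one, mul_inv_eq_iff_eq_mul] at h3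
    refine hodd (z * w) h2 ?_ h3.symm
    intro h5
    apply hne
    calc w = (z * z) * w := by rw [h.zz, one_mul]
      _ = z * (z * w) := by group
      _ = z := by rw [h5, mul_one]

section chart

variable {G : Type u} [Group G] {Q : Subgroup G} {z : G} {eta : G → L2}
  {pi : Subgroup.centralizer ({z} : Set G) →* Co1}

/-- an element commuting with `x₀` of fixed rank 0 -/
theorem false_of_comm_zero [Finite G] [IsSimpleGroup G] (hna : ¬ IsMulCommutative G) (h : Chart Q z eta pi)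
    (hco : IsSimpleGroup Co1) (hcn : ¬ IsMulCommutative Co1) (I : CoOne) (ht : TrNe z pi)
    (hinv : ∀ x t : G, x ^ 3 = 1 → t * t = 1 → t ≠ 1 → x * t = t * x → ∃ g : G, (g * z * g⁻¹) * x = x * (g * z * g⁻¹))
    {x : centralizer ({z} : Set G)} {w g : G} (hx : orderOf x = 3) (hfr : fr (pi x) = 1) (hwz : w * z = z * w)
    (hxw : (x : G) * w = w * x) (hne : w ≠ z) (hg : g * z * g⁻¹ = w) {a : G} (ha : orderOf a = 3)
    (hR : RC (MulAut.conj a)) (hax : a * x = x * a) : False := by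
  have hp3 : Fact (Nat.Prime 3) := ⟨Nat.prime_three⟩
  have hz2 : z * z = 1 := h.large.z_sq
  have hw2 : w * w = 1 := by
    rw [← hg]
    calc g * z * g⁻¹ * (g * z * g⁻¹) = g * (z * z) * g⁻¹ := by group
      _ = 1 := by rw [hz2]; group
  have hw1 : w ≠ 1 := by
    intro h1
    apply h.large.z_ne
    calc z = g⁻¹ * (g * z * g⁻¹) * g := by group
      _ = 1 := by rw [hg, h1]; group
  have ha3 : a ^ 3 = 1 := by rw [← ha, pow_orderOf_eq_one]
  have hx3 : x ^ 3 = 1 := by rw [← hx, pow_orderOf_eq_one]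
  have hxG : orderOf (x : G) = 3 := by rw [Subgroup.orderOf_coe, hx]
  have hx1 : (x : G) ≠ 1 := by
    intro h1
    rw [h1, orderOf_one] at hxG
    norm_num at hxG
  have hev : ∀ t : G, t * t = 1 → t ≠ 1 → a * t = t * a → False := by
    intro t h1 h2 h3
    obtain ⟨k, hk⟩ := hinv a t ha3 h1 h2 h3
    exact false_of_comm_conj hna h hco hcn (hp := hp3) (by decide) ha hR hk.symm
  -- the structure of `C(x)`
  have hgood := Listed.suz.{0} (I.suz (pi x) (orderOf_pi h hx) hfr)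
  have hAs := hgood.simple
  have hAc : ¬ Group.IsSolvable (XX (pi x)) := by
    intro hs
    apply hgood.nc
    rw [eq_top_iff]
    intro s _
    rw [mem_center_iff]
    intro t
    exact IsSimpleGroup.comm_iff_isSolvable.2 hs t s
  obtain ⟨N, hN⟩ := BpSpor.M5.exists_rad h (by norm_num : (3 : ℕ) ≠ 2) hx hfr
    (fun d hd hc => isolated h ht hx hfr d hd hc) hAs hgood.even
  obtain ⟨ρ, hρ, hρN, -, hρz, hρs⟩ := H847.RadFive.exists_rho hAc hN
  have hfA : Finite (XX (pi x)) := Finite.of_surjective ρ hρ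
  have haD : a ∈ centralizer ({(x : G)} : Set G) := mem_centralizer_singleton_iff.2 hax
  have hrad := mem_radIn_coe (x := ⟨a, haD⟩) |>.1 (mem_radIn hR (cent_ne_top hna hx1) haD)
  have hρa : ρ ⟨a, haD⟩ = 1 := by
    have h1 := H459.Rad.map_rad_le hρ hrad
    rw [H459.Rad.rad_eq_bot_of_simple hAc, mem_bot] at h1
    exact h1
  have ha3' : (⟨a, haD⟩ : ↥(centralizer ({(x : G)} : Set G))) ^ 3 = 1 := Subtype.ext ha3
  have haN : (⟨a, haD⟩ : ↥(centralizer ({(x : G)} : Set G))) ∈ N := by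
    have h1 := hρs _ hρa
    have h2 : (⟨a, haD⟩ : ↥(centralizer ({(x : G)} : Set G))) =
        (⟨a, haD⟩ * ⟨a, haD⟩) * (⟨a, haD⟩ * ⟨a, haD⟩) := by
      rw [← pow_two, ← pow_two, ← pow_mul, show 2 * 2 = 3 + 1 from rfl, pow_succ, ha3', one_mul]
    rw [h2]
    exact N.mul_mem h1 h1
  have hwD : w ∈ centralizer ({(x : G)} : Set G) := mem_centralizer_singleton_iff.2 hxw.symm
  obtain ⟨⟨b, hbD⟩, hbN, hb3, hab, hwb, hbx⟩ := exists_b hN (w := ⟨w, hwD⟩) haN ha3' (Subtype.ext hw2)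
    (Subtype.ext hwz) (fun h1 => hne (congrArg Subtype.val h1)) (fun t h1 h2 h3 => hev t (congrArg Subtype.val h1)
      (fun h4 => h2 (Subtype.ext h4)) (congrArg Subtype.val h3))
  have hb3' : b ^ 3 = 1 := congrArg Subtype.val hb3
  have hab' : a * b = b * a := congrArg Subtype.val hab
  have hwb' : w * b = b * w := congrArg Subtype.val hwb
  have hbx' : b * x = x * b := mem_centralizer_singleton_iff.1 hbD
  have hbxn : b ∉ zpowers (x : G) := by
    rintro ⟨i, hi⟩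
    exact hbx ⟨i, Subtype.ext hi⟩
  have hb1 : b ≠ 1 := fun h1 => hbxn (h1 ▸ one_mem _)
  have hbo : orderOf b = 3 := orderOf_eq_prime hb3' hb1
  -- conjugate by `g⁻¹`
  have key : ∀ t : G, w * t = t * w → (g⁻¹ * t * g) * z = z * (g⁻¹ * t * g) := by
    intro t h1
    calc (g⁻¹ * t * g) * z = g⁻¹ * (t * (g * z * g⁻¹)) * g := by group
      _ = g⁻¹ * ((g * z * g⁻¹) * t) * g := by rw [hg, h1]
      _ = z * (g⁻¹ * t * g) := by group
  have hconj : ∀ t : G, g * (g⁻¹ * t * g) * g⁻¹ = t := fun t => by group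
  obtain ⟨x', hx'⟩ : ∃ x' : centralizer ({z} : Set G), (x' : G) = g⁻¹ * x * g :=
    ⟨⟨_, mem_centralizer_singleton_iff.2 (key _ hxw.symm)⟩, rfl⟩
  obtain ⟨b', hb'⟩ : ∃ b' : centralizer ({z} : Set G), (b' : G) = g⁻¹ * b * g :=
    ⟨⟨_, mem_centralizer_singleton_iff.2 (key _ hwb')⟩, rfl⟩
  have ho : ∀ t : G, orderOf (g⁻¹ * t * g) = orderOf t := fun t => by
    have := orderOf_conj' (a := t) g⁻¹
    rwa [inv_inv] at this
  have hx'o : orderOf x' = 3 := by rw [← Subgroup.orderOf_coe, hx', ho, hxG]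
  have hb'o : orderOf b' = 3 := by rw [← Subgroup.orderOf_coe, hb', ho, hbo]
  have h12 : fr (pi b') = 2 ^ 12 := by
    refine rank_twelve h I hx'o hb'o (Subtype.ext ?_) ?_ ?_ ?_
    · rw [Subgroup.coe_mul, Subgroup.coe_mul, hx', hb']
      calc g⁻¹ * x * g * (g⁻¹ * b * g) = g⁻¹ * (x * b) * g := by group
        _ = g⁻¹ * (b * x) * g := by rw [hbx']
        _ = _ := by group
    · rintro ⟨i, hi⟩
      apply hbxn
      have h1 : (x' : G) ^ i = b' := congrArg Subtype.val hi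
      rw [hx', hb'] at h1
      refine ⟨i, ?_⟩
      show (x : G) ^ i = b
      have h2 : g⁻¹ * (x : G) * g = g⁻¹ * x * g⁻¹⁻¹ := by rw [inv_inv]
      rw [h2, conj_zpow, inv_inv] at h1
      exact mul_left_cancel (mul_right_cancel h1)
    · intro h1
      refine ht x x' w g hx hx'o hfr h1 hwz hw2 hw1 hne hxw ?_
      rw [hx']
      calc g * ((g⁻¹ * (x : G) * g) * z) * g⁻¹ = x * (g * z * g⁻¹) := by group
        _ = x * w := by rw [hg]
    · intro q hq hqx
      -- `[b, g q g⁻¹] ∈ N ∩ g Q g⁻¹`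
      have h1 : (g * q * g⁻¹) * x = x * (g * q * g⁻¹) := by
        rw [hx'] at hqx
        calc (g * q * g⁻¹) * x = g * (q * (g⁻¹ * x * g)) * g⁻¹ := by group
          _ = g * ((g⁻¹ * x * g) * q) * g⁻¹ := by rw [hqx]
          _ = _ := by group
      have hqD : g * q * g⁻¹ ∈ centralizer ({(x : G)} : Set G) := mem_centralizer_singleton_iff.2 h1
      have h2 := N.mul_mem hbN (hN.nN.conj_mem _ (N.inv_mem hbN) ⟨_, hqD⟩)
      have h3 : (b' : G) * q * (b' : G)⁻¹ * q⁻¹ ∈ Q :=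
        Q.mul_mem (conj_Q h b' q hq) (Q.inv_mem hq)
      have h4 : ((b' : G) * q * (b' : G)⁻¹ * q⁻¹) = 1 := by
        have h5 := MFive.pow_four h h3
        have h6 : g * ((b' : G) * q * (b' : G)⁻¹ * q⁻¹) * g⁻¹ = b * ((g * q * g⁻¹) * b⁻¹ * (g * q * g⁻¹)⁻¹) := by
          rw [hb']; group
        have h7 : orderOf ((⟨b, hbD⟩ : ↥(centralizer ({(x : G)} : Set G))) * (⟨_, hqD⟩ * ⟨b, hbD⟩⁻¹ * ⟨_, hqD⟩⁻¹)) ∣ 4 := by
          apply orderOf_dvd_of_pow_eq_one
          apply Subtype.ext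
          show (b * ((g * q * g⁻¹) * b⁻¹ * (g * q * g⁻¹)⁻¹)) ^ 4 = 1
          rw [← h6, conj_pow, h5, mul_one, mul_inv_cancel]
        have h8 : orderOf ((⟨b, hbD⟩ : ↥(centralizer ({(x : G)} : Set G))) * (⟨_, hqD⟩ * ⟨b, hbD⟩⁻¹ * ⟨_, hqD⟩⁻¹)) ∣
            Nat.card N := by
          rw [← Subgroup.orderOf_mk _ h2]
          exact orderOf_dvd_natCard _
        have h9 : orderOf ((⟨b, hbD⟩ : ↥(centralizer ({(x : G)} : Set G))) * (⟨_, hqD⟩ * ⟨b, hbD⟩⁻¹ * ⟨_, hqD⟩⁻¹)) = 1 := by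
          have h10 : Nat.Coprime 4 (Nat.card N) := by
            have : Nat.Coprime (2 ^ 2) (Nat.card N) := Nat.Coprime.pow_left 2 (Nat.coprime_two_left.2 hN.oN)
            exact this
          exact Nat.eq_one_of_dvd_coprimes h10 h7 h8
        have h11 := congrArg Subtype.val (orderOf_eq_one_iff.1 h9)
        have h12 : b * ((g * q * g⁻¹) * b⁻¹ * (g * q * g⁻¹)⁻¹) = 1 := h11
        rw [← h6] at h12
        exact conj_eq_one_iff.1 h12
      rw [mul_inv_eq_one, mul_inv_eq_iff_eq_mul] at h4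
      exact h4.symm
  have hG := good_of_inputs h I hb'o (Or.inr h12)
  -- `a ∈ ⟨b⟩`
  have hag : (g⁻¹ * a * g) * (b' : G) = b' * (g⁻¹ * a * g) := by
    rw [hb']
    calc (g⁻¹ * a * g) * (g⁻¹ * b * g) = g⁻¹ * (a * b) * g := by group
      _ = g⁻¹ * (b * a) * g := by rw [hab']
      _ = _ := by group
  have hRa := RC_conj hR g⁻¹
  rw [inv_inv] at hRa
  have hb'1 : (b' : G) ≠ 1 := by
    intro h1
    have h2 : b' = 1 := Subtype.ext h1
    rw [h2, orderOf_one] at hb'o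
    norm_num at hb'o
  have hmem : g⁻¹ * a * g ∈ centralizer ({(b' : G)} : Set G) := mem_centralizer_singleton_iff.2 hag
  have h13 := mem_radIn_coe (x := ⟨_, hmem⟩) |>.1 (mem_radIn hRa (cent_ne_top hna hb'1) hmem)
  have hXs := hG.simple
  have h14 := rad_le_ker (S := XX (b' : G)) (by
    intro hm
    apply hG.nc
    rw [eq_top_iff]
    intro s _
    rw [mem_center_iff]
    intro t
    exact hm.is_comm.comm t s) (QuotientGroup.mk' (Zx (b' : G))) (QuotientGroup.mk'_surjective _) h13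
  rw [QuotientGroup.ker_mk'] at h14
  obtain ⟨i, hi⟩ := h14
  have h15 : (b' : G) ^ i = g⁻¹ * a * g := congrArg Subtype.val hi
  refine false_of_comm_z hna h hco hcn (hp := hp3) (by decide) (a := g⁻¹ * a * g) (by rw [ho, ha]) hRa ?_
  rw [← h15]
  have h16 : Commute (b' : G) z := mem_centralizer_singleton_iff.1 b'.2
  exact h16.zpow_left i

/-- **No element of order 3** -/
theorem false_three [Finite G] [IsSimpleGroup G] (hna : ¬ IsMulCommutative G) (h : Chart Q z eta pi)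
    (hco : IsSimpleGroup Co1) (hcn : ¬ IsMulCommutative Co1) (I : CoOne) (ht : TrNe z pi) (hpr : HasPair z pi)
    (hinv : ∀ x t : G, x ^ 3 = 1 → t * t = 1 → t ≠ 1 → x * t = t * x → ∃ g : G, (g * z * g⁻¹) * x = x * (g * z * g⁻¹))
    {a : G} (ha : orderOf a = 3) (hR : RC (MulAut.conj a)) : False := by
  have hp3 : Fact (Nat.Prime 3) := ⟨Nat.prime_three⟩
  obtain ⟨y, hy, hF⟩ := H711.MonReal.exists_fi24 h I
  have hy3 : y ^ 3 = 1 := by rw [← hy, pow_orderOf_eq_one]
  have hp : IsPGroup 3 (zpowers y) := IsPGroup.of_card (n := 1) (by rw [Nat.card_zpowers, hy, pow_one])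
  obtain ⟨P, hP⟩ := hp.exists_le_sylow
  have hyP : y ∈ P := hP (mem_zpowers y)
  -- `a` in `P`
  have hpa : IsPGroup 3 (zpowers a) := IsPGroup.of_card (n := 1) (by rw [Nat.card_zpowers, ha, pow_one])
  obtain ⟨P', hP'⟩ := hpa.exists_le_sylow
  obtain ⟨c, hc⟩ := MulAction.exists_smul_eq G P' P
  have haP : c * a * c⁻¹ ∈ (P : Subgroup G) := by
    rw [← hc, Sylow.coe_subgroup_smul]
    exact smul_mem_pointwise_smul a (MulAut.conj c) _ (hP' (mem_zpowers a))
  obtain ⟨a₁, ha₁⟩ : ∃ a₁, a₁ = c * a * c⁻¹ := ⟨_, rfl⟩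
  rw [← ha₁] at haP
  have hR₁ : RC (MulAut.conj a₁) := ha₁ ▸ RC_conj hR c
  have ho₁ : orderOf a₁ = 3 := by rw [ha₁, orderOf_conj', ha]
  -- a central element
  have hne : Nontrivial ↥(P : Subgroup G) := by
    refine ⟨⟨⟨y, hyP⟩, 1, fun h0 => ?_⟩⟩
    have : y = 1 := congrArg Subtype.val h0
    rw [this, orderOf_one] at hy
    norm_num at hy
  have hcn' : Nontrivial (Subgroup.center ↥(P : Subgroup G)) := P.isPGroup'.center_nontrivial
  have h3 : 3 ∣ Nat.card (Subgroup.center ↥(P : Subgroup G)) := by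
    obtain ⟨n, hn⟩ := (P.isPGroup'.to_subgroup (Subgroup.center ↥(P : Subgroup G))).exists_card_eq
    rw [hn]
    refine dvd_pow_self 3 fun h0 => ?_
    rw [h0, pow_zero] at hn
    exact (Finite.one_lt_card (α := Subgroup.center ↥(P : Subgroup G))).ne' hn
  obtain ⟨⟨⟨w, hwP⟩, hwc⟩, hw⟩ := exists_prime_orderOf_dvd_card' 3 h3
  rw [Subgroup.orderOf_mk, Subgroup.orderOf_mk] at hw
  have hw3 : w ^ 3 = 1 := by rw [← hw, pow_orderOf_eq_one]
  have hcen : ∀ y ∈ P, y * w = w * y := fun y hy =>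
    congrArg Subtype.val (Subgroup.mem_center_iff.1 hwc ⟨y, hy⟩)
  obtain ⟨t, htt, ht1, -, htw⟩ := H711.MonReal.even_of_XX hy3 hw3 (hcen y hyP).symm fun g hg => H711.MonReal.even_of_iso hF hg
  obtain ⟨g, hg⟩ := hinv w t hw3 htt ht1 htw.symm
  -- conjugate `w` into `C(z)`
  have hwz : (g⁻¹ * w * g) * z = z * (g⁻¹ * w * g) := by
    calc (g⁻¹ * w * g) * z = g⁻¹ * (w * (g * z * g⁻¹)) * g := by group
      _ = g⁻¹ * ((g * z * g⁻¹) * w) * g := by rw [hg]
      _ = z * (g⁻¹ * w * g) := by group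
  obtain ⟨v, hv⟩ : ∃ v : centralizer ({z} : Set G), (v : G) = g⁻¹ * w * g :=
    ⟨⟨_, mem_centralizer_singleton_iff.2 hwz⟩, rfl⟩
  have hvo : orderOf v = 3 := by
    rw [← Subgroup.orderOf_coe, hv]
    have := orderOf_conj' (a := w) g⁻¹
    rw [inv_inv] at this
    rw [this, hw]
  have hR₂ := RC_conj hR₁ g⁻¹
  rw [inv_inv] at hR₂
  have ho₂ : orderOf (g⁻¹ * a₁ * g) = 3 := by
    have := orderOf_conj' (a := a₁) g⁻¹
    rw [inv_inv] at this
    rw [this, ho₁]
  have hav : (g⁻¹ * a₁ * g) * (v : G) = v * (g⁻¹ * a₁ * g) := by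
    rw [hv]
    calc (g⁻¹ * a₁ * g) * (g⁻¹ * w * g) = g⁻¹ * (a₁ * w) * g := by group
      _ = g⁻¹ * (w * a₁) * g := by rw [hcen a₁ haP]
      _ = _ := by group
  obtain ⟨x₀, u, k, hx₀, hfr₀, huz, hux, hune, hk⟩ := id hpr
  -- conjugating to `x₀`
  have hfin : ∀ d : G, d * (v : G) * d⁻¹ = x₀ → False := by
    intro d hd
    refine false_of_comm_zero hna h hco hcn I ht hinv hx₀ hfr₀ huz hux hune hk (a := d * (g⁻¹ * a₁ * g) * d⁻¹)
      (by rw [orderOf_conj', ho₂]) (RC_conj hR₂ d) ?_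
    rw [← hd]
    calc d * (g⁻¹ * a₁ * g) * d⁻¹ * (d * (v : G) * d⁻¹) = d * ((g⁻¹ * a₁ * g) * v) * d⁻¹ := by group
      _ = d * (v * (g⁻¹ * a₁ * g)) * d⁻¹ := by rw [hav]
      _ = _ := by group
  rcases I.ranks _ (orderOf_pi h hvo) with h1 | h1 | h1
  · obtain ⟨s, hs⟩ := LThreeCo1.Ranks.zero (pi v) (pi x₀) (orderOf_pi h hvo) (orderOf_pi h hx₀) h1 hfr₀
    obtain ⟨d, hd⟩ := exists_conj_of_conj h (by rw [← hvo, pow_orderOf_eq_one]) (by rw [← hx₀, pow_orderOf_eq_one]) hs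
    exact hfin d (congrArg Subtype.val hd)
  · obtain ⟨d, hd⟩ := conj_six h ht I.ranks I.six (fun x hx h2 => ⟨(good_of_inputs h I hx h2).simple,
      (good_of_inputs h I hx h2).nc⟩) hx₀ hfr₀ huz hux hune hk hvo h1
    exact hfin d hd
  · have hG := good_of_inputs h I hvo h1
    have hv1 : (v : G) ≠ 1 := by
      intro h1
      have h2 : v = 1 := Subtype.ext h1
      rw [h2, orderOf_one] at hvo
      norm_num at hvo
    have hmem : g⁻¹ * a₁ * g ∈ centralizer ({(v : G)} : Set G) := mem_centralizer_singleton_iff.2 hav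
    have h13 := mem_radIn_coe (x := ⟨_, hmem⟩) |>.1 (mem_radIn hR₂ (cent_ne_top hna hv1) hmem)
    have hXs := hG.simple
    have h14 := rad_le_ker (S := XX (v : G)) (by
      intro hm
      apply hG.nc
      rw [eq_top_iff]
      intro s _
      rw [mem_center_iff]
      intro t
      exact hm.is_comm.comm t s) (QuotientGroup.mk' (Zx (v : G))) (QuotientGroup.mk'_surjective _) h13
    rw [QuotientGroup.ker_mk'] at h14
    obtain ⟨i, hi⟩ := h14
    have h15 : (v : G) ^ i = g⁻¹ * a₁ * g := congrArg Subtype.val hi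
    refine false_of_comm_z hna h hco hcn (hp := hp3) (by decide) (a := g⁻¹ * a₁ * g) ho₂ hR₂ ?_
    rw [← h15]
    have h16 : Commute (v : G) z := mem_centralizer_singleton_iff.1 v.2
    exact h16.zpow_left i

end chart

end Cfsg.Agent.H561.AAM3
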