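import Cfsg.Agent.H561.AATool
import Cfsg.Agent.H256.OddInner
import Cfsg.Agent.H711.FiThreeRow
import Cfsg.Agent.H805.MTwentyFour
import Cfsg.Agent.S1697

/-!
# The `AA` problem for `Fi23` (helper561)

The subgroup `PΩ8+(3):S3` (index 137632) of `Fi23` as the centralizer in `Fi24` of two transpositions which do not commute.
-/

set_option autoImplicit false

namespace Cfsg.Agent.H561.AAFi23

open Subgroup Cfsg Cfsg.Agent.H459.Rad Cfsg.Agent.H460.AA Cfsg.Agent.H102.AAGen Cfsg.Agent.H561.AATool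
open Cfsg.Agent.Fischer480.Defs Cfsg.Agent.R08 Cfsg.Agent.R08.FiTwentyFour
open Cfsg.Agent.Fischer.Fi24Class (gen gen_sq)
open Cfsg.Agent.H830.Con24 Cfsg.Agent.H830.Type24 Cfsg.Agent.ThreeTransPolar.Basic
open Cfsg.Agent.H711.FiThreeRow

theorem card_fi23 : Nat.card Spor.Fi23 = 4089470473293004800 := Cfsg.Agent.S1697.result.2

theorem finite_fi23 : Finite Spor.Fi23 := Nat.finite_of_card_ne_zero (by rw [card_fi23]; norm_num)

theorem simple_fi23 : IsSimpleGroup Spor.Fi23 := Cfsg.Agent.S1697.result.1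

theorem na_fi23 : ¬ IsMulCommutative Spor.Fi23 := by
  have := finite_fi23
  have := simple_fi23
  exact not_comm_of_card (by rw [card_fi23]; norm_num)

/-- solvable normal subgroups of the group generated by the transpositions commuting with `d`, `c` are central -/
theorem rad_com {d c : Spor.Fi24} (hd : d ∈ L) (hc : c ∈ L) (hdc : ¬ Commute d c) :
    solvableRadical (closure (Com L d c)) ≤ center ↥(closure (Com L d c)) := by
  have := finite_Fi24
  have hT := Cfsg.Agent.TSp.Basic.tset_of_fdata (Cfsg.Agent.TSp.OrdersT.inh fgroup).fd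
  have h := Cfsg.Agent.H805.MTwentyFour.h8_of_isT8 hT isT8 hd hc hdc
  have hcls := Cfsg.Agent.H805.Sub.class_of_fdata h.fd
  have h2' : ∃ a ∈ Cfsg.Agent.H805.Sub.ES (Com L d c), ∃ b ∈ Cfsg.Agent.H805.Sub.ES (Com L d c), a ≠ b := by
    obtain ⟨a, ha⟩ := h.fd.nonempty
    obtain ⟨u, hu, v, hv, h1, -⟩ := Cfsg.Agent.H805.CompT.cp_pair h ha
    exact ⟨u, Cfsg.Agent.H805.CompT.cp_subset ha hu, v, Cfsg.Agent.H805.CompT.cp_subset ha hv, h1⟩
  have k2 := Cfsg.Agent.H805.Sub.pCore_two_le h.fd h2' h.red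
  have k3 := Cfsg.Agent.H805.Sub.pCore_three_le h.fd h2' h.wred
  intro x hx
  have h1 := map_rad_le (QuotientGroup.mk'_surjective (center ↥(closure (Com L d c)))) hx
  have h3 := Cfsg.Agent.H805.Base.solvable_le_center hcls k2 k3 (rad_normal _) (rad_solvable _) h1
  rw [h.cen, mem_bot] at h3
  exact (QuotientGroup.eq_one_iff x).1 h3

/-- the order of the group generated by the transpositions commuting with `d`, `c`, its centre and radical -/
theorem com_facts {d c : Spor.Fi24} (hd : d ∈ L) (hc : c ∈ L) (hdc : ¬ Commute d c) :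
    Nat.card ↥(closure (Com L d c)) = 29713078886400 ∧ center ↥(closure (Com L d c)) = ⊥ ∧
      solvableRadical ↥(closure (Com L d c)) = ⊥ := by
  have := finite_Fi24
  have h1 := card_two fgroup isT8 hd hc hdc
  rw [← closure_com hd hc hdc] at h1
  obtain ⟨N, hN, ⟨e⟩, ⟨f⟩⟩ := tri_com fgroup isT8 hd hc hdc
  have h2 := N.card_eq_card_quotient_mul_card_subgroup
  rw [Nat.card_congr e.toEquiv, Nat.card_congr f.toEquiv, H830.TriMain.card_pomega, Nat.card_perm, Nat.card_fin] at h2
  have h3 := (center ↥(closure (Com L d c))).card_eq_card_quotient_mul_card_subgroup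
  rw [h2, h1] at h3
  have h4 : Nat.card (center ↥(closure (Com L d c))) = 1 := by
    have e6 : (3 : ℕ).factorial = 6 := rfl
    rw [e6] at h3
    omega
  have h5 : center ↥(closure (Com L d c)) = ⊥ := Subgroup.card_eq_one.1 h4
  refine ⟨by rw [h1], h5, ?_⟩
  rw [eq_bot_iff, ← h5]
  exact rad_com hd hc hdc

/-- a normal subgroup of order two is central -/
theorem le_center_of_card_two {G : Type*} [Group G] {N : Subgroup G} [hN : N.Normal] (h : Nat.card N = 2) :
    N ≤ center G := by
  intro x hx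
  rw [mem_center_iff]
  intro g
  by_cases hx1 : x = 1
  · rw [hx1, mul_one, one_mul]
  obtain ⟨y, -, hy⟩ := (Nat.card_eq_two_iff' (1 : N)).1 h
  have h1 : (⟨x, hx⟩ : N) = y := hy _ fun h0 => hx1 (congrArg Subtype.val h0)
  have h2 : (⟨g * x * g⁻¹, hN.conj_mem x hx g⟩ : N) = y := hy _ fun h0 => hx1 (by
    have h3 : g * x * g⁻¹ = 1 := congrArg Subtype.val h0
    calc x = g⁻¹ * (g * x * g⁻¹) * g := by group
      _ = 1 := by rw [h3]; group)
  have h3 : g * x * g⁻¹ = x := congrArg Subtype.val (h2.trans h1.symm)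
  exact mul_inv_eq_iff_eq_mul.1 h3

/-- the subgroup `PΩ8+(3):S3` of `Fi23` -/
theorem exists_sub : ∃ H : Subgroup Spor.Fi23, H.index = 137632 ∧ solvableRadical H = ⊥ := by
  have := finite_Fi24
  have := finite_fi23
  obtain ⟨c, hc, hdc⟩ := exists_pair
  obtain ⟨h1, h2, h3⟩ := com_facts (gen_mem_L .l) hc hdc
  rw [closure_com (gen_mem_L .l) hc hdc] at h1 h2 h3
  set C := centralizer ({gen .l} : Set Spor.Fi24) with hC
  obtain ⟨f, hf, hk⟩ : ∃ f : ↥C →* Spor.Fi23, Function.Surjective f ∧ Nat.card f.ker = 2 := exists_equiv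
  have hle : centralizer ({c} : Set Spor.Fi24) ⊓ C ≤ C := inf_le_right
  let g : ↥(centralizer ({c} : Set Spor.Fi24) ⊓ C) →* Spor.Fi23 := f.comp (inclusion hle)
  have hg : Function.Injective g := by
    rw [← MonoidHom.ker_eq_bot_iff, eq_bot_iff, ← h2]
    intro x hx
    -- the kernel of `f` has order 2, so it is central
    have hx' : inclusion hle x ∈ f.ker := hx
    have hcen : f.ker ≤ center ↥C := le_center_of_card_two hk
    rw [mem_center_iff]
    intro y
    apply Subtype.ext
    exact congrArg (Subtype.val : ↥C → Spor.Fi24) (mem_center_iff.1 (hcen hx') (inclusion hle y))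
  let e := MonoidHom.ofInjective hg
  refine ⟨g.range, ?_, ?_⟩
  · have h4 := g.range.card_mul_index
    rw [← Nat.card_congr e.toEquiv, h1, card_fi23] at h4
    omega
  · rw [eq_bot_iff]
    intro x hx
    have h5 := map_rad_le (f := e.symm.toMonoidHom) e.symm.surjective hx
    rw [h3, mem_bot] at h5
    rw [mem_bot]
    exact e.symm.injective (by rw [map_one]; exact h5)

theorem noRC_fi23 : NoRC Spor.Fi23 := by
  have := finite_fi23
  have := simple_fi23
  refine noRC_of_sq na_fi23 fun p hp hp2 hsq a ha hR _ => ?_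
  rw [card_fi23] at hsq
  obtain ⟨q, hq, hqp⟩ := mem_of_sq hp.out [(2, 18), (3, 13), (5, 2), (7, 1), (11, 1), (13, 1), (17, 1), (23, 1)]
    (by decide +kernel) (by norm_num) hsq
  have hp35 : p = 3 ∨ p = 5 := by
    fin_cases hq <;> simp only at hqp <;> subst hqp <;>
      first | exact absurd rfl hp2 | (left; rfl) | (right; rfl) | exact absurd hsq (by norm_num)
  obtain ⟨H, h1, h2⟩ := exists_sub
  refine false_of_index (hp := hp) (H := H) ?_ ?_ ?_ ha hR
  · rintro rfl
    rw [index_top] at h1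
    norm_num at h1
  · rw [h1]
    rcases hp35 with rfl | rfl <;> norm_num
  · rw [h2, Subgroup.card_bot]
    exact hp.out.not_dvd_one

theorem noRC {K : Type*} [Group K] (h : Spor.IsoFi23 K) : NoRC K := by
  obtain ⟨e⟩ := h
  have := finite_fi23
  have : Finite K := Finite.of_equiv _ e.symm.toEquiv
  exact NoRC.congr e noRC_fi23

/-- **`Fi23`** -/
theorem core {K : Type*} [Group K] (h : Spor.IsoFi23 K) : Core K := by
  obtain ⟨e⟩ := h
  have := finite_fi23
  have := simple_fi23
  have : Finite K := Finite.of_equiv _ e.symm.toEquiv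
  exact Core.of_equiv e (core_of_noRC na_fi23 (Cfsg.Agent.H256.OddInner.fi23 ⟨MulEquiv.refl _⟩) noRC_fi23)

end Cfsg.Agent.H561.AAFi23
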