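import Cfsg.Agent.H561.AATool
import Cfsg.Agent.H256.OddInner
import Cfsg.Agent.NotCT.Orders
import Cfsg.Agent.KFacts.Baby.RowB
import Cfsg.Agent.BabyM.Instance
import Cfsg.Agent.BabyM.HNB
import Cfsg.Agent.BabyM.WordsTh
import Cfsg.Agent.BabyM.Fi23B
import Cfsg.Agent.S1697
import Cfsg.Agent.S1700
import Cfsg.Agent.S1701

/-!
# The `AA` problem for the Baby Monster (helper561)
-/

set_option autoImplicit false

namespace Cfsg.Agent.H561.AAB

open Subgroup Cfsg Cfsg.Agent.H459.Rad Cfsg.Agent.H460.AA Cfsg.Agent.H102.AAGen Cfsg.Agent.H561.AATool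
open Cfsg.Agent.BabyM

/-- a simple subgroup of known order, of index prime to `p` -/
theorem false_of_card {K : Type*} [Group K] [Finite K] {p : ℕ} [hp : Fact p.Prime] {H : Subgroup K} {n m : ℕ}
    (hK : Nat.card K = n * m) (hH : Nat.card H = n) (hs : IsSimpleGroup H) (hn : ¬ n.Prime)
    (hm : ¬ p ∣ m) (hm1 : m ≠ 1) {a : K} (ha : orderOf a = p) (h : RC (MulAut.conj a)) : False := by
  have h1 := H.card_mul_index
  rw [hH, hK] at h1
  have hn0 : 0 < n := by rw [← hH]; exact Nat.card_pos
  have hi : H.index = m := Nat.eq_of_mul_eq_mul_left hn0 h1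
  refine false_of_simple_index (hp := hp) (H := H) ?_ (by rw [hi]; exact hm) hs
    (not_comm_of_card (by rw [hH]; exact hn)) ha h
  intro ht
  rw [ht, index_top] at hi
  exact hm1 hi.symm

theorem noRC_model : NoRC Inst.M.G := by
  have hfin : Finite Inst.M.G := Instance.all.finite_G
  have hB := Instance.isB
  have hs : IsSimpleGroup Inst.M.G := hB.1
  have hc : Nat.card Inst.M.G = 4154781481226426191177580544000000 := hB.2
  have hna : ¬ IsMulCommutative Inst.M.G := not_comm_of_card (by rw [hc]; norm_num)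
  obtain ⟨K1, hK1, -⟩ := WordsTh.exists_th Instance.all Instance.ok Cfsg.Agent.S1700.result
  obtain ⟨K2, hK2⟩ := HNB.main Instance.all Instance.ok Cfsg.Agent.S1701.result
  obtain ⟨K3, hK3⟩ := Fi23B.main Instance.all Instance.ok Cfsg.Agent.S1697.result
  refine noRC_of_sq hna fun p hp hp2 hsq a ha hR _ => ?_
  rw [hc] at hsq
  obtain ⟨q, hq, hqp⟩ := mem_of_sq hp.out [(2, 41), (3, 13), (5, 6), (7, 2), (11, 1), (13, 1), (17, 1), (19, 1),
    (23, 1), (31, 1), (47, 1)] (by decide +kernel) (by norm_num) hsq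
  have hp357 : p = 3 ∨ p = 5 ∨ p = 7 := by
    fin_cases hq <;> simp only at hqp <;> subst hqp <;>
      first | exact absurd rfl hp2 | (left; rfl) | (right; left; rfl) | (right; right; rfl) |
        exact absurd hsq (by norm_num)
  rcases hp357 with rfl | rfl | rfl
  · exact false_of_card (m := 1015970529280000) (by rw [hc]) hK3.2 hK3.1 (by norm_num) (by norm_num) (by norm_num) ha hR
  · exact false_of_card (m := 15217256723027853312) (by rw [hc]) hK2.2 hK2.1 (by norm_num) (by norm_num) (by norm_num) ha hR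
  · exact false_of_card (m := 45784762417152000) (by rw [hc]) hK1.2 hK1.1 (by norm_num) (by norm_num) (by norm_num) ha hR

theorem noRC {K : Type*} [Group K] (h : Spor.IsoB K) : NoRC K := by
  obtain ⟨e⟩ := Cfsg.Agent.KFacts.Baby.RowB.exists_iso h
  have hfin : Finite Inst.M.G := Instance.all.finite_G
  have : Finite K := Finite.of_equiv _ e.toEquiv
  exact NoRC.congr e.symm noRC_model

/-- **`B`** -/
theorem core {K : Type*} [Group K] (h : Spor.IsoB K) : Core K := by
  obtain ⟨e⟩ := Cfsg.Agent.KFacts.Baby.RowB.exists_iso h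
  have hfin : Finite Inst.M.G := Instance.all.finite_G
  have : Finite K := Finite.of_equiv _ e.toEquiv
  have hs : IsSimpleGroup Inst.M.G := Instance.isB.1
  have : IsSimpleGroup K := e.symm.isSimpleGroup
  have hc : Nat.card K = 4154781481226426191177580544000000 := by
    rw [← Nat.card_congr e.toEquiv]; exact Instance.isB.2
  exact core_of_noRC (not_comm_of_card (by rw [hc]; norm_num)) (Cfsg.Agent.H256.OddInner.b h) (noRC h)

end Cfsg.Agent.H561.AAB
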