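import Cfsg.Agent.H561.AATool
import Cfsg.Agent.H256.OddInner
import Cfsg.Agent.CTwoTab.Fi22
import Cfsg.Agent.LThreeFi22.Inst
import Cfsg.Agent.S1685
import Cfsg.Agent.S1686
import Cfsg.Agent.S1696

/-!
# The `AA` problem for `Fi22` (helper561)
-/

set_option autoImplicit false

namespace Cfsg.Agent.H561.AAFi22

open Subgroup Cfsg Cfsg.Agent.H459.Rad Cfsg.Agent.H460.AA Cfsg.Agent.H102.AAGen Cfsg.Agent.H561.AATool
open Cfsg.Agent.R08.AutT (T)

theorem card_fi22 : Nat.card Spor.Fi22 = 64561751654400 := Cfsg.Agent.S1696.result.2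

theorem finite_fi22 : Finite Spor.Fi22 := Cfsg.Agent.CTwoTab.Fi22.finite

theorem simple_fi22 : IsSimpleGroup Spor.Fi22 := Cfsg.Agent.S1696.result.1

theorem na_fi22 : ¬ IsMulCommutative Spor.Fi22 := by
  have := finite_fi22
  have := simple_fi22
  exact not_comm_of_card (by rw [card_fi22]; norm_num)

theorem quasi_cent {d : Spor.Fi22} (hd : d ∈ T) : IsQuasisimple ↥(centralizer ({d} : Set Spor.Fi22)) ∧
    Nat.card ↥(center ↥(centralizer ({d} : Set Spor.Fi22))) = 2 ∧ centralizer ({d} : Set Spor.Fi22) ≠ ⊤ := by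
  obtain ⟨b, c, ht⟩ := Cfsg.Agent.StdFi22.MainFi22.bas.exists_tri hd
  obtain ⟨R, F⟩ := Cfsg.Agent.CTwoTab.Fi22.facts hd ht.my ht.xy ht.cxy
  refine ⟨F.quasi, Cfsg.Agent.CTwoTab.Fi22.card_center F, fun h => ?_⟩
  have h1 := Cfsg.Agent.CTwoTab.Fi22.card_cent F
  rw [h, card_top, card_fi22] at h1
  norm_num at h1

/-- an element of odd order commuting with a transposition -/
theorem false_of_comm [Finite Spor.Fi22] {p : ℕ} [hp : Fact p.Prime] (hp2 : p ≠ 2) {a d : Spor.Fi22} (hd : d ∈ T)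
    (had : a * d = d * a) (ha : orderOf a = p) (h : RC (MulAut.conj a)) : False := by
  obtain ⟨h1, h2, h3⟩ := quasi_cent hd
  refine false_of_quasi h3 h1 ?_ ha (mem_centralizer_singleton_iff.2 had) h
  rw [h2]
  exact fun h => hp2 ((Nat.prime_dvd_prime_iff_eq hp.out Nat.prime_two).1 h)

theorem noRC_fi22 : NoRC Spor.Fi22 := by
  have := finite_fi22
  have := simple_fi22
  refine noRC_of_sq na_fi22 fun p hp hp2 hsq a ha hR _ => ?_
  rw [card_fi22] at hsq
  obtain ⟨q, hq, hqp⟩ := mem_of_sq hp.out [(2, 17), (3, 9), (5, 2), (7, 1), (11, 1), (13, 1)]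
    (by decide +kernel) (by norm_num) hsq
  have hp35 : p = 3 ∨ p = 5 := by
    fin_cases hq <;> simp only at hqp <;> subst hqp <;>
      first | exact absurd rfl hp2 | (left; rfl; done) | (right; rfl; done) | exact absurd hsq (by norm_num)
  rcases hp35 with rfl | rfl
  · have hs := Cfsg.Agent.Fischer.Y322Iso.simple
    have hc := Cfsg.Agent.Fischer.Y322Iso.card_POmega
    obtain ⟨e⟩ := Cfsg.Agent.S1686.result
    have : Finite (POmega (ZMod 3) (quadFormOdd 3 (ZMod 3))) := Nat.finite_of_card_ne_zero (by rw [hc]; norm_num)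
    refine false_of_simple_index (hp := hp) ?_ ?_ e.isSimpleGroup
      (not_comm_congr e (not_comm_of_card (by rw [hc]; norm_num))) ha hR
    · intro h
      have h1 := Cfsg.Agent.S1685.result
      rw [h, index_top] at h1
      norm_num at h1
    · rw [Cfsg.Agent.S1685.result]
      norm_num
  · have C := Cfsg.Agent.LThreeFi22.Inst.ctx (MulEquiv.refl Spor.Fi22)
    obtain ⟨t, ht, hat⟩ := C.ex5 a (by rw [← ha, pow_orderOf_eq_one]) (by rintro rfl; rw [orderOf_one] at ha; omega)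
    obtain ⟨x, hx, hxt⟩ := ht
    have ht' : t ∈ T := by rw [← hxt]; exact hx
    exact false_of_comm hp2 ht' hat ha hR

theorem noRC {K : Type*} [Group K] (h : Spor.IsoFi22 K) : NoRC K := by
  obtain ⟨e⟩ := h
  have := finite_fi22
  have : Finite K := Finite.of_equiv _ e.symm.toEquiv
  exact NoRC.congr e noRC_fi22

/-- **`Fi22`** -/
theorem core {K : Type*} [Group K] (h : Spor.IsoFi22 K) : Core K := by
  obtain ⟨e⟩ := h
  have := finite_fi22
  have := simple_fi22
  have : Finite K := Finite.of_equiv _ e.symm.toEquiv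
  exact Core.of_equiv e (core_of_noRC na_fi22 (Cfsg.Agent.H256.OddInner.fi22 ⟨MulEquiv.refl _⟩) noRC_fi22)

end Cfsg.Agent.H561.AAFi22
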