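import Cfsg.Agent.H561.AAFi22
import Cfsg.Agent.H561.AAFi23
import Cfsg.Agent.H561.AAB
import Cfsg.Agent.H711.FiEven
import Cfsg.Agent.S1258
import Cfsg.Agent.S1695
import Cfsg.Agent.Fischer.Fi24Real

/-!
# The `AA` problem for `Fi24'` (helper561)
-/

set_option autoImplicit false

namespace Cfsg.Agent.H561.AAFi24

open Subgroup Cfsg Cfsg.Agent.H459.Rad Cfsg.Agent.H460.AA Cfsg.Agent.H102.AAGen Cfsg.Agent.H561.AATool
open Cfsg.Agent.R08 Cfsg.Agent.R08.FiTwentyFour
open Cfsg.Agent.Fischer.Fi24Class (gen gen_sq)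
open Cfsg.Agent.Fischer.Abstract Cfsg.Agent.LThreeM.SrgFix

theorem card_fi24 : Nat.card (commutator Spor.Fi24) = 1255205709190661721292800 := card_commutator

theorem finite_fi24 : Finite (commutator Spor.Fi24) := Nat.finite_of_card_ne_zero (by rw [card_fi24]; norm_num)

theorem simple_fi24 : IsSimpleGroup (commutator Spor.Fi24) := isFi24'.1

theorem na_fi24 : ¬ IsMulCommutative (commutator Spor.Fi24) := by
  have := finite_fi24
  have := simple_fi24
  exact not_comm_of_card (by rw [card_fi24]; norm_num)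

/-- `He ≤ Fi24'` -/
theorem exists_he : ∃ K : Subgroup (commutator Spor.Fi24), Cfsg.IsHe K := by
  have h95 := Cfsg.Agent.S1695.result
  have F := facts
  obtain ⟨ψ, -, hψ⟩ := Cfsg.Agent.Fischer.HeInFi24.he_hom (Cfsg.Agent.Fischer.Fi24Real.stab_comm F.hub F.hne) (by
    intro z hz h0
    apply Cfsg.Agent.Fischer.Fi24Final.eq_one_of_fixes F.hub F.hne F.hfin F.hH
    intro q hq
    have hq' : q ∈ {p : ℕ | ∃ x, Cfsg.Agent.Fischer.Fi24Rep.rho x 0 = p} := by
      rw [Cfsg.Agent.Fischer.Fi24RepOrb.orbG]; exact hq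
    obtain ⟨k, rfl⟩ := hq'
    rw [← Equiv.Perm.mul_apply, ← map_mul, hz, map_mul, Equiv.Perm.mul_apply, h0])
  have hψ1 := Cfsg.Agent.Fischer.Fi24Class.injective_of_simple h95.1 ψ ⟨_, hψ⟩
  have hpHe : commutator Cfsg.Spor.He = ⊤ := Cfsg.Agent.Fischer.Fi24Class.perfect_of_simple h95.1 (by
    rw [h95.2]
    norm_num)
  obtain ⟨K, hK1, hK2⟩ := Cfsg.Agent.Fischer.Fi24Class.exists_subgroup h95.1 ψ hψ1 (commutator Spor.Fi24)
    (Cfsg.Agent.Fischer.Fi24Class.range_le_commutator hpHe ψ)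
  exact ⟨K, hK1, hK2.trans h95.2⟩

/-- the embedding of `Fi23` -/
noncomputable def psi : Spor.Fi23 →* commutator Spor.Fi24 := facts.phi.codRestrict _ fun k =>
  mem_commutator_iff.2 (facts.sgn_phi k)

theorem psi_injective : Function.Injective psi := fun a b hab => facts.phi_injective (congrArg Subtype.val hab)

theorem card_range : Nat.card psi.range = 4089470473293004800 :=
  (Nat.card_congr (MonoidHom.ofInjective psi_injective).toEquiv).symm.trans AAFi23.card_fi23

theorem simple_range : IsSimpleGroup psi.range := by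
  have := AAFi23.simple_fi23
  exact (MonoidHom.ofInjective psi_injective).symm.isSimpleGroup

/-- `Fi24'` is transitive on the transpositions -/
theorem exists_conj {t : Spor.Fi24} (ht : t ∈ L) : ∃ g : commutator Spor.Fi24, (g : Spor.Fi24) * gen .l * (g : Spor.Fi24)⁻¹ = t := by
  obtain ⟨g, hg⟩ := isConj_iff.1 (show IsConj (gen .l) t from ht)
  by_cases h : g ∈ commutator Spor.Fi24
  · exact ⟨⟨g, h⟩, hg⟩
  · have h1 : g * gen .l ∈ commutator Spor.Fi24 := by
      rw [mem_commutator_iff, map_mul, sgn_L (gen_mem_L .l)]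
      rw [mem_commutator_iff] at h
      rcases Int.units_eq_one_or (Cfsg.Agent.Fischer.Fi24Final.sgn g) with h2 | h2
      · exact absurd h2 h
      · rw [h2]; rfl
    refine ⟨⟨g * gen .l, h1⟩, ?_⟩
    have hll : gen .l * gen .l = (1 : Spor.Fi24) := gen_sq _
    rw [← hg]
    show g * gen .l * gen .l * (g * gen .l)⁻¹ = _
    rw [mul_assoc g, hll, mul_inv_rev]
    have hl : (gen .l : Spor.Fi24)⁻¹ = gen .l := inv_eq_of_mul_eq_one_left hll
    rw [hl]
    group

/-- an element commuting with a transposition -/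
theorem false_of_comm [Finite (commutator Spor.Fi24)] {p : ℕ} [hp : Fact p.Prime] {a : commutator Spor.Fi24}
    {t : Spor.Fi24} (ht : t ∈ L) (hat : (a : Spor.Fi24) * t = t * a) (ha : orderOf a = p)
    (h : RC (MulAut.conj a)) : False := by
  have F := facts
  obtain ⟨g, rfl⟩ := exists_conj ht
  have hs := simple_range
  have := AAFi23.finite_fi23
  have hna : ¬ IsMulCommutative psi.range := not_comm_of_card (by rw [card_range]; norm_num)
  refine false_of_simple_mem (hp := hp) (H := psi.range) ?_ hs hna (a := g⁻¹ * a * g⁻¹⁻¹) ?_ ?_ (RC_conj h g⁻¹)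
  · intro htop
    have h1 := card_range
    rw [htop, card_top, card_fi24] at h1
    norm_num at h1
  · rw [orderOf_conj', ha]
  · have hmem : ((g⁻¹ * a * g⁻¹⁻¹ : commutator Spor.Fi24) : Spor.Fi24) * gen .l =
        gen .l * ((g⁻¹ * a * g⁻¹⁻¹ : commutator Spor.Fi24) : Spor.Fi24) := by
      simp only [Subgroup.coe_mul, Subgroup.coe_inv, inv_inv]
      calc (g : Spor.Fi24)⁻¹ * a * g * gen .l = (g : Spor.Fi24)⁻¹ * (a * (g * gen .l * (g : Spor.Fi24)⁻¹)) * g := by group
        _ = (g : Spor.Fi24)⁻¹ * (g * gen .l * (g : Spor.Fi24)⁻¹ * a) * g := by rw [hat]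
        _ = gen .l * ((g : Spor.Fi24)⁻¹ * a * g) := by group
    obtain ⟨k, hk⟩ := (F.mem_range_iff _).2 ⟨hmem, mem_commutator_iff.1 (g⁻¹ * a * g⁻¹⁻¹ : commutator Spor.Fi24).2⟩
    exact ⟨k, Subtype.ext hk⟩

/-- the dichotomy for elements of order three -/
theorem dich {g : Spor.Fi24} (hg : g ^ 3 = 1) : (∃ t ∈ L, g * t = t * g) ∨
    ∃ t ∈ L, t ≠ g * t * g⁻¹ ∧ Commute t (g * t * g⁻¹) := by
  have := FiTwentyFour.finite_Fi24
  obtain ⟨R, -, -, hR⟩ := FiTwentyFour.facts.exists_rank3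
  have hfin : Finite (Spor.Fi24 ⧸ Cfsg.Agent.Fischer.Fi24RepOrb.H) := inferInstance
  rcases three_aux R (Cfsg.Agent.H711.FiEven.nb_card R hR) (Cfsg.Agent.H711.FiEven.cn_card R hR)
    (Cfsg.Agent.H711.FiEven.cb_card R hR) (s := -81) (by norm_num) (by norm_num) (by norm_num)
    (n := 3) (by norm_num) hg with ⟨x, hx⟩ | ⟨x, hx⟩
  · exact Or.inl ⟨R.t x, hR ▸ ⟨x, rfl⟩, (R.smul_eq_iff_comm g x).1 hx⟩
  · refine Or.inr ⟨R.t x, hR ▸ ⟨x, rfl⟩, ?_, ?_⟩
    · rw [← R.map_smul]
      exact fun h => hx.1 (R.t_inj.1 h)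
    · rw [← R.map_smul]
      exact hx.2

/-- `C(x, y, z) ∩ Fi24'` -/
def YY (x y z : Spor.Fi24) : Subgroup (commutator Spor.Fi24) :=
  (centralizer ({x, y, z} : Set Spor.Fi24)).subgroupOf (commutator Spor.Fi24)

theorem mem_YY {x y z : Spor.Fi24} {m : commutator Spor.Fi24} :
    m ∈ YY x y z ↔ (m : Spor.Fi24) * x = x * m ∧ (m : Spor.Fi24) * y = y * m ∧ (m : Spor.Fi24) * z = z * m := by
  unfold YY
  rw [mem_subgroupOf, mem_centralizer_iff]
  constructor
  · intro h
    exact ⟨(h x (by simp)).symm, (h y (by simp)).symm, (h z (by simp)).symm⟩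
  · rintro ⟨h1, h2, h3⟩ w hw
    rcases hw with rfl | rfl | rfl
    · exact h1.symm
    · exact h2.symm
    · exact h3.symm

/-- `C(x, y, z) ∩ Fi24'` maps onto the centralizer of a transposition of `Fi22` -/
theorem exists_theta {x y z : Spor.Fi24} (hx : x ∈ L) (hy : y ∈ L) (hz : z ∈ L) (hxy : x ≠ y) (hxz : x ≠ z)
    (hyz : y ≠ z) (cxy : Commute x y) (cxz : Commute x z) (cyz : Commute y z) :
    ∃ (t : Spor.Fi22) (_ : t ∈ Cfsg.Agent.R08.AutT.T) (θ : YY x y z →* centralizer ({t} : Set Spor.Fi22)),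
      Function.Surjective θ ∧ (∀ m : YY x y z, θ m = 1 → ((m : commutator Spor.Fi24) : Spor.Fi24) = 1 ∨
        ((m : commutator Spor.Fi24) : Spor.Fi24) = x * y) ∧
      ∀ m : YY x y z, (θ m : Spor.Fi22) = t → ((m : commutator Spor.Fi24) : Spor.Fi24) = x * z ∨
        ((m : commutator Spor.Fi24) : Spor.Fi24) = y * z := by
  obtain ⟨π, hπ, hker, hT, -, hinj⟩ := loc hx hy hxy cxy
  have xx := FiTwentyFour.sq hx
  have yy := FiTwentyFour.sq hy
  have hmem : ∀ {m : Spor.Fi24}, m ∈ commutator Spor.Fi24 → m * x = x * m → m * y = y * m →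
      m ∈ commutator Spor.Fi24 ⊓ centralizer {x, y} := by
    intro m h1 h2 h3
    refine ⟨h1, mem_centralizer_iff.2 ?_⟩
    rintro w (rfl | rfl)
    · exact h2.symm
    · exact h3.symm
  have hmem' : ∀ {m : Spor.Fi24}, m ∈ commutator Spor.Fi24 ⊓ centralizer {x, y} → m * x = x * m ∧ m * y = y * m := by
    rintro m ⟨-, h'⟩
    have h := mem_centralizer_iff.1 h'
    exact ⟨(h x (by simp)).symm, (h y (by simp)).symm⟩
  have hw : x * z ∈ commutator Spor.Fi24 ⊓ centralizer {x, y} := by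
    refine hmem (even hx hz) ?_ ?_
    · rw [mul_assoc, cxz.symm.eq]
    · rw [mul_assoc, ← cyz.eq, ← mul_assoc, cxy.eq, mul_assoc]
  set w : ↥(commutator Spor.Fi24 ⊓ centralizer {x, y}) := ⟨x * z, hw⟩ with hwdef
  set t := π w with ht
  have htT : t ∈ Cfsg.Agent.R01.Fi22Facts.T := hT z hz hxz.symm hyz.symm cxz.symm cyz.symm w rfl
  let ι : YY x y z →* ↥(commutator Spor.Fi24 ⊓ centralizer {x, y}) :=
    { toFun := fun m => ⟨((m : commutator Spor.Fi24) : Spor.Fi24),
        hmem (m : commutator Spor.Fi24).2 (mem_YY.1 m.2).1 (mem_YY.1 m.2).2.1⟩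
      map_one' := rfl
      map_mul' := fun _ _ => rfl }
  have hcomm : ∀ m : YY x y z, ι m * w = w * ι m := by
    intro m
    apply Subtype.ext
    show ((m : commutator Spor.Fi24) : Spor.Fi24) * (x * z) = x * z * ((m : commutator Spor.Fi24) : Spor.Fi24)
    obtain ⟨h1, -, h3⟩ := mem_YY.1 m.2
    rw [← mul_assoc, h1, mul_assoc, h3, mul_assoc]
  let θ : YY x y z →* centralizer ({t} : Set Spor.Fi22) := (π.comp ι).codRestrict _ fun m => by
    rw [mem_centralizer_singleton_iff]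
    show π (ι m) * t = t * π (ι m)
    rw [ht, ← map_mul, ← map_mul, hcomm]
  refine ⟨t, htT, θ, ?_, ?_, ?_⟩
  · rintro ⟨c, hc⟩
    obtain ⟨u, rfl⟩ := hπ c
    rw [mem_centralizer_singleton_iff] at hc
    obtain ⟨hux, huy⟩ := hmem' u.2
    -- `u` commutes with `z`
    have h1 : (u : Spor.Fi24) * z * (u : Spor.Fi24)⁻¹ ∈ L := conj_mem_L hz _
    have hcx : Commute ((u : Spor.Fi24) * z * (u : Spor.Fi24)⁻¹) x := by
      show (u : Spor.Fi24) * z * (u : Spor.Fi24)⁻¹ * x = x * ((u : Spor.Fi24) * z * (u : Spor.Fi24)⁻¹)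
      have h2 : (u : Spor.Fi24)⁻¹ * x = x * (u : Spor.Fi24)⁻¹ := (show Commute (u : Spor.Fi24) x from hux).inv_left.eq
      calc (u : Spor.Fi24) * z * (u : Spor.Fi24)⁻¹ * x = u * z * ((u : Spor.Fi24)⁻¹ * x) := by group
        _ = u * (z * x) * (u : Spor.Fi24)⁻¹ := by rw [h2]; group
        _ = (u * x) * z * (u : Spor.Fi24)⁻¹ := by rw [cxz.symm.eq]; group
        _ = _ := by rw [hux]; group
    have hcy : Commute ((u : Spor.Fi24) * z * (u : Spor.Fi24)⁻¹) y := by
      show (u : Spor.Fi24) * z * (u : Spor.Fi24)⁻¹ * y = y * ((u : Spor.Fi24) * z * (u : Spor.Fi24)⁻¹)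
      have h2 : (u : Spor.Fi24)⁻¹ * y = y * (u : Spor.Fi24)⁻¹ := (show Commute (u : Spor.Fi24) y from huy).inv_left.eq
      calc (u : Spor.Fi24) * z * (u : Spor.Fi24)⁻¹ * y = u * z * ((u : Spor.Fi24)⁻¹ * y) := by group
        _ = u * (z * y) * (u : Spor.Fi24)⁻¹ := by rw [h2]; group
        _ = (u * y) * z * (u : Spor.Fi24)⁻¹ := by rw [cyz.symm.eq]; group
        _ = _ := by rw [huy]; group
    have hnx : (u : Spor.Fi24) * z * (u : Spor.Fi24)⁻¹ ≠ x := by
      intro h0
      apply hxz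
      have h2 : (u : Spor.Fi24) * x * (u : Spor.Fi24)⁻¹ = x := by rw [hux]; group
      exact (mul_left_cancel (mul_right_cancel (h2.trans h0.symm)))
    have hny : (u : Spor.Fi24) * z * (u : Spor.Fi24)⁻¹ ≠ y := by
      intro h0
      apply hyz
      have h2 : (u : Spor.Fi24) * y * (u : Spor.Fi24)⁻¹ = y := by rw [huy]; group
      exact (mul_left_cancel (mul_right_cancel (h2.trans h0.symm)))
    have hw' : x * ((u : Spor.Fi24) * z * (u : Spor.Fi24)⁻¹) = ((u * w * u⁻¹ : ↥(commutator Spor.Fi24 ⊓ centralizer {x, y})) : Spor.Fi24) := by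
      show _ = (u : Spor.Fi24) * (x * z) * (u : Spor.Fi24)⁻¹
      rw [← mul_assoc (u : Spor.Fi24) x z, hux]
      group
    have h3 := hinj z hz hxz.symm hyz.symm cxz.symm cyz.symm _ h1 hnx hny hcx hcy w (u * w * u⁻¹) rfl hw'.symm (by
      rw [map_mul, map_mul, map_inv, hc, mul_inv_cancel_right])
    have huz : (u : Spor.Fi24) * z = z * u := by
      calc (u : Spor.Fi24) * z = (u * z * (u : Spor.Fi24)⁻¹) * u := by group
        _ = z * u := by rw [← h3]
    exact ⟨⟨⟨u, u.2.1⟩, mem_YY.2 ⟨hux, huy, huz⟩⟩, Subtype.ext rfl⟩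
  · intro m hm
    have h1 : π (ι m) = 1 := congrArg Subtype.val hm
    exact (hker _).1 h1
  · intro m hm
    have h1 : π (ι m) = t := hm
    have h2 : π (ι m * w⁻¹) = 1 := by rw [map_mul, map_inv, h1, mul_inv_cancel]
    rcases (hker _).1 h2 with h3 | h3
    · left
      have h4 : ((m : commutator Spor.Fi24) : Spor.Fi24) * (x * z)⁻¹ = 1 := h3
      exact mul_inv_eq_one.1 h4
    · right
      have h4 : ((m : commutator Spor.Fi24) : Spor.Fi24) * (x * z)⁻¹ = x * y := h3
      have h5 := mul_inv_eq_iff_eq_mul.1 h4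
      rw [h5, cxy.eq, mul_assoc, ← mul_assoc x x, xx, one_mul]

/-- lifting quasisimplicity -/
theorem comm_quasi {Y C : Type*} [Group Y] [Finite Y] [Group C] [Finite C] (hq : IsQuasisimple C) (θ : Y →* C)
    (hθ : Function.Surjective θ) (hk : ∀ m, θ m ∈ center C → m ∈ center Y) :
    IsQuasisimple (commutator Y) ∧ ∀ c : C, ∃ u ∈ commutator Y, θ u = c := by
  have hs : IsSimpleGroup (C ⧸ center C) := hq.2
  have hnaS : ¬ IsMulCommutative (C ⧸ center C) := by
    intro hc
    apply Cfsg.Agent.SignalizersComponents.Components.quasisimple_not_isSolvable hq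
    have h1 : Group.IsSolvable (C ⧸ center C) := Group.isSolvable_of_comm (fun a b => hc.is_comm.comm a b)
    have h2 : Group.IsSolvable ↥(center C) :=
      Group.isSolvable_of_comm (fun a b => Subtype.ext (mem_center_iff.1 b.2 a))
    exact (Group.isSolvable_iff_subgroup_quotient (center C)).2 ⟨h2, h1⟩
  have hcS : center (C ⧸ center C) = ⊥ := by
    rcases (inferInstance : (center (C ⧸ center C)).Normal).eq_bot_or_eq_top with h1 | h1
    · exact h1
    · exact absurd ⟨⟨fun u v => (mem_center_iff.1 (by rw [h1]; exact mem_top v : v ∈ center (C ⧸ center C)) u)⟩⟩ hnaS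
  let Θ : Y →* C ⧸ center C := (QuotientGroup.mk' (center C)).comp θ
  have hΘ : Function.Surjective Θ := (QuotientGroup.mk'_surjective _).comp hθ
  have hker : Θ.ker = center Y := by
    apply le_antisymm
    · intro m hm
      exact hk m ((QuotientGroup.eq_one_iff _).1 hm)
    · intro m hm
      rw [MonoidHom.mem_ker, ← mem_bot, ← hcS, mem_center_iff]
      intro s
      obtain ⟨n, rfl⟩ := hΘ s
      rw [← map_mul, ← map_mul, mem_center_iff.1 hm n]
  let e : Y ⧸ center Y ≃* C ⧸ center C :=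
    (QuotientGroup.quotientMulEquivOfEq hker.symm).trans (QuotientGroup.quotientKerEquivOfSurjective Θ hΘ)
  have hsY : IsSimpleGroup (Y ⧸ center Y) := e.isSimpleGroup
  obtain ⟨-, hqY⟩ := Cfsg.Agent.S1258.result hsY (not_comm_congr e hnaS)
  refine ⟨hqY, fun c => ?_⟩
  have h1 : (commutator Y).map θ = commutator C := by
    rw [_root_.commutator_def, _root_.commutator_def, map_commutator, ← MonoidHom.range_eq_map,
      MonoidHom.range_eq_top.2 hθ]
  have h2 : c ∈ (commutator Y).map θ := by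
    rw [h1, Cfsg.Agent.R01.Start.commutator_eq_top hq]
    exact mem_top _
  exact h2

/-- an element of order three permuting three commuting transpositions -/
theorem false_of_triple [Finite (commutator Spor.Fi24)] {a : commutator Spor.Fi24} (ha : orderOf a = 3)
    (hR : RC (MulAut.conj a)) {x : Spor.Fi24} (hx : x ∈ L) (hne : x ≠ a * x * (a : Spor.Fi24)⁻¹)
    (hcomm : Commute x (a * x * (a : Spor.Fi24)⁻¹)) : False := by
  have := AAFi22.finite_fi22
  obtain ⟨y, hy⟩ : ∃ y : Spor.Fi24, y = a * x * (a : Spor.Fi24)⁻¹ := ⟨_, rfl⟩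
  obtain ⟨z, hz⟩ : ∃ z : Spor.Fi24, z = a * y * (a : Spor.Fi24)⁻¹ := ⟨_, rfl⟩
  have ha3 : (a : Spor.Fi24) ^ 3 = 1 := by
    rw [← Subgroup.coe_pow, ← ha, pow_orderOf_eq_one, Subgroup.coe_one]
  have hzx : (a : Spor.Fi24) * z * (a : Spor.Fi24)⁻¹ = x := by
    rw [hz, hy]
    have e : (a : Spor.Fi24) * (a * (a * x * (a : Spor.Fi24)⁻¹) * (a : Spor.Fi24)⁻¹) * (a : Spor.Fi24)⁻¹ =
        (a : Spor.Fi24) ^ 3 * x * ((a : Spor.Fi24) ^ 3)⁻¹ := by
      rw [pow_succ, pow_two]
      group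
    rw [e, ha3]
    group
  rw [← hy] at hne hcomm
  have conjinj : ∀ {u v : Spor.Fi24}, (a : Spor.Fi24) * u * (a : Spor.Fi24)⁻¹ = a * v * (a : Spor.Fi24)⁻¹ → u = v :=
    fun h => mul_left_cancel (mul_right_cancel h)
  have conjcomm : ∀ {u v : Spor.Fi24}, Commute u v →
      Commute ((a : Spor.Fi24) * u * (a : Spor.Fi24)⁻¹) (a * v * (a : Spor.Fi24)⁻¹) := by
    intro u v h
    show (a : Spor.Fi24) * u * (a : Spor.Fi24)⁻¹ * (a * v * (a : Spor.Fi24)⁻¹) = _
    calc (a : Spor.Fi24) * u * (a : Spor.Fi24)⁻¹ * (a * v * (a : Spor.Fi24)⁻¹) = a * (u * v) * (a : Spor.Fi24)⁻¹ := by group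
      _ = a * (v * u) * (a : Spor.Fi24)⁻¹ := by rw [h.eq]
      _ = _ := by group
  have hyz : y ≠ z := fun h => hne (conjinj (by rw [← hy, ← hz]; exact h))
  have hxz : x ≠ z := by
    intro h
    apply hyz
    apply conjinj
    rw [← hz, hzx, h]
  have cyz : Commute y z := by
    have := conjcomm hcomm
    rwa [← hy, ← hz] at this
  have cxz : Commute x z := by
    have := conjcomm cyz
    rw [← hz, hzx] at this
    exact this.symm
  have hyL : y ∈ L := hy ▸ conj_mem_L hx _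
  have hzL : z ∈ L := hz ▸ conj_mem_L hyL _
  obtain ⟨t, ht, θ, hθ, hk1, hk2⟩ := exists_theta hx hyL hzL hne hxz hyz hcomm cxz cyz
  obtain ⟨hq, hc2, -⟩ := AAFi22.quasi_cent ht
  have htC : t ∈ centralizer ({t} : Set Spor.Fi22) := mem_centralizer_singleton_iff.2 rfl
  -- the element `t` and the centre of `C`
  have htc : (⟨t, htC⟩ : centralizer ({t} : Set Spor.Fi22)) ∈ center (centralizer ({t} : Set Spor.Fi22)) := by
    rw [mem_center_iff]
    rintro ⟨g, hg⟩
    exact Subtype.ext (mem_centralizer_singleton_iff.1 hg)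
  have ht1 : (⟨t, htC⟩ : centralizer ({t} : Set Spor.Fi22)) ≠ 1 := by
    intro h
    have h1 : t = 1 := congrArg Subtype.val h
    obtain ⟨b, c, hb⟩ := Cfsg.Agent.StdFi22.MainFi22.bas.exists_tri ht
    obtain ⟨R, F⟩ := Cfsg.Agent.CTwoTab.Fi22.facts ht hb.my hb.xy hb.cxy
    exact F.d_ne h1
  have hcen : ∀ c ∈ center (centralizer ({t} : Set Spor.Fi22)), c = 1 ∨ c = ⟨t, htC⟩ := by
    intro c hc
    by_cases h : c = 1
    · exact Or.inl h
    · right
      obtain ⟨w, -, hw⟩ := (Nat.card_eq_two_iff' (1 : center (centralizer ({t} : Set Spor.Fi22)))).1 hc2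
      have e1 := hw ⟨c, hc⟩ (fun h0 => h (congrArg Subtype.val h0))
      have e2 := hw ⟨_, htc⟩ (fun h0 => ht1 (congrArg Subtype.val h0))
      exact congrArg Subtype.val (e1.trans e2.symm)
  obtain ⟨hqY, hall⟩ := comm_quasi hq θ hθ (by
    intro m h1
    rw [mem_center_iff]
    intro n
    apply Subtype.ext
    apply Subtype.ext
    obtain ⟨n1, n2, n3⟩ := mem_YY.1 n.2
    show ((n : commutator Spor.Fi24) : Spor.Fi24) * ((m : commutator Spor.Fi24) : Spor.Fi24) =
      ((m : commutator Spor.Fi24) : Spor.Fi24) * ((n : commutator Spor.Fi24) : Spor.Fi24)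
    have c1 : Commute ((n : commutator Spor.Fi24) : Spor.Fi24) x := n1
    have c2 : Commute ((n : commutator Spor.Fi24) : Spor.Fi24) y := n2
    have c3 : Commute ((n : commutator Spor.Fi24) : Spor.Fi24) z := n3
    rcases hcen _ h1 with h2 | h2
    · rcases hk1 m h2 with h3 | h3
      · rw [h3, mul_one, one_mul]
      · rw [h3]; exact (c1.mul_right c2).eq
    · rcases hk2 m (congrArg Subtype.val h2) with h3 | h3
      · rw [h3]; exact (c1.mul_right c3).eq
      · rw [h3]; exact (c2.mul_right c3).eq)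
  -- the element `u`
  obtain ⟨u, hu, hut⟩ := hall ⟨t, htC⟩
  -- `Y` is invariant
  have hinv : ∀ m ∈ YY x y z, a * m * a⁻¹ ∈ YY x y z := by
    intro m hm
    obtain ⟨m1, m2, m3⟩ := mem_YY.1 hm
    have d1 : Commute ((a * m * a⁻¹ : commutator Spor.Fi24) : Spor.Fi24) y := by
      rw [hy]; exact conjcomm m1
    have d2 : Commute ((a * m * a⁻¹ : commutator Spor.Fi24) : Spor.Fi24) z := by
      rw [hz]; exact conjcomm m2
    have d3 : Commute ((a * m * a⁻¹ : commutator Spor.Fi24) : Spor.Fi24) x := by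
      rw [← hzx]; exact conjcomm m3
    exact mem_YY.2 ⟨d3.eq, d1.eq, d2.eq⟩
  have hMeq : (commutator (YY x y z)).map (YY x y z).subtype = ⁅YY x y z, YY x y z⁆ :=
    map_subtype_commutator _
  have hqM : IsQuasisimple ((commutator (YY x y z)).map (YY x y z).subtype) :=
    Cfsg.Agent.SignalizersComponents.ComponentNormalize.quasisimple_congr
      ((commutator (YY x y z)).equivMapOfInjective _ (YY x y z).subtype_injective) hqY
  have hMt : (commutator (YY x y z)).map (YY x y z).subtype ≠ ⊤ := by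
    intro h
    have h1 : a ∈ YY x y z := map_subtype_le _ (h ▸ mem_top a)
    have h2 := (mem_YY.1 h1).1
    apply hne
    rw [hy, h2]
    group
  have hMinv : ∀ m ∈ (commutator (YY x y z)).map (YY x y z).subtype,
      (MulAut.conj a) m ∈ (commutator (YY x y z)).map (YY x y z).subtype := by
    have h1 : (YY x y z).map (MulAut.conj a).toMonoidHom ≤ YY x y z := by
      rintro _ ⟨m, hm, rfl⟩
      exact hinv m hm
    rw [hMeq]
    intro m hm
    have h2 : (⁅YY x y z, YY x y z⁆).map (MulAut.conj a).toMonoidHom ≤ ⁅YY x y z, YY x y z⁆ := by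
      rw [map_commutator]
      exact commutator_mono h1 h1
    exact h2 ⟨m, hm, rfl⟩
  have hfix := hR.eq_of_quasisimple hMt hMinv hqM (m := (u : commutator Spor.Fi24)) ⟨u, hu, rfl⟩
  have hfix' : (a : Spor.Fi24) * ((u : commutator Spor.Fi24) : Spor.Fi24) * (a : Spor.Fi24)⁻¹ =
      ((u : commutator Spor.Fi24) : Spor.Fi24) := congrArg Subtype.val hfix
  have conjmul : ∀ v w : Spor.Fi24, (a : Spor.Fi24) * (v * w) * (a : Spor.Fi24)⁻¹ =
      (a * v * (a : Spor.Fi24)⁻¹) * (a * w * (a : Spor.Fi24)⁻¹) := fun v w => by group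
  rcases hk2 u (congrArg Subtype.val hut) with h | h
  · rw [h, conjmul, hzx, ← hy, hcomm.symm.eq] at hfix'
    exact hyz (mul_left_cancel hfix')
  · rw [h, conjmul, hzx, ← hz, cyz.eq] at hfix'
    exact hne (mul_left_cancel hfix')

theorem noRC_fi24 : NoRC (commutator Spor.Fi24) := by
  have := finite_fi24
  have := simple_fi24
  refine noRC_of_sq na_fi24 fun p hp hp2 hsq a ha hR _ => ?_
  rw [card_fi24] at hsq
  obtain ⟨q, hq, hqp⟩ := mem_of_sq hp.out [(2, 21), (3, 16), (5, 2), (7, 3), (11, 1), (13, 1), (17, 1), (23, 1), (29, 1)]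
    (by decide +kernel) (by norm_num) hsq
  have hp357 : p = 3 ∨ p = 5 ∨ p = 7 := by
    fin_cases hq <;> simp only at hqp <;> subst hqp <;>
      first | exact absurd rfl hp2 | (left; rfl) | (right; left; rfl) | (right; right; rfl) |
        exact absurd hsq (by norm_num)
  rcases hp357 with rfl | rfl | rfl
  · have ha3 : (a : Spor.Fi24) ^ 3 = 1 := by
      rw [← Subgroup.coe_pow, ← ha, pow_orderOf_eq_one, Subgroup.coe_one]
    rcases dich ha3 with ⟨t, ht, hat⟩ | ⟨t, ht, h1, h2⟩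
    · exact false_of_comm ht hat ha hR
    · exact false_of_triple ha hR ht h1 h2
  · exact AAB.false_of_card (m := 306936) (by rw [card_fi24]) card_range simple_range (by norm_num) (by norm_num)
      (by norm_num) ha hR
  · obtain ⟨K, hK⟩ := exists_he
    exact AAB.false_of_card (m := 311435513985024) (by rw [card_fi24]) hK.2 hK.1 (by norm_num) (by norm_num)
      (by norm_num) ha hR

theorem noRC {K : Type*} [Group K] (h : Spor.IsoFi24' K) : NoRC K := by
  obtain ⟨e⟩ := h
  have := finite_fi24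
  have : Finite K := Finite.of_equiv _ e.symm.toEquiv
  exact NoRC.congr e noRC_fi24

/-- **`Fi24'`** -/
theorem core {K : Type*} [Group K] (h : Spor.IsoFi24' K) : Core K := by
  obtain ⟨e⟩ := h
  have := finite_fi24
  have := simple_fi24
  have : Finite K := Finite.of_equiv _ e.symm.toEquiv
  exact Core.of_equiv e (core_of_noRC na_fi24 (Cfsg.Agent.H256.OddInner.fi24' ⟨MulEquiv.refl _⟩) noRC_fi24)

end Cfsg.Agent.H561.AAFi24
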