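import Cfsg.Agent.H961.SevM
import Cfsg.Agent.H235.AA.Transv
import Cfsg.Agent.H235.AA.Tools

/-!
# The `AA` problem for the Monster, `p = 7` (helper561)

After helper961 (`H961.SevFin`, `H961.SevM`): the pair property `PS 2` replaced by `PC 7`.
-/

set_option autoImplicit false
set_option maxRecDepth 100000

namespace Cfsg.Agent.H561.AAM7

open Subgroup Cfsg Cfsg.Agent.H459.Rad Cfsg.Agent.H961.SevLift Cfsg.Agent.H235.AA.Tools Cfsg.Agent.H235.AA.Transv

variable {K : Type*} [Group K] {y w v s a c : K} {Q : Subgroup K}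

variable [Finite K]

/-- **No radical element of order 7 in `Q`.** -/
theorem final_pc (h : Loc y w v s a c) (hQ : QQ w Q) (h5 : ¬ 7 ^ 5 ∣ Nat.card ↥(centralizer ({y} : Set K)))
    (h7 : ¬ 7 ^ 7 ∣ Nat.card K) {x : K} (hx : x ∈ Q) (hxw : x ∉ zpowers w)
    (hps : PC 7 x) : False := by
  obtain ⟨hw1, s1, hs1, hs1w⟩ := h.mem_Q hQ h5 h7
  obtain ⟨w1, hw1e⟩ : ∃ w1, w1 = a * w * a⁻¹ := ⟨_, rfl⟩
  rw [← hw1e] at hw1 hs1w
  have hwo : orderOf w = 7 := by
    have : Fact (Nat.Prime 7) := ⟨by norm_num⟩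
    exact orderOf_eq_prime h.w7 h.w1
  have hw1o : orderOf w1 = 7 := by rw [hw1e, ← MulAut.conj_apply, MulEquiv.orderOf_eq, hwo]
  have hww1 : w * w1 = w1 * w := (mem_centralizer_singleton_iff.1 (hQ.le hw1)).symm
  have hw1n : w1 ∉ zpowers w := by
    intro h1
    obtain ⟨i, hi⟩ := mem_zpowers_iff.1 h1
    apply hs1w
    rw [← hi]
    exact ((show Commute s1 w from mem_centralizer_singleton_iff.1 (hQ.le hs1)).zpow_right i).eq
  -- a conjugate of `x` which does not commute with `w1`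
  obtain ⟨d, hd, hdx⟩ : ∃ d : K, d * w = w * d ∧ (d * x * d⁻¹) * w1 ≠ w1 * (d * x * d⁻¹) := by
    by_contra hcon
    push Not at hcon
    let U : Subgroup K := closure ({g | ∃ d : K, d * w = w * d ∧ g = d * x * d⁻¹} ∪ {w})
    have hU1 : ∀ d : K, d * w = w * d → ∀ q ∈ U, d * q * d⁻¹ ∈ U := by
      intro d hd q hq
      have h1 : U.map (MulAut.conj d).toMonoidHom ≤ U := by
        rw [MonoidHom.map_closure, closure_le]
        rintro _ ⟨g, hg, rfl⟩
        apply Subgroup.subset_closure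
        rcases hg with ⟨e, he, rfl⟩ | hg
        · left
          refine ⟨d * e, by rw [mul_assoc, he, ← mul_assoc, hd, mul_assoc], ?_⟩
          change d * (e * x * e⁻¹) * d⁻¹ = _
          group
        · right
          rw [Set.mem_singleton_iff] at hg
          subst hg
          change d * g * d⁻¹ = g
          rw [hd, mul_inv_cancel_right]
      exact h1 ⟨q, hq, rfl⟩
    have hUw : w ∈ U := Subgroup.subset_closure (Or.inr rfl)
    have hUx : x ∈ U := Subgroup.subset_closure (Or.inl ⟨1, by rw [one_mul, mul_one], by group⟩)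
    have hUQ : U ≤ Q := by
      rw [closure_le]
      rintro _ (⟨e, he, rfl⟩ | hg)
      · exact hQ.norm e he x hx
      · rw [Set.mem_singleton_iff] at hg
        rw [hg]
        exact hQ.mem
    have hU := hQ.irr U hU1 hUw hUQ (fun h1 => hxw (h1 ▸ hUx))
    have hUc : U ≤ centralizer ({w1} : Set K) := by
      rw [closure_le]
      rintro _ (⟨e, he, rfl⟩ | hg)
      · exact mem_centralizer_singleton_iff.2 (hcon e he)
      · rw [Set.mem_singleton_iff] at hg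
        rw [hg]
        exact mem_centralizer_singleton_iff.2 hww1
    rw [hU] at hUc
    exact hs1w (mem_centralizer_singleton_iff.1 (hUc hs1))
  obtain ⟨x1, hx1⟩ : ∃ x1, x1 = d * x * d⁻¹ := ⟨_, rfl⟩
  rw [← hx1] at hdx
  have hx1Q : x1 ∈ Q := hx1 ▸ hQ.norm d hd x hx
  have hps1 : PC 7 x1 := hx1 ▸ hps.conj d
  have hx1w : x1 * w = w * x1 := mem_centralizer_singleton_iff.1 (hQ.le hx1Q)
  obtain ⟨m, hm⟩ := mem_zpowers_iff.1 (hQ.comm x1 hx1Q w1 hw1)
  have hm7 : ¬ (7 : ℤ) ∣ m := by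
    intro h1
    apply hdx
    have h2 : w ^ m = 1 := by
      rw [← orderOf_dvd_iff_zpow_eq_one, hwo]
      exact h1
    rw [h2] at hm
    have h3 := hm.symm
    rw [mul_inv_eq_one, mul_inv_eq_iff_eq_mul] at h3
    exact h3
  have cww1 : ∀ i : ℤ, w ^ i * w1 = w1 * w ^ i := fun i => ((show Commute w w1 from hww1).zpow_left i).eq
  have hub : x1 * w1 * x1⁻¹ = w1 * w ^ m := by
    rw [← cww1, hm]
    group
  have haw1 : a * w1 * a⁻¹ = w⁻¹ := by rw [hw1e]; exact h.a_w1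
  have : Fact (Nat.Prime 7) := ⟨by norm_num⟩
  refine not_pe_closure (p := 7) hwo hw1o hww1 hw1n (u := x1) (v := a * x1 * a⁻¹) (m := m)
    (n := -m) hm7 (by rwa [dvd_neg]) hx1w hub ?_ ?_ (hps1 a)
  · rw [hw1e]
    calc a * x1 * a⁻¹ * (a * w * a⁻¹) = a * (x1 * w) * a⁻¹ := by group
      _ = a * w * a⁻¹ * (a * x1 * a⁻¹) := by rw [hx1w]; group
  · have e1 : w = a * w1⁻¹ * a⁻¹ := by
      have : a * w1⁻¹ * a⁻¹ = (a * w1 * a⁻¹)⁻¹ := by rw [conj_inv]
      rw [this, haw1, inv_inv]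
    have e2 : a * w ^ (-m) * a⁻¹ = w1 ^ (-m) := by rw [hw1e, conj_zpow]
    have e3 : x1 * w1⁻¹ * x1⁻¹ = w1⁻¹ * w ^ (-m) := by
      have : x1 * w1⁻¹ * x1⁻¹ = (x1 * w1 * x1⁻¹)⁻¹ := by rw [conj_inv]
      rw [this, hub, mul_inv_rev, ← zpow_neg]
      exact (((show Commute w w1 from hww1).zpow_left (-m)).inv_right).eq
    calc a * x1 * a⁻¹ * w * (a * x1 * a⁻¹)⁻¹ = a * x1 * a⁻¹ * (a * w1⁻¹ * a⁻¹) * (a * x1 * a⁻¹)⁻¹ := by rw [← e1]
      _ = a * (x1 * w1⁻¹ * x1⁻¹) * a⁻¹ := by group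
      _ = (a * w1⁻¹ * a⁻¹) * (a * w ^ (-m) * a⁻¹) := by rw [e3]; group
      _ = w * w1 ^ (-m) := by rw [← e1, e2]

section model

open Cfsg.Agent.MonsterX Cfsg.Agent.MonsterX.InstData Cfsg.Agent.MonsterP
open Cfsg.Agent.LThreeMB (KChart.pi KChart.chart)
open Cfsg.Agent.H839.Rad Cfsg.Agent.H961.SevM

/-- **No radical element of order 7** -/
theorem np_seven : NP 7 ↥InstData.M.G := by
  have := MFive.Row.finite_model
  have hp7 : Nat.Prime 7 := by norm_num
  have : Fact (Nat.Prime 7) := ⟨hp7⟩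
  have hc : center ↥InstData.M.G = ⊥ := BpSpor.center_eq_bot_of_card MonsterP.EquivOf.isM_model.1 (by
    rw [card_model]; norm_num)
  have hnc : ∀ {t : ↥InstData.M.G}, t ≠ 1 → t ∉ center ↥InstData.M.G := by
    intro t ht h1
    rw [hc, mem_bot] at h1
    exact ht h1
  obtain ⟨y, v, s, a, c, w, hL, h5⟩ := exists_data'
  obtain ⟨Q, hQ, hrad⟩ := exists_qq hL h5
  intro x hx hrc hps
  obtain ⟨P, -, hP⟩ := hL.sylow_le h5 (by rw [card_model]; norm_num)
  have hxp : IsPGroup 7 ↥(zpowers x) := IsPGroup.of_card (n := 1) (by rw [Nat.card_zpowers, hx, pow_one])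
  obtain ⟨P', hP'⟩ := hxp.exists_le_sylow
  obtain ⟨g, hg⟩ := MulAction.exists_smul_eq ↥InstData.M.G P' P
  have hgx : g * x * g⁻¹ ∈ (P : Subgroup ↥InstData.M.G) := by
    rw [← hg, Sylow.coe_subgroup_smul]
    exact smul_mem_pointwise_smul x (MulAut.conj g) _ (hP' (mem_zpowers x))
  have hrc' := rc_conj hrc g
  have hps' := hps.conj g
  have ho' : orderOf (g * x * g⁻¹) = 7 := by rw [← MulAut.conj_apply, MulEquiv.orderOf_eq, hx]
  have hCw : centralizer ({(w : ↥InstData.M.G)} : Set ↥InstData.M.G) ≠ ⊤ := by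
    intro h1
    refine hnc hL.w1 (mem_center_iff.2 fun k => ?_)
    exact mem_centralizer_singleton_iff.1 (h1 ▸ mem_top k)
  have hxQ : g * x * g⁻¹ ∈ Q := hrad ⟨_, hP hgx⟩ (mem_rad hrc' hCw (hP hgx)) ⟨1, Subtype.ext (by
    change (g * x * g⁻¹) ^ 7 ^ 1 = 1
    rw [pow_one, ← ho', pow_orderOf_eq_one])⟩
  refine final_pc hL hQ h5 (by rw [card_model]; norm_num) hxQ ?_ hps'
  intro hxw
  have h := KChart.chart KDone.lft MFive.Row.hc
  have hz1 : (KDone.K.z : ↥InstData.M.G) ≠ 1 := h.large.z_ne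
  obtain ⟨i, hi⟩ := mem_zpowers_iff.1 hxw
  refine false_of_comm ho' hrc' (hnc hz1) ?_ radFree_z
  rw [← hi]
  exact ((show Commute (w : ↥InstData.M.G) KDone.K.z from mem_centralizer_singleton_iff.1 w.2).zpow_left i).eq

end model

end Cfsg.Agent.H561.AAM7
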