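import Cfsg.Agent.H561.AAM3
import Cfsg.Agent.H561.AAM7
import Cfsg.Agent.H561.AAM11
import Cfsg.Agent.H109.NrThirteen
import Cfsg.Agent.H235.AA.Center
import Cfsg.Agent.H561.AAB
import Cfsg.Agent.H847.RadFiveM
import Cfsg.Agent.H256.OddInner

/-!
# The `AA` problem for the Monster: assembly (helper561)
-/

set_option autoImplicit false
set_option maxRecDepth 100000

namespace Cfsg.Agent.H561.AAM

open Subgroup Cfsg Cfsg.Agent.H459.Rad Cfsg.Agent.H460.AA Cfsg.Agent.H102.AAGen Cfsg.Agent.H561.AATool
open Cfsg.Agent.H561.AAM3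
open Cfsg.Agent.MonsterX Cfsg.Agent.MonsterX.MainPack Cfsg.Agent.MonsterP
open Cfsg.Agent.LThreeMB (KChart.chart KPair.trNe KPair.hasPair)
open Cfsg.Spor (Co1)

theorem card_model : Nat.card ↥InstData.M.G = 808017424794512875886459904961710757005754368000000000 :=
  MonsterP.EquivOf.isM_model.2

theorem na_model : ¬ IsMulCommutative ↥InstData.M.G := by
  have := LThreeMB.Row.finite_model
  have := LThreeMB.Row.simple_model
  exact not_comm_of_card (by rw [card_model]; norm_num)

theorem na_co1 : ¬ IsMulCommutative Co1 := by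
  have h := Cfsg.Agent.S0399.result
  have hs : IsSimpleGroup Co1 := h.1
  have : Finite Co1 := Nat.finite_of_card_ne_zero (by rw [h.2]; norm_num)
  exact not_comm_of_card (by rw [h.2]; norm_num)

theorem three {a : ↥InstData.M.G} (ha : orderOf a = 3) (hR : RC (MulAut.conj a)) : False := by
  have := LThreeMB.Row.finite_model
  have := LThreeMB.Row.simple_model
  exact false_three na_model (KChart.chart KDone.lft LThreeMB.Row.cent) Cfsg.Agent.S0399.result.1 na_co1
    LThreeMB.CoOneFin.coOne (KPair.trNe KDone.lft LThreeMB.Row.cent (LThreeMBTr.traceNe KDone.lft LThreeMBTr.TensK.tens))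
    (KPair.hasPair KDone.lft LThreeMB.Row.cent LThreeMB.Row.second LThreeMB.COct.octPair)
    (fun x t h1 h2 h3 h4 => LThreeM.FiRow.exists_z_of_comm h1 h2 h3 h4) ha hR

/-- after helper109 (`H109.NrThirteen`) and helper235 (`H235.AA.Center`) -/
theorem np_thirteen : Cfsg.Agent.H235.AA.Tools.NP 13 BpSpor.MBigModel.MG := by
  have hfin := BpSpor.MBigModel.finite
  intro x hx hRC hP
  obtain ⟨w, w₁, g, Q, hcent, hQ, hcard⟩ := H109.Nr.T.data_thirteen hx hRC
  exact H235.AA.Center.np_of_sylow hcent (by norm_num) hQ hcard x hx hRC hP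

theorem noRC_model : NoRC ↥InstData.M.G := by
  have := LThreeMB.Row.finite_model
  have := LThreeMB.Row.simple_model
  refine noRC_of_sq na_model fun p hp hp2 hsq a ha hR hP => ?_
  rw [card_model] at hsq
  obtain ⟨q, hq, hqp⟩ := mem_of_sq hp.out [(2, 46), (3, 20), (5, 9), (7, 6), (11, 2), (13, 3), (17, 1), (19, 1),
    (23, 1), (29, 1), (31, 1), (41, 1), (47, 1), (59, 1), (71, 1)] (by decide +kernel) (by norm_num) hsq
  have hpp : p = 3 ∨ p = 5 ∨ p = 7 ∨ p = 11 ∨ p = 13 := by
    fin_cases hq <;> simp only at hqp <;> subst hqp <;>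
      first | exact absurd rfl hp2 | (left; rfl) | (right; left; rfl) | (right; right; left; rfl) |
        (right; right; right; left; rfl) | (right; right; right; right; rfl) | exact absurd hsq (by norm_num)
  rcases hpp with rfl | rfl | rfl | rfl | rfl
  · exact three ha hR
  · exact H847.RadFive.false_model ha hR
  · exact AAM7.np_seven a ha hR hP
  · exact AAM11.np_eleven a ha hR hP
  · exact np_thirteen a ha hR hP

theorem noRC {K : Type*} [Group K] (h : Spor.IsoM K) : NoRC K := by
  have hfin : Finite ↥InstData.M.G := LThreeMB.Row.finite_model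
  obtain ⟨e⟩ := h
  obtain ⟨f⟩ := Cfsg.Agent.MonsterP.Equiv.equiv
  have : Finite K := Finite.of_equiv _ (e.trans f).symm.toEquiv
  exact NoRC.congr (e.trans f) noRC_model

/-- **The Monster** -/
theorem core {K : Type*} [Group K] (h : Spor.IsoM K) : Core K := by
  have hfin : Finite ↥InstData.M.G := LThreeMB.Row.finite_model
  have hs : IsSimpleGroup ↥InstData.M.G := LThreeMB.Row.simple_model
  obtain ⟨e⟩ := id h
  obtain ⟨f⟩ := Cfsg.Agent.MonsterP.Equiv.equiv
  have : Finite K := Finite.of_equiv _ (e.trans f).symm.toEquiv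
  have : IsSimpleGroup K := (e.trans f).isSimpleGroup
  exact core_of_noRC (not_comm_congr (e.trans f) na_model) (Cfsg.Agent.H256.OddInner.m h) (noRC h)

end Cfsg.Agent.H561.AAM
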