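import Mathlib
import Cfsg.Agent.H183.OutPSL
import Cfsg.Agent.S2119

/-!
# Simple groups with abelian outer automorphism group

`OutAb T` : any two automorphisms commute up to an inner automorphism.
-/

set_option autoImplicit false

namespace Cfsg.Agent.H561.PPow

open Subgroup

/-- The outer automorphism group is abelian. -/
def OutAb (T : Type*) [Group T] : Prop :=
  ∀ α β : MulAut T, ∃ u : T, α * β = MulAut.conj u * β * α

variable {T T' : Type*} [Group T] [Group T']

theorem OutAb.of_equiv (f : T ≃* T') (h : OutAb T') : OutAb T := by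
  intro α β
  obtain ⟨u, hu⟩ := h ((f.symm.trans α).trans f) ((f.symm.trans β).trans f)
  refine ⟨f.symm u, ?_⟩
  ext t
  have h2 := DFunLike.congr_fun hu (f t)
  simp only [MulAut.mul_apply, MulEquiv.trans_apply, MulEquiv.symm_apply_apply,
    MulAut.conj_apply] at h2 ⊢
  have h3 := congrArg f.symm h2
  rw [MulEquiv.symm_apply_apply, map_mul, map_mul, map_inv, MulEquiv.symm_apply_apply] at h3
  exact h3

theorem OutAb.of_mem (h : ∀ α β : MulAut T, α * β * α⁻¹ * β⁻¹ ∈
    (MulAut.conj : T →* MulAut T).range) : OutAb T := by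
  intro α β
  obtain ⟨u, hu⟩ := h α β
  refine ⟨u, ?_⟩
  rw [hu]
  group

theorem OutAb.of_out (h : ∀ x y : Cfsg.Out T, x * y = y * x) : OutAb T := by
  apply OutAb.of_mem
  intro α β
  have h1 := h (QuotientGroup.mk α) (QuotientGroup.mk β)
  have h2 : ((α * β * α⁻¹ * β⁻¹ : MulAut T) : Cfsg.Out T) = 1 := by
    rw [QuotientGroup.mk_mul, QuotientGroup.mk_mul, QuotientGroup.mk_mul, QuotientGroup.mk_inv,
      QuotientGroup.mk_inv, h1]
    group
  exact (QuotientGroup.eq_one_iff _).1 h2

theorem OutAb.of_inner (h : ∀ φ : MulAut T, ∃ u : T, φ = MulAut.conj u) : OutAb T := by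
  apply OutAb.of_mem
  intro α β
  obtain ⟨u, hu⟩ := h (α * β * α⁻¹ * β⁻¹)
  exact ⟨u, hu.symm⟩

theorem OutAb.of_index_two (h : (MulAut.conj : T →* MulAut T).range.index = 2) : OutAb T := by
  apply OutAb.of_mem
  intro α β
  have h1 := fun a b => Subgroup.mul_mem_iff_of_index_two h (a := a) (b := b)
  rw [h1, h1, h1, Subgroup.inv_mem_iff, Subgroup.inv_mem_iff]
  tauto

theorem outAb_psl_two {F : Type*} [Field F] [Fintype F] (h4 : 4 ≤ Fintype.card F) :
    OutAb (Matrix.ProjectiveSpecialLinearGroup (Fin 2) F) := by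
  obtain ⟨p, hp⟩ := CharP.exists F
  have : Fact p.Prime := ⟨CharP.char_is_prime F p⟩
  obtain ⟨f', -, hF'⟩ := FiniteField.card F p
  obtain ⟨f, hf⟩ : ∃ f : ℕ, f = (f' : ℕ) := ⟨_, rfl⟩
  have hF : Fintype.card F = p ^ f := by rw [hf]; exact hF'
  have hf1 : 1 ≤ f := by rw [hf]; exact f'.one_le
  obtain ⟨φ, hφ, hcyc, hcard⟩ := Cfsg.Agent.H183.OutPSL.out_two (F := F) hf1 hF
    (by rw [← hF]; exact h4)
  apply OutAb.of_out
  have hle : Nat.card φ.ker ≤ 2 := by
    rw [hcard]
    exact Nat.gcd_le_left _ (by norm_num)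
  -- the kernel is central
  have hcen : φ.ker ≤ Subgroup.center (Cfsg.Out (Matrix.ProjectiveSpecialLinearGroup (Fin 2) F)) := by
    intro z hz
    rw [Subgroup.mem_center_iff]
    intro g
    by_contra hne
    have hz1 : z ≠ 1 := by
      rintro rfl
      exact hne (by rw [mul_one, one_mul])
    have h2 : g * z * g⁻¹ ∈ φ.ker := φ.normal_ker.conj_mem z hz g
    have h3 : g * z * g⁻¹ ≠ z := by
      intro h
      apply hne
      calc g * z = g * z * g⁻¹ * g := by group
        _ = z * g := by rw [h]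
    have h4 : g * z * g⁻¹ ≠ 1 := by
      intro h
      apply hz1
      rw [mul_inv_eq_one] at h
      exact mul_eq_left.1 h
    have h5 : Nat.card φ.ker ≠ 0 := by
      rw [hcard]
      exact (Nat.gcd_pos_of_pos_left _ (by norm_num)).ne'
    have h6 : Finite φ.ker := Nat.finite_of_card_ne_zero h5
    let ψ : Fin 3 → φ.ker := ![1, ⟨z, hz⟩, ⟨g * z * g⁻¹, h2⟩]
    have hψ : Function.Injective ψ := by
      intro a b hab
      fin_cases a <;> fin_cases b
      · rfl
      · exact absurd (congrArg Subtype.val hab).symm hz1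
      · exact absurd (congrArg Subtype.val hab).symm h4
      · exact absurd (congrArg Subtype.val hab) hz1
      · rfl
      · exact absurd (congrArg Subtype.val hab).symm h3
      · exact absurd (congrArg Subtype.val hab) h4
      · exact absurd (congrArg Subtype.val hab) h3
      · rfl
    have h7 := Nat.card_le_card_of_injective ψ hψ
    rw [Nat.card_fin] at h7
    omega
  have hc : IsCyclic (Multiplicative (ZMod f)) := inferInstance
  have hcomm := MonoidHom.isMulCommutative_of_isCyclic_of_ker_le_center φ hcen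
  exact fun x y => hcomm.is_comm.comm x y

theorem outAb_psl {d : ℕ} (hd : 3 ≤ d) {F : Type*} [Field F] [Fintype F]
    (hg : Nat.gcd d (Fintype.card F - 1) = 1) :
    OutAb (Matrix.ProjectiveSpecialLinearGroup (Fin d) F) := by
  obtain ⟨p, hp⟩ := CharP.exists F
  have : Fact p.Prime := ⟨CharP.char_is_prime F p⟩
  obtain ⟨f', -, hF'⟩ := FiniteField.card F p
  obtain ⟨f, hf⟩ : ∃ f : ℕ, f = (f' : ℕ) := ⟨_, rfl⟩
  have hF : Fintype.card F = p ^ f := by rw [hf]; exact hF'
  have hf1 : 1 ≤ f := by rw [hf]; exact f'.one_le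
  obtain ⟨φ, hφ, hcyc, hcard⟩ := Cfsg.Agent.H183.OutPSL.out_three (F := F) hf1 hF hd
  rw [← hF, hg, Subgroup.card_eq_one] at hcard
  have hinj : Function.Injective φ := (MonoidHom.ker_eq_bot_iff φ).1 hcard
  apply OutAb.of_out
  intro x y
  apply hinj
  rw [map_mul, map_mul, mul_comm]

theorem outAb_alt {n : ℕ} (hn : 4 ≤ n) (h6 : n ≠ 6) : OutAb (alternatingGroup (Fin n)) := by
  obtain ⟨-, hsurj⟩ := Cfsg.Agent.S2119.result n hn h6
  apply OutAb.of_mem
  intro α β
  obtain ⟨σ, rfl⟩ := hsurj α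
  obtain ⟨τ, rfl⟩ := hsurj β
  have h1 : σ * τ * σ⁻¹ * τ⁻¹ ∈ alternatingGroup (Fin n) := by
    rw [Equiv.Perm.mem_alternatingGroup, map_mul, map_mul, map_mul, map_inv, map_inv,
      mul_comm (Equiv.Perm.sign σ) (Equiv.Perm.sign τ), mul_assoc (Equiv.Perm.sign τ),
      mul_inv_cancel, mul_one, mul_inv_cancel]
  refine ⟨⟨_, h1⟩, ?_⟩
  rw [← map_mul, ← map_inv, ← map_mul, ← map_inv, ← map_mul]
  ext x
  rfl

end Cfsg.Agent.H561.PPow
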