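import Mathlib

/-!
# Equivalence of actions under automorphisms

* `exists_equiv` : transitive actions whose point stabilisers correspond under `σ : G ≃* G`
  are equivalent through `σ`;
* `exists_aut_of_regular` : an abelian normal subgroup which is regular in two actions gives an
  automorphism matching the point stabilisers.
-/

set_option autoImplicit false

namespace Cfsg.Agent.H561.PPow

open MulAction

/-- transitive actions whose point stabilisers correspond under an automorphism are equivalent -/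
theorem exists_equiv {G Ω₁ Ω₂ : Type*} [Group G] [MulAction G Ω₁] [MulAction G Ω₂]
    [IsPretransitive G Ω₁] [IsPretransitive G Ω₂] (x₁ : Ω₁) (x₂ : Ω₂) (σ : G ≃* G)
    (h : ∀ g : G, g • x₁ = x₁ ↔ σ g • x₂ = x₂) :
    ∃ f : Ω₁ ≃ Ω₂, ∀ (g : G) (x : Ω₁), f (g • x) = σ g • f x := by
  classical
  have hex : ∀ x : Ω₁, ∃ g : G, g • x₁ = x := fun x => exists_smul_eq G x₁ x
  choose c hc using hex
  have hwd : ∀ g g' : G, g • x₁ = g' • x₁ → σ g • x₂ = σ g' • x₂ := by
    intro g g' hg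
    have h1 : (g'⁻¹ * g) • x₁ = x₁ := by rw [mul_smul, hg, inv_smul_smul]
    have h2 := (h _).mp h1
    rw [map_mul, map_inv, mul_smul, inv_smul_eq_iff] at h2
    exact h2
  have hwd' : ∀ g g' : G, σ g • x₂ = σ g' • x₂ → g • x₁ = g' • x₁ := by
    intro g g' hg
    have h1 : σ (g'⁻¹ * g) • x₂ = x₂ := by
      rw [map_mul, map_inv, mul_smul, hg, inv_smul_smul]
    have h2 := (h _).mpr h1
    rw [mul_smul, inv_smul_eq_iff] at h2
    exact h2
  let F : Ω₁ → Ω₂ := fun x => σ (c x) • x₂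
  have hF : ∀ g : G, F (g • x₁) = σ g • x₂ := fun g => hwd _ _ (hc (g • x₁))
  have hinj : Function.Injective F := by
    intro x y hxy
    have := hwd' (c x) (c y) hxy
    rwa [hc, hc] at this
  have hsurj : Function.Surjective F := by
    intro y
    obtain ⟨g, hg⟩ := exists_smul_eq G x₂ y
    refine ⟨σ.symm g • x₁, ?_⟩
    rw [hF, MulEquiv.apply_symm_apply, hg]
  refine ⟨Equiv.ofBijective F ⟨hinj, hsurj⟩, fun g x => ?_⟩
  change F (g • x) = σ g • F x
  conv_lhs => rw [← hc x, ← mul_smul]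
  rw [hF, map_mul, mul_smul]

/-- An abelian normal subgroup which is regular in both actions. -/
theorem exists_aut_of_regular {G Ω₁ Ω₂ : Type*} [Group G] [MulAction G Ω₁] [MulAction G Ω₂]
    (N : Subgroup G) [hN : N.Normal] (hc : ∀ x ∈ N, ∀ y ∈ N, x * y = y * x) (x₁ : Ω₁) (x₂ : Ω₂)
    (h1 : ∀ g : G, ∃ n ∈ N, n • x₁ = g • x₁) (h1' : ∀ n ∈ N, n • x₁ = x₁ → n = 1)
    (h2 : ∀ g : G, ∃ n ∈ N, n • x₂ = g • x₂) (h2' : ∀ n ∈ N, n • x₂ = x₂ → n = 1) :
    ∃ σ : G ≃* G, ∀ g : G, g • x₁ = x₁ ↔ σ g • x₂ = x₂ := by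
  classical
  choose π hπN hπ using h1
  choose ρ hρN hρ using h2
  have hπu : ∀ g n : G, n ∈ N → n • x₁ = g • x₁ → n = π g := by
    intro g n hn hng
    have := h1' ((π g)⁻¹ * n) (N.mul_mem (N.inv_mem (hπN g)) hn) (by
      rw [mul_smul, hng, ← hπ g, inv_smul_smul])
    rw [inv_mul_eq_one] at this
    exact this.symm
  have hρu : ∀ g n : G, n ∈ N → n • x₂ = g • x₂ → n = ρ g := by
    intro g n hn hng
    have := h2' ((ρ g)⁻¹ * n) (N.mul_mem (N.inv_mem (hρN g)) hn) (by
      rw [mul_smul, hng, ← hρ g, inv_smul_smul])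
    rw [inv_mul_eq_one] at this
    exact this.symm
  have hcj : ∀ g n : G, n ∈ N → g * n * g⁻¹ ∈ N := fun g n hn => hN.conj_mem n hn g
  have hπm : ∀ g g' : G, π (g * g') = g * π g' * g⁻¹ * π g := by
    intro g g'
    symm
    apply hπu _ _ (N.mul_mem (hcj _ _ (hπN g')) (hπN g))
    rw [mul_smul, hπ g, ← mul_smul, mul_smul g g', ← hπ g', ← mul_smul]
    congr 1
    group
  have hρm : ∀ g g' : G, ρ (g * g') = g * ρ g' * g⁻¹ * ρ g := by
    intro g g'
    symm
    apply hρu _ _ (N.mul_mem (hcj _ _ (hρN g')) (hρN g))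
    rw [mul_smul, hρ g, ← mul_smul, mul_smul g g', ← hρ g', ← mul_smul]
    congr 1
    group
  let z : G → G := fun g => π g * (ρ g)⁻¹
  have hzN : ∀ g, z g ∈ N := fun g => N.mul_mem (hπN g) (N.inv_mem (hρN g))
  have hzm : ∀ g g', z (g * g') = z g * (g * z g' * g⁻¹) := by
    intro g g'
    change π (g * g') * (ρ (g * g'))⁻¹ = π g * (ρ g)⁻¹ * (g * (π g' * (ρ g')⁻¹) * g⁻¹)
    rw [hπm, hρm]
    have e1 : g * (π g' * (ρ g')⁻¹) * g⁻¹ = (g * π g' * g⁻¹) * (g * ρ g' * g⁻¹)⁻¹ := by group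
    rw [e1, mul_inv_rev]
    have ha := hcj g _ (hπN g')
    have hb := N.inv_mem (hcj g _ (hρN g'))
    have hp := hπN g
    have hr := N.inv_mem (hρN g)
    generalize g * π g' * g⁻¹ = a at *
    generalize (g * ρ g' * g⁻¹)⁻¹ = b at *
    generalize π g = p at *
    generalize (ρ g)⁻¹ = r at *
    calc a * p * (r * b) = (a * (p * r)) * b := by group
      _ = ((p * r) * a) * b := by rw [hc a ha _ (N.mul_mem hp hr)]
      _ = p * r * (a * b) := by group
  have hz1 : ∀ n ∈ N, z n = 1 := by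
    intro n hn
    have e1 := hπu n n hn rfl
    have e2 := hρu n n hn rfl
    change π n * (ρ n)⁻¹ = 1
    rw [← e1, ← e2, mul_inv_cancel]
  have hzl : ∀ n ∈ N, ∀ g, z (n * g) = z g := by
    intro n hn g
    rw [hzm, hz1 n hn, one_mul, hc n hn (z g) (hzN g)]
    group
  let σ : G ≃* G :=
    { toFun := fun g => z g * g
      invFun := fun g => (z g)⁻¹ * g
      left_inv := fun g => by
        change (z (z g * g))⁻¹ * (z g * g) = g
        rw [hzl _ (hzN g)]
        group
      right_inv := fun g => by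
        change z ((z g)⁻¹ * g) * ((z g)⁻¹ * g) = g
        rw [hzl _ (N.inv_mem (hzN g))]
        group
      map_mul' := fun g g' => by
        change z (g * g') * (g * g') = z g * g * (z g' * g')
        rw [hzm]
        group }
  refine ⟨σ, fun g => ?_⟩
  have hσ : σ g • x₂ = π g • x₂ := by
    change (z g * g) • x₂ = π g • x₂
    rw [mul_smul, ← hρ g, ← mul_smul]
    congr 1
    change π g * (ρ g)⁻¹ * ρ g = π g
    group
  rw [hσ, ← hπ g]
  constructor
  · intro h
    rw [h1' _ (hπN g) h, one_smul]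
  · intro h
    rw [h2' _ (hπN g) h, one_smul]

end Cfsg.Agent.H561.PPow
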