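import Cfsg.Agent.H893.PPow
import Cfsg.Agent.H561.PPEquiv

/-!
# Primitive actions of the same prime power degree: reduction to simple groups

`equiv_of_row` : two faithful primitive actions of the same prime power degree `p ^ k` are
equivalent under an automorphism of the group, if for all simple factors `T` any two subgroups of
the same index `p ^ j > 1` are conjugate in `Aut T` and `Out T` is abelian (`Row T p`).
-/

set_option autoImplicit false

namespace Cfsg.Agent.H561.PPow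

open Subgroup MulAction Cfsg.Agent.Lib.MinNormal Cfsg.Agent.H893 Cfsg.Agent.H893.Fac

/-- what is needed of a simple group `T` -/
def Row (T : Type*) [Group T] (p : ℕ) : Prop :=
  ∀ (A B : Subgroup T) (j : ℕ), 1 ≤ j → A.index = p ^ j → B.index = p ^ j →
    (∀ α β : MulAut T, ∃ u : T, α * β = MulAut.conj u * β * α) ∧
    ∃ γ : MulAut T, ∀ t : T, t ∈ A ↔ γ t ∈ B

theorem Row.of_equiv {T T' : Type*} [Group T] [Group T'] {p : ℕ} (f : T ≃* T') (h : Row T' p) :
    Row T p := by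
  intro A B j hj hA hB
  have hidx : ∀ A : Subgroup T, (A.map f.toMonoidHom).index = A.index := fun A =>
    A.index_map_equiv f
  have hmem : ∀ (A : Subgroup T) (t : T), f t ∈ A.map f.toMonoidHom ↔ t ∈ A := by
    intro A t
    constructor
    · rintro ⟨s, hs, hst⟩
      exact f.injective hst ▸ hs
    · intro ht
      exact ⟨t, ht, rfl⟩
  obtain ⟨h1, γ, hγ⟩ := h (A.map f.toMonoidHom) (B.map f.toMonoidHom) j hj
    (by rw [hidx, hA]) (by rw [hidx, hB])
  refine ⟨fun α β => ?_, (f.trans γ).trans f.symm, fun t => ?_⟩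
  · obtain ⟨u, hu⟩ := h1 ((f.symm.trans α).trans f) ((f.symm.trans β).trans f)
    refine ⟨f.symm u, ?_⟩
    ext t
    have h2 := DFunLike.congr_fun hu (f t)
    simp only [MulAut.mul_apply, MulEquiv.trans_apply, MulEquiv.symm_apply_apply,
      MulAut.conj_apply] at h2 ⊢
    have h3 := congrArg f.symm h2
    rw [MulEquiv.symm_apply_apply, map_mul, map_mul, map_inv, MulEquiv.symm_apply_apply] at h3
    exact h3
  · rw [← hmem A, hγ, ← hmem B]
    simp only [MulEquiv.trans_apply, MulEquiv.apply_symm_apply]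

section Fac

variable {G Ω : Type*} [Group G] [MulAction G Ω]
variable {N : Subgroup G} {m : ℕ} {T : Fin m → Subgroup G} {e : N ≃* (∀ i, T i)}

/-- product form and index of the intersections with the factors -/
theorem prod_form [Finite G] [FaithfulSMul G Ω] [Finite Ω] {p k : ℕ} (hp : p.Prime) (hk : 1 ≤ k)
    (hΩ : Nat.card Ω = p ^ k) (hG : IsPreprimitive G Ω) [N.Normal] (hN : N ≠ ⊥)
    (h : Fac N m T e) :
    (∀ ω : Ω, ∀ n : N, (n : G) ∈ stabilizer G ω ↔
        ∀ i, ((e n i : T i) : G) ∈ stabilizer G ω) ∧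
      (∀ ω : Ω, ∀ i, ∃ j, 1 ≤ j ∧ ((stabilizer G ω).subgroupOf (T i)).index = p ^ j) := by
  have hcard : 1 < Nat.card Ω := by rw [hΩ]; exact Nat.one_lt_pow (by omega) hp.one_lt
  have hntΩ : Nontrivial Ω := Finite.one_lt_card_iff_nontrivial.mp hcard
  have htrG : IsPretransitive G Ω := inferInstance
  obtain ⟨htr, hKN, hNK⟩ := prim_normal hG N hN
  have hTdvd : ∀ i, ¬ Nat.card (T i) ∣ p ^ k := fun i hdvd =>
    not_simple_of_card_prime_pow hp hdvd (h.simple i) (h.nonab i)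
  have key : ∀ ω : Ω, (∀ n : N, (n : G) ∈ stabilizer G ω ↔
      ∀ i, ((e n i : T i) : G) ∈ stabilizer G ω) := by
    intro ω
    set H := stabilizer G ω with hH
    have hsc := h.scott H (hKN ω) (hNK ω)
      (fun X hX hKX hinv => prim_max_inv hG N ω X hX hKX hinv)
    rcases hsc with hA | ⟨c, hcc, hc2, hc3, hc4⟩
    · exact hA
    · exfalso
      -- a factor which meets `H` trivially
      obtain ⟨i, hi, -⟩ : ∃ i, c i ≠ i ∧ True := by
        obtain ⟨j, hj, hjc⟩ := hc2 ⟨0, h.pos⟩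
        by_cases h0 : c ⟨0, h.pos⟩ = ⟨0, h.pos⟩
        · refine ⟨j, ?_, trivial⟩
          rw [hjc, h0]
          exact hj.symm
        · exact ⟨_, h0, trivial⟩
      have h1 : ∀ t : T i, (t : G) ∈ H → t = 1 := by
        classical
        intro t ht
        have h1 := hc3 (e.symm (Pi.mulSingle i t)) (by rw [h.single]; exact ht) (by
          intro j
          rw [MulEquiv.apply_symm_apply, Pi.mulSingle_eq_of_ne]
          rintro h4
          apply hi
          rw [← h4, hcc])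
        have h2 := h.single i t
        rw [h1] at h2
        exact Subtype.ext h2.symm
      have h2 := index_subgroupOf_dvd N (T i) (h.le i) (h.norm i) ω
      have h3 : (stabilizer G ω).subgroupOf (T i) = ⊥ := by
        rw [eq_bot_iff]
        intro x hx
        rw [Subgroup.mem_bot]
        exact h1 x hx
      rw [h3, Subgroup.index_bot, hΩ] at h2
      exact hTdvd i h2
  refine ⟨key, ?_⟩
  intro ω i
  have h2 := index_subgroupOf_dvd N (T i) (h.le i) (h.norm i) ω
  rw [hΩ] at h2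
  obtain ⟨j, -, hj⟩ := (Nat.dvd_prime_pow hp).mp h2
  refine ⟨j, ?_, hj⟩
  by_contra hj0
  have hj0' : j = 0 := by omega
  rw [hj0', pow_zero, Subgroup.index_eq_one, subgroupOf_eq_top] at hj
  apply hNK ω
  intro n hn
  apply (key ω ⟨n, hn⟩).mpr
  intro l
  obtain ⟨g, hg⟩ := h.trans i l
  obtain ⟨n', hn', hgn⟩ := hKN ω g
  have h1 : (T i).map (MulAut.conj n').toMonoidHom = T i :=
    mem_normalizer_iff_map_conj_eq.mp (h.norm i hn')
  have h4 : T l = (T i).map (MulAut.conj (g * n')).toMonoidHom := by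
    rw [← map_conj_map_conj, h1, hg]
  obtain ⟨s, hs, hsn⟩ := (SetLike.ext_iff.mp h4 _).mp (e ⟨n, hn⟩ l).2
  rw [← hsn]
  exact (stabilizer G ω).mul_mem ((stabilizer G ω).mul_mem hgn (hj hs))
    ((stabilizer G ω).inv_mem hgn)

/-- `N` acts on `T i` through the coordinate `i`. -/
theorem conj_single (h : Fac N m T e) (n : N) (i : Fin m) (t : G) (ht : t ∈ T i) :
    (n : G) * t * (n : G)⁻¹ = (e n i : G) * t * (e n i : G)⁻¹ := by
  classical
  have h1 : (⟨t, h.le i ht⟩ : N) = e.symm (Pi.mulSingle i ⟨t, ht⟩) := by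
    apply Subtype.ext
    rw [h.single]
  have h2 : n * ⟨t, h.le i ht⟩ * n⁻¹ =
      e.symm (Pi.mulSingle i (e n i * ⟨t, ht⟩ * (e n i)⁻¹)) := by
    apply e.injective
    rw [MulEquiv.apply_symm_apply, map_mul, map_mul, h1, MulEquiv.apply_symm_apply, map_inv]
    funext l
    by_cases hl : l = i
    · subst hl
      simp
    · simp [Pi.mulSingle_eq_of_ne hl]
  have h3 := congrArg (Subtype.val) h2
  rw [h.single] at h3
  exact h3

/-- all the indices are equal to the same power of `p` -/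
theorem index_eq [Finite G] [FaithfulSMul G Ω] [Finite Ω] {p k : ℕ} (hp : p.Prime) (hk : 1 ≤ k)
    (hΩ : Nat.card Ω = p ^ k) (hG : IsPreprimitive G Ω) [N.Normal] (hN : N ≠ ⊥)
    (h : Fac N m T e) (ω : Ω) (i : Fin m) (j : ℕ)
    (hj : ((stabilizer G ω).subgroupOf (T i)).index = p ^ j) : j * m = k := by
  classical
  obtain ⟨htr, hKN, hNK⟩ := prim_normal hG N hN
  obtain ⟨hpf, -⟩ := prod_form hp hk hΩ hG hN h
  -- all factors
  have hall : ∀ l, ((stabilizer G ω).subgroupOf (T l)).index = p ^ j := by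
    intro l
    obtain ⟨g, hg⟩ := h.trans i l
    obtain ⟨n', hn', hgn⟩ := hKN ω g
    have h1 : (T i).map (MulAut.conj n').toMonoidHom = T i :=
      mem_normalizer_iff_map_conj_eq.mp (h.norm i hn')
    have h4 : T l = (T i).map (MulAut.conj (g * n')).toMonoidHom := by
      rw [← map_conj_map_conj, h1, hg]
    have h5 : (stabilizer G ω).map (MulAut.conj (g * n')).toMonoidHom = stabilizer G ω :=
      mem_normalizer_iff_map_conj_eq.mp (le_normalizer hgn)
    rw [← hj]
    change (stabilizer G ω).relIndex (T l) = (stabilizer G ω).relIndex (T i)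
    rw [h4]
    conv_lhs => rw [← h5]
    exact relIndex_map_map_of_injective _ _ (MulAut.conj (g * n')).injective
  -- the product
  have h1 : Nat.card Ω = ((stabilizer G ω).subgroupOf N).index := by
    have h2 : (stabilizer N ω).index = Nat.card Ω := by
      rw [index_stabilizer, orbit_eq_univ, Set.ncard_univ]
    rw [← h2]
    rfl
  have hcN : Nat.card N = ∏ l, Nat.card (T l) := by
    rw [Nat.card_congr e.toEquiv, Nat.card_pi]
  have hcH : Nat.card ((stabilizer G ω).subgroupOf N) =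
      ∏ l, Nat.card ((stabilizer G ω).subgroupOf (T l)) := by
    rw [← Nat.card_pi]
    refine Nat.card_congr
      { toFun := fun x l => ⟨e x l, (hpf ω x).mp x.2 l⟩
        invFun := fun y => ⟨e.symm (fun l => (y l : T l)), by
          have := (hpf ω (e.symm (fun l => (y l : T l)))).mpr (by
            intro l
            rw [MulEquiv.apply_symm_apply]
            exact (y l).2)
          exact this⟩
        left_inv := fun x => by
          apply Subtype.ext
          change e.symm (fun l => e x l) = x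
          exact e.symm_apply_apply _
        right_inv := fun y => by
          funext l
          apply Subtype.ext
          change e (e.symm (fun l => (y l : T l))) l = _
          rw [MulEquiv.apply_symm_apply] }
  have h2 : ((stabilizer G ω).subgroupOf N).index = ∏ _l : Fin m, p ^ j := by
    have h3 := Subgroup.card_mul_index ((stabilizer G ω).subgroupOf N)
    have h4 : (∏ l, Nat.card ((stabilizer G ω).subgroupOf (T l))) *
        (∏ l, ((stabilizer G ω).subgroupOf (T l)).index) = ∏ l, Nat.card (T l) := by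
      rw [← Finset.prod_mul_distrib]
      exact Finset.prod_congr rfl fun l _ => Subgroup.card_mul_index _
    rw [hcN, ← h4, hcH] at h3
    have h5 := Nat.eq_of_mul_eq_mul_left
      (Finset.prod_pos fun l _ => (Nat.card_pos : 0 < Nat.card
        ((stabilizer G ω).subgroupOf (T l)))) h3
    rw [h5]
    exact Finset.prod_congr rfl fun l _ => hall l
  rw [Finset.prod_const, Finset.card_univ, Fintype.card_fin, ← h1, hΩ, ← pow_mul] at h2
  exact (Nat.pow_right_injective hp.two_le h2).symm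

/-- a point stabiliser is the normaliser of its intersection with the socle -/
theorem mem_stab_iff [Finite G] [FaithfulSMul G Ω] [Finite Ω] {p k : ℕ} (hp : p.Prime)
    (hk : 1 ≤ k) (hΩ : Nat.card Ω = p ^ k) (hG : IsPreprimitive G Ω) [N.Normal] (hN : N ≠ ⊥)
    (hmin : ∀ M : Subgroup G, M.Normal → M ≤ N → M = ⊥ ∨ M = N)
    (h : Fac N m T e) (ω : Ω) (g : G) :
    g ∈ stabilizer G ω ↔ ∀ n ∈ N, n ∈ stabilizer G ω → g * n * g⁻¹ ∈ stabilizer G ω := by
  have hcard : 1 < Nat.card Ω := by rw [hΩ]; exact Nat.one_lt_pow (by omega) hp.one_lt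
  have hntΩ : Nontrivial Ω := Finite.one_lt_card_iff_nontrivial.mp hcard
  constructor
  · intro hg n _ hn
    exact (stabilizer G ω).mul_mem ((stabilizer G ω).mul_mem hg hn) ((stabilizer G ω).inv_mem hg)
  intro hg
  obtain ⟨htr, hKN, hNK⟩ := prim_normal hG N hN
  obtain ⟨hpf, hidx⟩ := prod_form hp hk hΩ hG hN h
  have hco : IsCoatom (stabilizer G ω) := (isCoatom_stabilizer_iff_preprimitive G ω).mpr hG
  have hle : stabilizer G ω ≤ normalizer ((stabilizer G ω ⊓ N : Subgroup G) : Set G) := by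
    rw [le_normalizer_iff]
    intro k hk x hx
    exact ⟨(stabilizer G ω).mul_mem ((stabilizer G ω).mul_mem hk hx.1)
      ((stabilizer G ω).inv_mem hk), (inferInstance : N.Normal).conj_mem _ hx.2 k⟩
  have hgn : g ∈ normalizer ((stabilizer G ω ⊓ N : Subgroup G) : Set G) := by
    rw [mem_normalizer_iff_map_conj_eq]
    apply Subgroup.eq_of_le_of_card_ge
    · rintro _ ⟨x, hx, rfl⟩
      exact ⟨hg x hx.2 hx.1, (inferInstance : N.Normal).conj_mem _ hx.2 g⟩
    · exact (Nat.card_congr ((stabilizer G ω ⊓ N).equivMapOfInjective _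
        (MulAut.conj g).injective).toEquiv).le
  rcases hco.le_iff.mp hle with h1 | h1
  · exfalso
    have hn : (stabilizer G ω ⊓ N).Normal := Subgroup.normalizer_eq_top_iff.mp h1
    rcases hmin _ hn inf_le_right with h2 | h2
    · have i₀ : Fin m := ⟨0, h.pos⟩
      obtain ⟨j, hj, hji⟩ := hidx ω i₀
      have h3 : (stabilizer G ω).subgroupOf (T i₀) = ⊥ := by
        rw [eq_bot_iff]
        intro x hx
        rw [Subgroup.mem_bot]
        apply Subtype.ext
        have : (x : G) ∈ stabilizer G ω ⊓ N := ⟨hx, h.le i₀ x.2⟩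
        rw [h2] at this
        exact this
      rw [h3, Subgroup.index_bot] at hji
      exact not_simple_of_card_prime_pow hp (dvd_of_eq hji) (h.simple i₀) (h.nonab i₀)
    · apply hNK ω
      rw [← h2]
      exact inf_le_left
  · rwa [h1] at hgn

end Fac

/-- Automorphisms of a normal subgroup with trivial centralizer which normalise the image of the
group extend. -/
theorem exists_extend {G : Type*} [Group G] [Finite G] (N : Subgroup G) [N.Normal]
    (hc : centralizer (N : Set G) = ⊥) (Γ : N ≃* N)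
    (hΓ : ∀ g : G, ∃ g' : G, ∀ x : N, Γ (cj N g x) = cj N g' (Γ x)) :
    ∃ σ : G ≃* G, ∀ x : N, σ x = Γ x := by
  have huniq : ∀ g g' : G, (∀ x : N, cj N g x = cj N g' x) → g = g' := by
    intro g g' hgg
    have : g'⁻¹ * g ∈ centralizer (N : Set G) := by
      rw [mem_centralizer_iff]
      intro x hx
      have h1 : g * x * g⁻¹ = g' * x * g'⁻¹ := congrArg Subtype.val (hgg ⟨x, hx⟩)
      calc x * (g'⁻¹ * g) = g'⁻¹ * (g' * x * g'⁻¹) * g := by group
        _ = g'⁻¹ * (g * x * g⁻¹) * g := by rw [h1]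
        _ = g'⁻¹ * g * x := by group
    rw [hc, Subgroup.mem_bot, inv_mul_eq_one] at this
    exact this.symm
  have hcjm : ∀ (g g' : G) (x : N), cj N (g * g') x = cj N g (cj N g' x) := by
    intro g g' x
    apply Subtype.ext
    change g * g' * (x : G) * (g * g')⁻¹ = g * (g' * (x : G) * g'⁻¹) * g⁻¹
    group
  choose s hs using hΓ
  have hsm : ∀ g g', s (g * g') = s g * s g' := by
    intro g g'
    apply huniq
    intro x
    obtain ⟨y, rfl⟩ := Γ.surjective x
    rw [← hs, hcjm, hcjm, hs, hs]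
  have hinj : Function.Injective s := by
    intro g g' hgg
    apply huniq
    intro x
    apply Γ.injective
    rw [hs, hs, hgg]
  have hbij : Function.Bijective s := Finite.injective_iff_bijective.mp hinj
  refine ⟨{ Equiv.ofBijective s hbij with map_mul' := hsm }, fun x => ?_⟩
  change s x = Γ x
  apply huniq
  intro y
  obtain ⟨z, rfl⟩ := Γ.surjective y
  rw [← hs]
  have h1 : cj N (x : G) z = x * z * x⁻¹ := rfl
  rw [h1, map_mul, map_mul, map_inv]
  rfl

section Main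

variable {G : Type*} [Group G]
variable {N : Subgroup G} {m : ℕ} {T : Fin m → Subgroup G} {e : N ≃* (∀ i, T i)}

/-- conjugation as an isomorphism between the factors -/
noncomputable def kap {A B : Subgroup G} (g : G) (hg : B = A.map (MulAut.conj g).toMonoidHom) :
    A ≃* B :=
  ((MulAut.conj g).subgroupMap A).trans (MulEquiv.subgroupCongr hg.symm)

theorem kap_coe {A B : Subgroup G} (g : G) (hg : B = A.map (MulAut.conj g).toMonoidHom) (a : A) :
    ((kap g hg a : B) : G) = g * (a : G) * g⁻¹ := rfl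

/-- The main construction -/
theorem exists_Gam [Finite G] [N.Normal] (h : Fac N m T e) (hc : centralizer (N : Set G) = ⊥)
    (H₁ H₂ : Subgroup G)
    (hG₁ : ∀ g : G, ∃ n ∈ N, g * n ∈ H₁) (hG₂ : ∀ g : G, ∃ n ∈ N, g * n ∈ H₂)
    (hp₁ : ∀ n : N, (n : G) ∈ H₁ ↔ ∀ i, ((e n i : T i) : G) ∈ H₁)
    (hp₂ : ∀ n : N, (n : G) ∈ H₂ ↔ ∀ i, ((e n i : T i) : G) ∈ H₂) (i₀ : Fin m)
    (hout : ∀ α β : MulAut (T i₀), ∃ u : T i₀, α * β = MulAut.conj u * β * α)
    (γ₀ : MulAut (T i₀)) (hγ₀ : ∀ t : T i₀, (t : G) ∈ H₁ ↔ ((γ₀ t : T i₀) : G) ∈ H₂) :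
    ∃ σ : G ≃* G, (∀ x, σ x ∈ N ↔ x ∈ N) ∧ (∀ x ∈ N, x ∈ H₁ ↔ σ x ∈ H₂) := by
  classical
  choose g hg using fun i => h.trans i₀ i
  let κ : ∀ i, T i₀ ≃* T i := fun i => kap (g i) (hg i)
  have hκ : ∀ i (t : T i₀), ((κ i t : T i) : G) = g i * (t : G) * (g i)⁻¹ := fun i t => rfl
  let γ : ∀ i, T i ≃* T i := fun i => ((κ i).symm.trans γ₀).trans (κ i)
  have hγ : ∀ i (t : T i₀), γ i (κ i t) = κ i (γ₀ t) := by
    intro i t
    change κ i (γ₀ ((κ i).symm (κ i t))) = _
    rw [MulEquiv.symm_apply_apply]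
  let Γ : N ≃* N := (e.trans (MulEquiv.piCongrRight γ)).trans e.symm
  have hΓe : ∀ (n : N) i, e (Γ n) i = γ i (e n i) := by
    intro n i
    change e (e.symm (MulEquiv.piCongrRight γ (e n))) i = _
    rw [MulEquiv.apply_symm_apply]
    rfl
  have hsingle : ∀ i (t : T i), e ⟨(t : G), h.le i t.2⟩ = Pi.mulSingle i t := by
    intro i t
    apply e.symm.injective
    rw [MulEquiv.symm_apply_apply]
    apply Subtype.ext
    rw [h.single]
  have hΓs : ∀ i (t : T i), ((Γ ⟨(t : G), h.le i t.2⟩ : N) : G) = (γ i t : T i) := by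
    intro i t
    rw [← h.single i (γ i t)]
    congr 1
    apply e.injective
    rw [MulEquiv.apply_symm_apply]
    funext l
    rw [hΓe, hsingle]
    by_cases hl : l = i
    · subst hl
      rw [Pi.mulSingle_eq_same, Pi.mulSingle_eq_same]
    · rw [Pi.mulSingle_eq_of_ne hl, Pi.mulSingle_eq_of_ne hl, map_one]
  -- `Γ` normalises the image of `G`
  have hnorm : ∀ x : G, ∃ x' : G, ∀ y : N, Γ (cj N x y) = cj N x' (Γ y) := by
    intro x
    have hex : ∀ j, ∃ s : T j, ∀ i, ∀ hij : T j = (T i).map (MulAut.conj x).toMonoidHom,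
        ∀ t : T i, ((γ j (kap x hij t) : T j) : G) =
          (s : G) * (x * ((γ i t : T i) : G) * x⁻¹) * (s : G)⁻¹ := by
      intro j
      obtain ⟨i, hi⟩ := h.conj x⁻¹ j
      have hij : T j = (T i).map (MulAut.conj x).toMonoidHom := by
        rw [hi, map_conj_map_conj, mul_inv_cancel, map_conj_one]
      let δ : MulAut (T i₀) := ((κ i).trans (kap x hij)).trans (κ j).symm
      have hδ : ∀ t, κ j (δ t) = kap x hij (κ i t) := by
        intro t
        change κ j ((κ j).symm (kap x hij (κ i t))) = _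
        rw [MulEquiv.apply_symm_apply]
      obtain ⟨u, hu⟩ := hout γ₀ δ
      refine ⟨κ j u, ?_⟩
      intro i' hij' t
      have hii : i' = i := by
        apply h.inj
        exact Subgroup.map_injective (MulAut.conj x).injective (hij'.symm.trans hij)
      subst hii
      obtain ⟨t₀, rfl⟩ := (κ i').surjective t
      have h1 : kap x hij' (κ i' t₀) = κ j (δ t₀) := by
        rw [hδ]
      rw [h1, hγ]
      have h2 : γ₀ (δ t₀) = u * δ (γ₀ t₀) * u⁻¹ := by
        have := DFunLike.congr_fun hu t₀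
        simpa [MulAut.mul_apply] using this
      rw [h2, map_mul, map_mul, map_inv, hδ, hγ]
      rfl
    choose s hs using hex
    refine ⟨(e.symm s : N) * x, ?_⟩
    -- the subgroup of those `y` on which the formula holds
    let E : Subgroup (∀ i, T i) :=
      { carrier := {y | Γ (cj N x (e.symm y)) = cj N ((e.symm s : N) * x) (Γ (e.symm y))}
        one_mem' := by
          change Γ (cj N x (e.symm 1)) = cj N ((e.symm s : N) * x) (Γ (e.symm 1))
          have h1 : ∀ z : G, cj N z 1 = 1 := by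
            intro z
            apply Subtype.ext
            simp [cj]
          rw [map_one, h1, map_one, h1]
        mul_mem' := by
          intro a b ha hb
          change Γ (cj N x (e.symm (a * b))) = cj N ((e.symm s : N) * x) (Γ (e.symm (a * b)))
          rw [map_mul, cj_mul, map_mul, map_mul, cj_mul]
          exact congrArg₂ (· * ·) ha hb
        inv_mem' := by
          intro a ha
          change Γ (cj N x (e.symm a⁻¹)) = cj N ((e.symm s : N) * x) (Γ (e.symm a⁻¹))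
          rw [map_inv, cj_inv, map_inv, map_inv, cj_inv]
          exact congrArg (·⁻¹) ha }
    have hE : ∀ y, y ∈ E := by
      intro y
      apply Subgroup.pi_mem_of_mulSingle_mem
      intro i
      change Γ (cj N x (e.symm (Pi.mulSingle i (y i)))) =
        cj N ((e.symm s : N) * x) (Γ (e.symm (Pi.mulSingle i (y i))))
      obtain ⟨j, hij⟩ := h.conj x i
      have h1 : e.symm (Pi.mulSingle i (y i)) = ⟨(y i : G), h.le i (y i).2⟩ := by
        apply Subtype.ext
        rw [h.single]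
      have h2 : cj N x ⟨(y i : G), h.le i (y i).2⟩ =
          ⟨(kap x hij (y i) : G), h.le j (kap x hij (y i)).2⟩ := by
        apply Subtype.ext
        rfl
      rw [h1, h2]
      apply Subtype.ext
      rw [hΓs, hs j i hij]
      change _ = ((e.symm s : N) : G) * x * ((Γ ⟨(y i : G), h.le i (y i).2⟩ : N) : G) *
        (((e.symm s : N) : G) * x)⁻¹
      rw [hΓs]
      have h3 : x * ((γ i (y i) : T i) : G) * x⁻¹ ∈ T j := by
        rw [hij]
        exact ⟨_, (γ i (y i)).2, rfl⟩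
      have h4 := conj_single h (e.symm s) j _ h3
      rw [MulEquiv.apply_symm_apply] at h4
      rw [← h4]
      group
    intro y
    have := hE (e y)
    change Γ (cj N x (e.symm (e y))) = cj N ((e.symm s : N) * x) (Γ (e.symm (e y))) at this
    rwa [MulEquiv.symm_apply_apply] at this
  obtain ⟨σ, hσ⟩ := exists_extend N hc Γ hnorm
  -- matching of the subgroups
  have hn : ∀ i, ∃ n : T i, ∀ t : T i,
      (t : G) ∈ H₁ ↔ (n : G) * ((γ i t : T i) : G) * (n : G)⁻¹ ∈ H₂ := by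
    intro i
    obtain ⟨a, ha, hga⟩ := hG₁ (g i)
    obtain ⟨b, hb, hgb⟩ := hG₂ (g i)
    set a₀ := e ⟨a, ha⟩ i₀ with ha₀
    set b₀ := e ⟨b, hb⟩ i₀ with hb₀
    have h1 : ∀ t₀ : T i₀, ((κ i t₀ : T i) : G) ∈ H₁ ↔ (a₀ : G)⁻¹ * (t₀ : G) * a₀ ∈ H₁ := by
      intro t₀
      have h2 := conj_single h (⟨a, ha⟩ : N) i₀ ((a₀ : G)⁻¹ * (t₀ : G) * a₀)
        ((T i₀).mul_mem ((T i₀).mul_mem ((T i₀).inv_mem a₀.2) t₀.2) a₀.2)
      rw [← ha₀] at h2
      have h3 : (a₀ : G) * ((a₀ : G)⁻¹ * (t₀ : G) * a₀) * (a₀ : G)⁻¹ = t₀ := by group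
      rw [h3] at h2
      have h4 : ((κ i t₀ : T i) : G) =
          (g i * a) * ((a₀ : G)⁻¹ * (t₀ : G) * a₀) * (g i * a)⁻¹ := by
        have h2' : a * ((a₀ : G)⁻¹ * (t₀ : G) * a₀) * a⁻¹ = t₀ := h2
        rw [hκ]
        calc g i * (t₀ : G) * (g i)⁻¹ =
            g i * (a * ((a₀ : G)⁻¹ * (t₀ : G) * a₀) * a⁻¹) * (g i)⁻¹ := by rw [h2']
          _ = _ := by group
      rw [h4]
      constructor
      · intro h5
        have h6 := H₁.mul_mem (H₁.mul_mem (H₁.inv_mem hga) h5) hga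
        have h7 : (g i * a)⁻¹ * ((g i * a) * ((a₀ : G)⁻¹ * (t₀ : G) * a₀) * (g i * a)⁻¹) *
            (g i * a) = (a₀ : G)⁻¹ * (t₀ : G) * a₀ := by group
        rwa [h7] at h6
      · intro h5
        exact H₁.mul_mem (H₁.mul_mem hga h5) (H₁.inv_mem hga)
    have h1' : ∀ t₀ : T i₀, ((κ i t₀ : T i) : G) ∈ H₂ ↔ (b₀ : G)⁻¹ * (t₀ : G) * b₀ ∈ H₂ := by
      intro t₀
      have h2 := conj_single h (⟨b, hb⟩ : N) i₀ ((b₀ : G)⁻¹ * (t₀ : G) * b₀)
        ((T i₀).mul_mem ((T i₀).mul_mem ((T i₀).inv_mem b₀.2) t₀.2) b₀.2)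
      rw [← hb₀] at h2
      have h3 : (b₀ : G) * ((b₀ : G)⁻¹ * (t₀ : G) * b₀) * (b₀ : G)⁻¹ = t₀ := by group
      rw [h3] at h2
      have h4 : ((κ i t₀ : T i) : G) =
          (g i * b) * ((b₀ : G)⁻¹ * (t₀ : G) * b₀) * (g i * b)⁻¹ := by
        have h2' : b * ((b₀ : G)⁻¹ * (t₀ : G) * b₀) * b⁻¹ = t₀ := h2
        rw [hκ]
        calc g i * (t₀ : G) * (g i)⁻¹ =
            g i * (b * ((b₀ : G)⁻¹ * (t₀ : G) * b₀) * b⁻¹) * (g i)⁻¹ := by rw [h2']
          _ = _ := by group
      rw [h4]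
      constructor
      · intro h5
        have h6 := H₂.mul_mem (H₂.mul_mem (H₂.inv_mem hgb) h5) hgb
        have h7 : (g i * b)⁻¹ * ((g i * b) * ((b₀ : G)⁻¹ * (t₀ : G) * b₀) * (g i * b)⁻¹) *
            (g i * b) = (b₀ : G)⁻¹ * (t₀ : G) * b₀ := by group
        rwa [h7] at h6
      · intro h5
        exact H₂.mul_mem (H₂.mul_mem hgb h5) (H₂.inv_mem hgb)
    refine ⟨κ i (b₀ * (γ₀ a₀)⁻¹), ?_⟩
    intro t
    obtain ⟨t₀, rfl⟩ := (κ i).surjective t
    rw [h1, hγ]
    have h5 : (a₀ : G)⁻¹ * (t₀ : G) * a₀ = ((a₀⁻¹ * t₀ * a₀ : T i₀) : G) := rfl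
    rw [h5, hγ₀]
    have h6 : ((κ i (b₀ * (γ₀ a₀)⁻¹) : T i) : G) * ((κ i (γ₀ t₀) : T i) : G) *
        ((κ i (b₀ * (γ₀ a₀)⁻¹) : T i) : G)⁻¹ =
        ((κ i (b₀ * (γ₀ a₀)⁻¹ * γ₀ t₀ * (b₀ * (γ₀ a₀)⁻¹)⁻¹) : T i) : G) := by
      generalize b₀ * (γ₀ a₀)⁻¹ = w
      rw [map_mul, map_mul, map_inv]
      rfl
    rw [h6, h1']
    have h7 : (b₀ : G)⁻¹ * ((b₀ * (γ₀ a₀)⁻¹ * γ₀ t₀ * (b₀ * (γ₀ a₀)⁻¹)⁻¹ : T i₀) : G) * b₀ =
        ((γ₀ (a₀⁻¹ * t₀ * a₀) : T i₀) : G) := by
      rw [map_mul, map_mul, map_inv]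
      simp only [Subgroup.coe_mul, Subgroup.coe_inv]
      group
    rw [h7]
  choose n hn using hn
  refine ⟨σ.trans (MulAut.conj ((e.symm n : N) : G)), ?_, ?_⟩
  · have h1 : ∀ x ∈ N, (σ.trans (MulAut.conj ((e.symm n : N) : G))) x ∈ N := by
      intro x hx
      change ((e.symm n : N) : G) * σ x * ((e.symm n : N) : G)⁻¹ ∈ N
      apply (inferInstance : N.Normal).conj_mem
      rw [hσ ⟨x, hx⟩]
      exact (Γ ⟨x, hx⟩).2
    intro x
    refine ⟨fun hx => ?_, h1 x⟩
    -- surjectivity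
    have h2 : N.map (σ.trans (MulAut.conj ((e.symm n : N) : G))).toMonoidHom = N := by
      apply Subgroup.eq_of_le_of_card_ge
      · rintro _ ⟨y, hy, rfl⟩
        exact h1 y hy
      · exact (Nat.card_congr (N.equivMapOfInjective _
          (σ.trans (MulAut.conj ((e.symm n : N) : G))).injective).toEquiv).le
    have hx' : (σ.trans (MulAut.conj ((e.symm n : N) : G))) x ∈
        N.map (σ.trans (MulAut.conj ((e.symm n : N) : G))).toMonoidHom := h2.symm ▸ hx
    obtain ⟨y, hy, hyx⟩ := hx'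
    exact (σ.trans (MulAut.conj ((e.symm n : N) : G))).injective hyx ▸ hy
  · intro x hx
    change _ ↔ ((e.symm n : N) : G) * σ x * ((e.symm n : N) : G)⁻¹ ∈ H₂
    rw [hσ ⟨x, hx⟩]
    have h1 : ((e.symm n : N) : G) * ((Γ ⟨x, hx⟩ : N) : G) * ((e.symm n : N) : G)⁻¹ =
        ((e.symm n * Γ ⟨x, hx⟩ * (e.symm n)⁻¹ : N) : G) := rfl
    rw [h1, hp₂]
    have h2 := hp₁ ⟨x, hx⟩
    rw [h2]
    apply forall_congr'
    intro i
    rw [hn i]
    rw [map_mul, map_mul, map_inv, MulEquiv.apply_symm_apply, Pi.mul_apply, Pi.mul_apply,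
      Pi.inv_apply, hΓe]
    rfl

end Main

/-- The reduction. -/
theorem equiv_of_row {G Ω₁ Ω₂ : Type*} [Group G] [Finite G] [MulAction G Ω₁] [FaithfulSMul G Ω₁]
    [Finite Ω₁] [MulAction G Ω₂] [FaithfulSMul G Ω₂] [Finite Ω₂]
    (p k : ℕ) (hp : p.Prime) (hk : 1 ≤ k) (h₁ : Nat.card Ω₁ = p ^ k) (h₂ : Nat.card Ω₂ = p ^ k)
    (hprim₁ : IsPreprimitive G Ω₁) (hprim₂ : IsPreprimitive G Ω₂)
    (hrow : ∀ T : Subgroup G, IsSimpleGroup T → (∃ a b : T, a * b ≠ b * a) → Row T p) :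
    ∃ (σ : G ≃* G) (f : Ω₁ ≃ Ω₂), ∀ (g : G) (x : Ω₁), f (g • x) = σ g • f x := by
  have hcard₁ : 1 < Nat.card Ω₁ := by rw [h₁]; exact Nat.one_lt_pow (by omega) hp.one_lt
  have hnt₁ : Nontrivial Ω₁ := Finite.one_lt_card_iff_nontrivial.mp hcard₁
  have hcard₂ : 1 < Nat.card Ω₂ := by rw [h₂]; exact Nat.one_lt_pow (by omega) hp.one_lt
  have hnt₂ : Nontrivial Ω₂ := Finite.one_lt_card_iff_nontrivial.mp hcard₂
  have htr₁ : IsPretransitive G Ω₁ := inferInstance
  have htr₂ : IsPretransitive G Ω₂ := inferInstance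
  obtain ⟨x₁⟩ := (inferInstance : Nonempty Ω₁)
  obtain ⟨x₂⟩ := (inferInstance : Nonempty Ω₂)
  suffices hσ : ∃ σ : G ≃* G, ∀ g : G, g • x₁ = x₁ ↔ σ g • x₂ = x₂ by
    obtain ⟨σ, hσ⟩ := hσ
    obtain ⟨f, hf⟩ := exists_equiv x₁ x₂ σ hσ
    exact ⟨σ, f, hf⟩
  rcases ppow_socle hp hk h₁ hprim₁ with ⟨N, hN, hab, htr, hst⟩ |
      ⟨N, hN, m, T, e, h, hNb, hmin, hc, htr, -, -⟩
  · -- the affine case
    have hNb : N ≠ ⊥ := by
      rintro rfl
      obtain ⟨a, b, hab'⟩ := exists_pair_ne Ω₁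
      obtain ⟨⟨g, hg⟩, hgab⟩ := exists_smul_eq (⊥ : Subgroup G) a b
      rw [Subgroup.mem_bot] at hg
      subst hg
      apply hab'
      rw [← hgab]
      exact (one_smul G a).symm
    obtain ⟨htr', -, -⟩ := prim_normal hprim₂ N hNb
    refine exists_aut_of_regular N (fun x hx y hy => hab x hx y hy) x₁ x₂ ?_ ?_ ?_ ?_
    · intro g
      obtain ⟨n, hn⟩ := exists_smul_eq N x₁ (g • x₁)
      exact ⟨n, n.2, hn⟩
    · intro n hn hnx
      exact stabilizer_eq_bot_of_comm N N (fun x hx y hy => hab x hx y hy) htr x₁ n hn hnx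
    · intro g
      obtain ⟨n, hn⟩ := exists_smul_eq N x₂ (g • x₂)
      exact ⟨n, n.2, hn⟩
    · intro n hn hnx
      exact stabilizer_eq_bot_of_comm N N (fun x hx y hy => hab x hx y hy) htr' x₂ n hn hnx
  · obtain ⟨-, hKN₁, -⟩ := prim_normal hprim₁ N hNb
    obtain ⟨-, hKN₂, -⟩ := prim_normal hprim₂ N hNb
    obtain ⟨hpf₁, hidx₁⟩ := prod_form hp hk h₁ hprim₁ hNb h
    obtain ⟨hpf₂, hidx₂⟩ := prod_form hp hk h₂ hprim₂ hNb h
    have i₀ : Fin m := ⟨0, h.pos⟩
    obtain ⟨j₁, hj₁, hj₁i⟩ := hidx₁ x₁ i₀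
    obtain ⟨j₂, hj₂, hj₂i⟩ := hidx₂ x₂ i₀
    have e₁ := index_eq hp hk h₁ hprim₁ hNb h x₁ i₀ j₁ hj₁i
    have e₂ := index_eq hp hk h₂ hprim₂ hNb h x₂ i₀ j₂ hj₂i
    have hjj : j₁ = j₂ := Nat.eq_of_mul_eq_mul_right h.pos (e₁.trans e₂.symm)
    subst hjj
    obtain ⟨hout, γ₀, hγ₀⟩ := hrow (T i₀) (h.simple i₀) (h.nonab i₀) _ _ j₁ hj₁ hj₁i hj₂i
    obtain ⟨σ, hσN, hσ⟩ := exists_Gam h hc (stabilizer G x₁) (stabilizer G x₂) (hKN₁ x₁)
      (hKN₂ x₂) (hpf₁ x₁) (hpf₂ x₂) i₀ hout γ₀ hγ₀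
    refine ⟨σ, fun g => ?_⟩
    rw [← mem_stabilizer_iff, ← mem_stabilizer_iff,
      mem_stab_iff hp hk h₁ hprim₁ hNb hmin h x₁ g,
      mem_stab_iff hp hk h₂ hprim₂ hNb hmin h x₂ (σ g)]
    constructor
    · intro h3 n hn hn2
      obtain ⟨y, rfl⟩ := σ.surjective n
      have hyN : y ∈ N := (hσN y).mp hn
      have h4 := h3 y hyN ((hσ y hyN).mpr hn2)
      have h5 := (hσ _ (hN.conj_mem _ hyN g)).mp h4
      rwa [map_mul, map_mul, map_inv] at h5
    · intro h3 n hn hn2
      rw [hσ _ (hN.conj_mem _ hn g), map_mul, map_mul, map_inv]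
      exact h3 (σ n) ((hσN n).mpr hn) ((hσ n hn).mp hn2)

end Cfsg.Agent.H561.PPow
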