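import Mathlib
import Cfsg.Agent.ClassicalGeometry.AutPSL.SylowU
import Cfsg.Agent.H79.MinIdxSL.Basic

/-!
# Subgroups of `PSL(d, q)` of index `(q ^ d - 1) / (q - 1)`

`psl_point` : such a subgroup is mapped by an automorphism of `PSL(d, q)` onto the stabiliser of a
point.
-/

set_option autoImplicit false

namespace Cfsg.Agent.H561.PPSL

open Matrix Subgroup Cfsg.Agent.ClassicalGeometry.AutPSL.Root
  Cfsg.Agent.ClassicalGeometry.AutPSL.Auto Cfsg.Agent.ClassicalGeometry.AutPSL.SylowU
  Cfsg.Agent.H79.MinIdxSL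
open scoped LinearAlgebra.Projectivization

section General

variable {ι F : Type*} [Fintype ι] [DecidableEq ι] [Field F]

/-- `A` contains all transvections with centre `e`. -/
def Full (A : Subgroup (SpecialLinearGroup ι F)) (e : ι → F) : Prop :=
  ∀ φ (h : φ ⬝ᵥ e = 0), tr e φ h ∈ A

variable {A : Subgroup (SpecialLinearGroup ι F)}

theorem Full.map {g : SpecialLinearGroup ι F} (hg : g ∈ A) {e : ι → F} (he : Full A e) :
    Full A (g • e) := by
  intro φ h
  have h1 : co g⁻¹ φ ⬝ᵥ e = 0 := by rw [co_dot, inv_inv, h]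
  have h2 := conj_tr g e (co g⁻¹ φ) h1
  have h3 : tr (g • e) (co g (co g⁻¹ φ)) (co_perp h1) = tr (g • e) φ h :=
    tr_congr rfl (co_co_inv g φ)
  rw [← h3, ← h2]
  exact A.mul_mem (A.mul_mem hg (he _ h1)) (A.inv_mem hg)

theorem Full.smul {e : ι → F} (he : Full A e) (c : F) : Full A (c • e) := by
  intro φ h
  have h1 : (c • φ) ⬝ᵥ e = 0 := by
    rw [smul_dotProduct, ← dotProduct_smul]; exact h
  have h2 : tr (c • e) φ h = tr e (c • φ) h1 := by
    apply sl_ext'
    intro x
    rw [tr_smul, tr_smul, smul_dotProduct, smul_eq_mul, smul_smul, mul_comm]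
  rw [h2]
  exact he _ h1

theorem Full.add {e f : ι → F} (he : Full A e) (hf : Full A f) : Full A (e + f) := by
  by_cases h : e ∈ Submodule.span F {f}
  · obtain ⟨c, rfl⟩ := Submodule.mem_span_singleton.1 h
    have : c • f + f = (c + 1) • f := by rw [add_smul, one_smul]
    rw [this]
    exact hf.smul _
  · obtain ⟨ψ, h1, h2⟩ := exists_fn _ h
    have h3 : ψ ⬝ᵥ f = 0 := h1 f (Submodule.mem_span_singleton_self f)
    have h4 := he.map (hf ψ h3)
    rwa [tr_smul, h2, one_smul] at h4

/-- The span of the centres. -/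
def WW (A : Subgroup (SpecialLinearGroup ι F)) : Submodule F (ι → F) where
  carrier := {e | Full A e}
  zero_mem' := by
    intro φ h
    have : tr (0 : ι → F) φ h = 1 := by
      apply sl_ext'
      intro x
      rw [tr_smul, smul_zero, add_zero, one_smul]
    rw [this]
    exact A.one_mem
  add_mem' := fun h1 h2 => Full.add h1 h2
  smul_mem' := fun c _ h => Full.smul h c

theorem mem_WW {e : ι → F} : e ∈ WW A ↔ Full A e := Iff.rfl

theorem smul_mem_WW {g : SpecialLinearGroup ι F} (hg : g ∈ A) {e : ι → F} (he : e ∈ WW A) :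
    g • e ∈ WW A := Full.map hg he

theorem eq_top_of_WW (h : WW A = ⊤) : A = ⊤ := by
  have h1 : ∀ e : ι → F, Full A e := fun e => by
    have : e ∈ WW A := by rw [h]; exact Submodule.mem_top
    exact this
  rw [eq_top_iff, ← Cfsg.Agent.LieClassical.SLGen.closure_transvections, Subgroup.closure_le]
  rintro g hg
  obtain ⟨i, j, hij, c, rfl⟩ := hg
  rw [transvection_eq_tr]
  exact h1 _ _ _

end General

section Fin

variable {d : ℕ} {F : Type*} [Field F] [Fintype F]
variable {A : Subgroup (SpecialLinearGroup (Fin d) F)}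

theorem single_zero_mem (hd : 2 ≤ d) (hU : upper d F ≤ A) :
    (Pi.single ⟨0, by omega⟩ 1 : Fin d → F) ∈ WW A := by
  intro φ h
  apply hU
  rw [mem_upper]
  obtain ⟨z, hz⟩ : ∃ z : Fin d, z = ⟨0, by omega⟩ := ⟨_, rfl⟩
  intro i j hij
  rw [coe_tr, Matrix.add_apply, Matrix.one_apply, vecMulVec_apply, ← hz]
  have h0 : φ z = 0 := by
    rw [dotProduct_single, mul_one, ← hz] at h
    exact h
  by_cases hi : i = z
  · have hj : j = z := by
      rw [hi] at hij
      apply Fin.ext
      have h1 : (j : ℕ) ≤ (z : ℕ) := hij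
      have h2 : (z : ℕ) = 0 := by rw [hz]
      omega
    rw [hj, h0, mul_zero, add_zero]
  · rw [Pi.single_eq_of_ne hi, zero_mul, add_zero]

/-- The shape of `WW A`. -/
theorem exists_shape (hd : 2 ≤ d) (hU : upper d F ≤ A) :
    ∃ m : Fin d, ∀ w : Fin d → F, w ∈ WW A ↔ ∀ k, m < k → w k = 0 := by
  classical
  let S : Finset (Fin d) := Finset.univ.filter fun k => ∃ w ∈ WW A, w k ≠ 0
  have hS : S.Nonempty := by
    refine ⟨⟨0, by omega⟩, ?_⟩
    rw [Finset.mem_filter]
    refine ⟨Finset.mem_univ _, _, single_zero_mem hd hU, ?_⟩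
    rw [Pi.single_eq_same]
    exact one_ne_zero
  obtain ⟨m, hm, hmax⟩ := S.exists_max_image id hS
  rw [Finset.mem_filter] at hm
  obtain ⟨-, w₀, hw₀, hw₀m⟩ := hm
  have hle : ∀ w ∈ WW A, ∀ k, m < k → w k = 0 := by
    intro w hw k hk
    by_contra hne
    have : k ∈ S := by
      rw [Finset.mem_filter]
      exact ⟨Finset.mem_univ _, w, hw, hne⟩
    exact absurd (hmax k this) (not_le.2 hk)
  have hc : ∀ c, c < m → (Pi.single c 1 : Fin d → F) ∈ WW A := by
    intro c hcm
    have h1 : SpecialLinearGroup.transvection hcm.ne (1 : F) • w₀ ∈ WW A :=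
      smul_mem_WW (hU (transvection_mem_upper hcm 1)) hw₀
    rw [Cfsg.Agent.LieClassical.SLGen.transvection_smul, one_mul] at h1
    have h2 := (WW A).sub_mem h1 hw₀
    rw [add_sub_cancel_left] at h2
    have h3 := (WW A).smul_mem (w₀ m)⁻¹ h2
    rwa [smul_smul, inv_mul_cancel₀ hw₀m, one_smul] at h3
  have hlow : ∀ w : Fin d → F, (∀ k, m ≤ k → w k = 0) → w ∈ WW A := by
    intro w hw
    have h1 : w = ∑ c, w c • (Pi.single c 1 : Fin d → F) := by
      conv_lhs => rw [← Finset.univ_sum_single w]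
      refine Finset.sum_congr rfl fun i _ => ?_
      rw [← Pi.single_smul, smul_eq_mul, mul_one]
    rw [h1]
    refine (WW A).sum_mem fun c _ => ?_
    by_cases hcm : c < m
    · exact (WW A).smul_mem _ (hc c hcm)
    · rw [hw c (not_lt.1 hcm), zero_smul]
      exact (WW A).zero_mem
  have hmm : (Pi.single m 1 : Fin d → F) ∈ WW A := by
    have h1 : w₀ - w₀ m • (Pi.single m 1 : Fin d → F) ∈ WW A := by
      apply hlow
      intro k hk
      rw [Pi.sub_apply, Pi.smul_apply, smul_eq_mul]
      rcases eq_or_lt_of_le hk with rfl | hlt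
      · rw [Pi.single_eq_same, mul_one, sub_self]
      · rw [hle w₀ hw₀ k hlt, Pi.single_eq_of_ne hlt.ne', mul_zero, sub_zero]
    have h2 := (WW A).sub_mem hw₀ h1
    rw [sub_sub_cancel] at h2
    have h3 := (WW A).smul_mem (w₀ m)⁻¹ h2
    rwa [smul_smul, inv_mul_cancel₀ hw₀m, one_smul] at h3
  refine ⟨m, fun w => ⟨hle w, fun hw => ?_⟩⟩
  have h1 : w - w m • (Pi.single m 1 : Fin d → F) ∈ WW A := by
    apply hlow
    intro k hk
    rw [Pi.sub_apply, Pi.smul_apply, smul_eq_mul]
    rcases eq_or_lt_of_le hk with rfl | hlt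
    · rw [Pi.single_eq_same, mul_one, sub_self]
    · rw [hw k hlt, Pi.single_eq_of_ne hlt.ne', mul_zero, sub_zero]
  have h2 := (WW A).add_mem h1 ((WW A).smul_mem (w m) hmm)
  rwa [sub_add_cancel] at h2

/-- the lower unipotent matrices -/
def Lm (m : Fin d) (f : {r : Fin d // m < r} × {c : Fin d // c ≤ m} → F) :
    Matrix (Fin d) (Fin d) F :=
  Matrix.of fun r c => if h : m < r ∧ c ≤ m then f (⟨r, h.1⟩, ⟨c, h.2⟩) else 0

omit [Fintype F] in
theorem det_Lm (m : Fin d) (f : {r : Fin d // m < r} × {c : Fin d // c ≤ m} → F) :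
    (1 + Lm m f).det = 1 := by
  rw [Matrix.det_of_lowerTriangular]
  · rw [Finset.prod_eq_one]
    intro i _
    rw [Matrix.add_apply, Matrix.one_apply_eq, Lm, Matrix.of_apply, dif_neg, add_zero]
    rintro ⟨h1, h2⟩
    exact absurd h1 (not_lt.2 h2)
  · intro i j hij
    have hij' : i < j := hij
    rw [Matrix.add_apply, Matrix.one_apply_ne hij'.ne, Lm, Matrix.of_apply, dif_neg, add_zero]
    rintro ⟨h1, h2⟩
    exact absurd (h1.trans hij') (not_lt.2 h2)

/-- the elements -/
def Ls (m : Fin d) (f : {r : Fin d // m < r} × {c : Fin d // c ≤ m} → F) :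
    SpecialLinearGroup (Fin d) F := ⟨1 + Lm m f, det_Lm m f⟩

omit [Fintype F] in
theorem Ls_smul_single (m : Fin d) (f : {r : Fin d // m < r} × {c : Fin d // c ≤ m} → F)
    (c : Fin d) (k : Fin d) : (Ls m f • (Pi.single c 1 : Fin d → F)) k =
      (Pi.single c 1 : Fin d → F) k + Lm m f k c := by
  rw [smul_eq_mulVec']
  change ((1 + Lm m f) *ᵥ Pi.single c 1) k = _
  rw [Matrix.add_mulVec, Matrix.one_mulVec, Pi.add_apply, Matrix.mulVec_single_one]
  rfl

omit [Fintype F] in
theorem Ls_smul_of_zero (m : Fin d) (f : {r : Fin d // m < r} × {c : Fin d // c ≤ m} → F)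
    (z : Fin d → F) (hz : ∀ k, k ≤ m → z k = 0) : Ls m f • z = z := by
  rw [smul_eq_mulVec']
  change (1 + Lm m f) *ᵥ z = _
  rw [Matrix.add_mulVec, Matrix.one_mulVec]
  have : Lm m f *ᵥ z = 0 := by
    funext k
    rw [Matrix.mulVec, dotProduct, Pi.zero_apply]
    refine Finset.sum_eq_zero fun j _ => ?_
    by_cases hj : j ≤ m
    · rw [hz j hj, mul_zero]
    · rw [Lm, Matrix.of_apply, dif_neg (fun h => hj h.2), zero_mul]
  rw [this, add_zero]

theorem le_index {m : Fin d} (hm : ∀ w : Fin d → F, w ∈ WW A ↔ ∀ k, m < k → w k = 0) :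
    Fintype.card F ^ ((d - 1 - m) * (m + 1)) ≤ A.index := by
  classical
  let ψ : ({r : Fin d // m < r} × {c : Fin d // c ≤ m} → F) →
    SpecialLinearGroup (Fin d) F ⧸ A := fun f => QuotientGroup.mk (Ls m f)
  have hψ : Function.Injective ψ := by
    intro f g hfg
    have h1 : (Ls m f)⁻¹ * Ls m g ∈ A := QuotientGroup.eq.1 hfg
    funext ⟨⟨r, hr⟩, ⟨c, hc⟩⟩
    have hcW : (Pi.single c 1 : Fin d → F) ∈ WW A := by
      rw [hm]
      intro k hk
      rw [Pi.single_eq_of_ne]
      rintro rfl
      exact absurd hk (not_lt.2 hc)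
    have h2 := smul_mem_WW h1 hcW
    -- compute the image
    let z : Fin d → F := fun k => Lm m g k c - Lm m f k c
    have hz : ∀ k, k ≤ m → z k = 0 := by
      intro k hk
      change Lm m g k c - Lm m f k c = 0
      rw [Lm, Lm, Matrix.of_apply, Matrix.of_apply, dif_neg (fun h => absurd h.1 (not_lt.2 hk)),
        dif_neg (fun h => absurd h.1 (not_lt.2 hk)), sub_zero]
    have h3 : ((Ls m f)⁻¹ * Ls m g) • (Pi.single c 1 : Fin d → F) = Pi.single c 1 + z := by
      rw [mul_smul, inv_smul_eq_iff, smul_add, Ls_smul_of_zero m f z hz]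
      funext k
      rw [Ls_smul_single, Pi.add_apply, Ls_smul_single]
      change _ = _ + _ + (Lm m g k c - Lm m f k c)
      ring
    rw [h3] at h2
    have h4 := (hm _).1 h2 r hr
    have hrc : r ≠ c := by
      rintro rfl
      exact absurd hr (not_lt.2 hc)
    rw [Pi.add_apply, Pi.single_eq_of_ne hrc, zero_add] at h4
    have h5 : Lm m g r c - Lm m f r c = 0 := h4
    rw [Lm, Lm, Matrix.of_apply, Matrix.of_apply, dif_pos ⟨hr, hc⟩, dif_pos ⟨hr, hc⟩,
      sub_eq_zero] at h5
    exact h5.symm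
  have h1 := Nat.card_le_card_of_injective ψ hψ
  have h2 : Nat.card ({r : Fin d // m < r} × {c : Fin d // c ≤ m} → F) =
      Fintype.card F ^ ((d - 1 - m) * (m + 1)) := by
    rw [Nat.card_eq_fintype_card, Fintype.card_fun, Fintype.card_prod]
    have h3 : Fintype.card {r : Fin d // m < r} = d - 1 - m := by
      rw [Fintype.card_subtype]
      have : (Finset.univ.filter fun r : Fin d => m < r) = Finset.Ioi m := by
        ext; simp
      rw [this, Fin.card_Ioi]
    have h4 : Fintype.card {c : Fin d // c ≤ m} = m + 1 := by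
      rw [Fintype.card_subtype]
      have : (Finset.univ.filter fun r : Fin d => r ≤ m) = Finset.Iic m := by
        ext; simp
      rw [this, Fin.card_Iic]
    rw [h3, h4]
  rw [h2] at h1
  exact h1

/-- the first point -/
def pt (d : ℕ) (F : Type*) [Field F] (i : Fin d) : ℙ F (Fin d → F) :=
  Projectivization.mk F (Pi.single i 1 : Fin d → F) (by
    intro h
    have := congrFun h i
    rw [Pi.single_eq_same] at this
    exact one_ne_zero this)

omit [Fintype F] in
theorem mem_stab_pt {i : Fin d} {g : SpecialLinearGroup (Fin d) F} {c : F}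
    (h : g • (Pi.single i 1 : Fin d → F) = c • (Pi.single i 1 : Fin d → F)) :
    g ∈ MulAction.stabilizer (SpecialLinearGroup (Fin d) F) (pt d F i) := by
  rw [MulAction.mem_stabilizer_iff, pt, Projectivization.smul_mk, Projectivization.mk_eq_mk_iff']
  refine ⟨c, h.symm⟩

theorem index_stab (x : ℙ F (Fin d → F)) :
    (MulAction.stabilizer (SpecialLinearGroup (Fin d) F) x).index * (Fintype.card F - 1) =
      Fintype.card F ^ d - 1 := by
  have htr : MulAction.IsPretransitive (SpecialLinearGroup (Fin d) F) (ℙ F (Fin d → F)) :=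
    inferInstance
  rw [MulAction.index_stabilizer_of_transitive, ← Nat.card_eq_fintype_card (α := F),
    ← Projectivization.card F (Fin d → F), Nat.card_fun, Nat.card_fin]

theorem eq_of_le_stab {B : Subgroup (SpecialLinearGroup (Fin d) F)}
    (hB : B.index * (Fintype.card F - 1) = Fintype.card F ^ d - 1) {x : ℙ F (Fin d → F)}
    (h : B ≤ MulAction.stabilizer (SpecialLinearGroup (Fin d) F) x) :
    B = MulAction.stabilizer (SpecialLinearGroup (Fin d) F) x := by
  have hq : 1 < Fintype.card F := Fintype.one_lt_card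
  have h1 := index_stab (F := F) x
  have h2 : B.index = (MulAction.stabilizer (SpecialLinearGroup (Fin d) F) x).index :=
    Nat.eq_of_mul_eq_mul_right (by omega) (hB.trans h1.symm)
  have h3 := Subgroup.relIndex_mul_index h
  have h4 : (MulAction.stabilizer (SpecialLinearGroup (Fin d) F) x).index ≠ 0 :=
    Subgroup.index_ne_zero_of_finite
  rw [h2] at h3
  have h5 : B.relIndex (MulAction.stabilizer (SpecialLinearGroup (Fin d) F) x) = 1 :=
    Nat.eq_of_mul_eq_mul_right (Nat.pos_of_ne_zero h4) (by rw [h3, one_mul])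
  exact le_antisymm h (Subgroup.relIndex_eq_one.1 h5)

/-- The main statement for `SL`. -/
theorem sl_point (hd : 2 ≤ d) (hU : upper d F ≤ A)
    (hA : A.index * (Fintype.card F - 1) = Fintype.card F ^ d - 1) :
    ∃ γ : MulAut (SpecialLinearGroup (Fin d) F), ∀ g, g ∈ A ↔
      γ g ∈ MulAction.stabilizer (SpecialLinearGroup (Fin d) F) (pt d F ⟨0, by omega⟩) := by
  have hq : 1 < Fintype.card F := Fintype.one_lt_card
  have htr : MulAction.IsPretransitive (SpecialLinearGroup (Fin d) F) (ℙ F (Fin d → F)) :=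
    inferInstance
  obtain ⟨m, hm⟩ := exists_shape hd hU
  -- conjugation of the stabiliser of a point
  have hconj : ∀ (x : ℙ F (Fin d → F)) (γ : MulAut (SpecialLinearGroup (Fin d) F)),
      (∀ g, g ∈ A → γ g ∈ MulAction.stabilizer (SpecialLinearGroup (Fin d) F) x) →
      ∃ γ : MulAut (SpecialLinearGroup (Fin d) F), ∀ g, g ∈ A ↔
      γ g ∈ MulAction.stabilizer (SpecialLinearGroup (Fin d) F) (pt d F ⟨0, by omega⟩) := by
    intro x γ hγ
    have h1 : A.map γ.toMonoidHom = MulAction.stabilizer (SpecialLinearGroup (Fin d) F) x := by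
      apply eq_of_le_stab
      · rw [← hA]
        congr 1
        exact A.index_map_equiv γ
      · rintro _ ⟨g, hg, rfl⟩
        exact hγ g hg
    obtain ⟨h, hh⟩ := MulAction.exists_smul_eq (SpecialLinearGroup (Fin d) F) x
      (pt d F ⟨0, by omega⟩)
    refine ⟨MulAut.conj h * γ, fun g => ?_⟩
    have h2 : g ∈ A ↔ γ g ∈ MulAction.stabilizer (SpecialLinearGroup (Fin d) F) x := by
      rw [← h1]
      constructor
      · intro hg
        exact ⟨g, hg, rfl⟩
      · rintro ⟨y, hy, hyg⟩
        exact γ.injective hyg ▸ hy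
    rw [h2, MulAction.mem_stabilizer_iff, MulAction.mem_stabilizer_iff, ← hh, MulAut.mul_apply,
      MulAut.conj_apply, mul_smul, mul_smul, inv_smul_smul, smul_left_cancel_iff]
  have hlt : Fintype.card F ^ ((d - 1 - m) * (m + 1)) < Fintype.card F ^ d := by
    have h1 := le_index hm
    have h2 : 1 ≤ Fintype.card F ^ d := Nat.one_le_pow _ _ (by omega)
    have h3 : A.index * 1 ≤ A.index * (Fintype.card F - 1) := Nat.mul_le_mul_left _ (by omega)
    omega
  have hlt2 : (d - 1 - m) * (m + 1) < d := (Nat.pow_lt_pow_iff_right hq).1 hlt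
  have hmd : (m : ℕ) < d := m.2
  have hm3 : (m : ℕ) = 0 ∨ (m : ℕ) = d - 1 ∨ (m : ℕ) + 2 = d := by
    by_contra hcon
    push Not at hcon
    obtain ⟨h1, h2, h3⟩ := hcon
    obtain ⟨a, ha⟩ : ∃ a, (m : ℕ) = a + 1 := ⟨m - 1, by omega⟩
    obtain ⟨b, hb⟩ : ∃ b, d = a + 1 + 3 + b := ⟨d - (a + 4), by omega⟩
    rw [ha] at hlt2
    have h4 : d - 1 - (a + 1) = 2 + b := by omega
    rw [h4] at hlt2
    have h5 : (2 + b) * (a + 1 + 1) = 2 * a + 4 + b * a + 2 * b := by ring
    rw [h5] at hlt2
    nlinarith [Nat.zero_le (b * a)]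
  rcases hm3 with h0 | h0 | h0
  · -- a point
    refine hconj (pt d F ⟨0, by omega⟩) 1 fun g hg => ?_
    rw [MulAut.one_apply]
    have h1 : (Pi.single ⟨0, by omega⟩ 1 : Fin d → F) ∈ WW A := single_zero_mem hd hU
    have h2 := smul_mem_WW hg h1
    rw [hm] at h2
    refine mem_stab_pt (c := (g • (Pi.single ⟨0, by omega⟩ 1 : Fin d → F)) ⟨0, by omega⟩) ?_
    funext k
    rw [Pi.smul_apply, smul_eq_mul]
    by_cases hk : k = ⟨0, by omega⟩
    · subst hk
      rw [Pi.single_eq_same, mul_one]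
    · rw [Pi.single_eq_of_ne hk, mul_zero]
      apply h2
      rw [Fin.lt_def, h0]
      exact Nat.pos_of_ne_zero fun h => hk (Fin.ext h)
  · -- everything
    exfalso
    have h1 : WW A = ⊤ := by
      rw [eq_top_iff]
      intro w _
      rw [hm]
      intro k hk
      rw [Fin.lt_def, h0] at hk
      have := k.2
      omega
    rw [eq_top_of_WW h1, Subgroup.index_top, one_mul] at hA
    have h2 : Fintype.card F ^ 1 < Fintype.card F ^ d := Nat.pow_lt_pow_right hq (by omega)
    rw [pow_one] at h2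
    omega
  · -- a hyperplane
    let l : Fin d := ⟨d - 1, by omega⟩
    have hml : m < l := by
      rw [Fin.lt_def]
      change (m : ℕ) < d - 1
      omega
    refine hconj (pt d F l) itr fun g hg => ?_
    have hgi := A.inv_mem hg
    refine mem_stab_pt (c := ((g⁻¹ : SpecialLinearGroup (Fin d) F) :
      Matrix (Fin d) (Fin d) F) l l) ?_
    rw [smul_eq_mulVec', coe_itr]
    funext k
    rw [Matrix.mulVec_single_one, Pi.smul_apply, smul_eq_mul]
    change (((g⁻¹ : SpecialLinearGroup (Fin d) F) : Matrix (Fin d) (Fin d) F)ᵀ) k l = _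
    rw [Matrix.transpose_apply]
    by_cases hk : k = l
    · subst hk
      rw [Pi.single_eq_same, mul_one]
    · rw [Pi.single_eq_of_ne hk, mul_zero]
      have h1 : (Pi.single k 1 : Fin d → F) ∈ WW A := by
        rw [hm]
        intro j hj
        have hjl : j = l := by
          apply Fin.ext
          rw [Fin.lt_def] at hj
          have := j.2
          change (j : ℕ) = d - 1
          omega
        rw [hjl, Pi.single_eq_of_ne (Ne.symm hk)]
      have h2 := smul_mem_WW hgi h1
      rw [hm] at h2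
      have h3 := h2 l hml
      rw [smul_eq_mulVec', Matrix.mulVec_single_one] at h3
      exact h3

end Fin

/-- A subgroup of index prime to `r` contains a conjugate of every `r`-subgroup. -/
theorem exists_conj_le {G : Type*} [Group G] [Finite G] (A : Subgroup G) (r : ℕ) [hr : Fact r.Prime]
    (hA : ¬ r ∣ A.index) (S : Subgroup G) (hS : IsPGroup r S) :
    ∃ g : G, ∀ s ∈ S, g⁻¹ * s * g ∈ A := by
  have h1 : ¬ r ∣ Nat.card (G ⧸ A) := hA
  have h2 : (MulAction.fixedPoints S (G ⧸ A)).Nonempty :=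
    IsPGroup.nonempty_fixed_point_of_prime_not_dvd_card hS (G ⧸ A) h1
  obtain ⟨x, hx⟩ := h2
  obtain ⟨g, rfl⟩ := QuotientGroup.mk_surjective x
  refine ⟨g, fun s hs => ?_⟩
  have h3 : (QuotientGroup.mk g : G ⧸ A) = QuotientGroup.mk (s * g) := (hx ⟨s, hs⟩).symm
  have h4 := QuotientGroup.eq.1 h3
  rwa [← mul_assoc] at h4

/-- The stabiliser of the first point in `PSL`. -/
def PP (d : ℕ) (hd : 2 ≤ d) (F : Type*) [Field F] :
    Subgroup (Matrix.ProjectiveSpecialLinearGroup (Fin d) F) :=
  (MulAction.stabilizer (SpecialLinearGroup (Fin d) F) (pt d F ⟨0, by omega⟩)).map pr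

theorem pr_mem_PP {d : ℕ} (hd : 2 ≤ d) {F : Type*} [Field F]
    {g : SpecialLinearGroup (Fin d) F} : pr g ∈ PP d hd F ↔
      g ∈ MulAction.stabilizer (SpecialLinearGroup (Fin d) F) (pt d F ⟨0, by omega⟩) := by
  have hker : (pr : SpecialLinearGroup (Fin d) F →* _).ker ≤
      MulAction.stabilizer (SpecialLinearGroup (Fin d) F) (pt d F ⟨0, by omega⟩) := by
    intro z hz
    rw [MonoidHom.mem_ker, pr_eq_one_iff, ← Projectivization.SL_mulAction_ker,
      MonoidHom.mem_ker] at hz
    rw [MulAction.mem_stabilizer_iff]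
    have := congrArg (fun f => f (pt d F ⟨0, by omega⟩)) hz
    exact this
  have h1 := Subgroup.comap_map_eq_self hker
  rw [← h1]
  rfl

/-- **Main theorem.** -/
theorem psl_point {d : ℕ} (hd : 2 ≤ d) {F : Type*} [Field F] [Fintype F]
    (A : Subgroup (Matrix.ProjectiveSpecialLinearGroup (Fin d) F))
    (hA : A.index * (Fintype.card F - 1) = Fintype.card F ^ d - 1) :
    ∃ γ : MulAut (Matrix.ProjectiveSpecialLinearGroup (Fin d) F), ∀ t, t ∈ A ↔ γ t ∈ PP d hd F := by
  have hq : 1 < Fintype.card F := Fintype.one_lt_card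
  obtain ⟨r, hr⟩ := CharP.exists F
  have hrp : r.Prime := CharP.char_is_prime F r
  have : Fact r.Prime := ⟨hrp⟩
  have hfin : Finite (Matrix.ProjectiveSpecialLinearGroup (Fin d) F) := inferInstance
  -- the index is prime to `r`
  have hri : ¬ r ∣ A.index := by
    intro hdvd
    obtain ⟨k, -, hk⟩ := FiniteField.card F r
    have hrq : r ∣ Fintype.card F := by
      rw [hk]
      exact dvd_pow_self r k.ne_zero
    have h1 : r ∣ Fintype.card F ^ d := hrq.trans (dvd_pow_self _ (by omega))
    have h2 : r ∣ Fintype.card F ^ d - 1 := by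
      rw [← hA]
      exact hdvd.mul_right _
    have h3 : r ∣ 1 := by
      have h4 : 1 ≤ Fintype.card F ^ d := Nat.one_le_pow _ _ (by omega)
      have := (Nat.dvd_sub h1 h2)
      rwa [Nat.sub_sub_self h4] at this
    exact hrp.one_lt.ne' (Nat.dvd_one.1 h3)
  obtain ⟨S, hS⟩ := exists_sylow (F := F) d r
  obtain ⟨g, hg⟩ := exists_conj_le A r hri (S : Subgroup _) S.2
  -- the conjugate containing the unitriangular group
  let B : Subgroup (Matrix.ProjectiveSpecialLinearGroup (Fin d) F) :=
    A.map (MulAut.conj g).toMonoidHom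
  have hB : ∀ t, MulAut.conj g t ∈ B ↔ t ∈ A := by
    intro t
    constructor
    · rintro ⟨s, hs, hst⟩
      exact (MulAut.conj g).injective hst ▸ hs
    · intro ht
      exact ⟨t, ht, rfl⟩
  have hBi : B.index = A.index := A.index_map_equiv (MulAut.conj g)
  have hU : upper d F ≤ B.comap pr := by
    intro u hu
    have h1 : pr u ∈ (S : Subgroup _) := by
      rw [hS]
      exact ⟨u, hu, rfl⟩
    have h2 := (hB _).2 (hg _ h1)
    rw [MulAut.conj_apply] at h2
    have h3 : g * (g⁻¹ * pr u * g) * g⁻¹ = pr u := by group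
    rw [h3] at h2
    exact h2
  have hBi' : (B.comap pr).index = A.index := by
    rw [Subgroup.index_comap_of_surjective B pr_surjective, hBi]
  obtain ⟨γ, hγ⟩ := sl_point hd hU (by rw [hBi', hA])
  refine ⟨lift γ * MulAut.conj g, fun t => ?_⟩
  rw [← hB t, MulAut.mul_apply]
  obtain ⟨x, hx⟩ := pr_surjective (MulAut.conj g t)
  rw [← hx, lift_pr, pr_mem_PP, ← hγ]
  rfl

end Cfsg.Agent.H561.PPSL
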