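import Mathlib
import Cfsg.Agent.H561.PPSL
import Cfsg.Agent.H561.PPOut
import Cfsg.Agent.H561.PPRed

/-!
# Subgroups of the same prime power index: alternating and linear groups
-/

set_option autoImplicit false

namespace Cfsg.Agent.H561.PPow

open Subgroup

/-- Subgroups of index `n` are conjugate in the automorphism group. -/
def RowAt (T : Type*) [Group T] (n : ℕ) : Prop :=
  ∀ A B : Subgroup T, A.index = n → B.index = n → ∃ γ : MulAut T, ∀ t : T, t ∈ A ↔ γ t ∈ B

variable {T T' : Type*} [Group T] [Group T']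

theorem RowAt.of_equiv {n : ℕ} (f : T ≃* T') (h : RowAt T' n) : RowAt T n := by
  intro A B hA hB
  have hidx : ∀ A : Subgroup T, (A.map f.toMonoidHom).index = A.index := fun A =>
    A.index_map_equiv f
  have hmem : ∀ (A : Subgroup T) (t : T), f t ∈ A.map f.toMonoidHom ↔ t ∈ A := by
    intro A t
    constructor
    · rintro ⟨s, hs, hst⟩
      exact f.injective hst ▸ hs
    · intro ht
      exact ⟨t, ht, rfl⟩
  obtain ⟨γ, hγ⟩ := h (A.map f.toMonoidHom) (B.map f.toMonoidHom)
    (by rw [hidx, hA]) (by rw [hidx, hB])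
  refine ⟨(f.trans γ).trans f.symm, fun t => ?_⟩
  rw [← hmem A, hγ, ← hmem B]
  simp only [MulEquiv.trans_apply, MulEquiv.apply_symm_apply]

theorem RowAt.of_base {n : ℕ} (P : Subgroup T)
    (h : ∀ A : Subgroup T, A.index = n → ∃ γ : MulAut T, ∀ t : T, t ∈ A ↔ γ t ∈ P) : RowAt T n := by
  intro A B hA hB
  obtain ⟨α, hα⟩ := h A hA
  obtain ⟨β, hβ⟩ := h B hB
  refine ⟨β⁻¹ * α, fun t => ?_⟩
  rw [hα, hβ, MulAut.mul_apply, MulAut.apply_inv_self]

theorem RowAt.of_conj {n : ℕ} (h : ∀ A B : Subgroup T, A.index = n → B.index = n →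
    ∃ g : T, ∀ t ∈ A, g * t * g⁻¹ ∈ B) [Finite T] : RowAt T n := by
  intro A B hA hB
  obtain ⟨g, hg⟩ := h A B hA hB
  have h1 : A.map (MulAut.conj g).toMonoidHom = B := by
    apply Subgroup.eq_of_le_of_card_ge
    · rintro _ ⟨t, ht, rfl⟩
      exact hg t ht
    · have h2 := B.card_mul_index
      have h3 := A.card_mul_index
      rw [hB] at h2
      rw [hA, ← h2] at h3
      have h4 : 0 < n := by
        rw [← hA]
        exact Nat.pos_of_ne_zero Subgroup.index_ne_zero_of_finite
      rw [← Nat.eq_of_mul_eq_mul_right h4 h3]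
      exact (Nat.card_congr (A.equivMapOfInjective _ (MulAut.conj g).injective).toEquiv).le
  refine ⟨MulAut.conj g, fun t => ?_⟩
  rw [← h1]
  constructor
  · intro ht
    exact ⟨t, ht, rfl⟩
  · rintro ⟨s, hs, hst⟩
    exact (MulAut.conj g).injective hst ▸ hs

/-- The linear groups. -/
theorem rowAt_psl {d : ℕ} (hd : 2 ≤ d) {F : Type*} [Field F] [Fintype F] {n : ℕ}
    (hn : Fintype.card F ^ d - 1 = n * (Fintype.card F - 1)) :
    RowAt (Matrix.ProjectiveSpecialLinearGroup (Fin d) F) n :=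
  RowAt.of_base (PPSL.PP d hd F) fun A hA => PPSL.psl_point hd A (by rw [hA, hn])

/-- The alternating groups. -/
theorem rowAt_of_card [Finite T] (hs : IsSimpleGroup T) {n : ℕ} (hn : 2 ≤ n)
    (hT : 2 * Nat.card T = n.factorial) : RowAt T n := by
  classical
  -- the action on the cosets
  have key : ∀ A : Subgroup T, A.index = n → ∃ (_ : Fintype (T ⧸ A))
      (f : T ≃* alternatingGroup (T ⧸ A)), ∀ t : T, t ∈ A ↔
        (f t : Equiv.Perm (T ⧸ A)) (QuotientGroup.mk 1) = QuotientGroup.mk 1 := by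
    intro A hA
    have hft : Fintype (T ⧸ A) := Fintype.ofFinite _
    refine ⟨hft, ?_⟩
    let φ := MulAction.toPermHom T (T ⧸ A)
    have hφ : ∀ t : T, t ∈ A ↔ φ t (QuotientGroup.mk 1) = QuotientGroup.mk 1 := by
      intro t
      change _ ↔ QuotientGroup.mk (t * 1) = QuotientGroup.mk 1
      rw [mul_one]
      constructor
      · intro ht
        exact (QuotientGroup.eq.2 (by simpa using A.inv_mem ht))
      · intro h
        have := QuotientGroup.eq.1 h
        rw [mul_one] at this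
        exact (Subgroup.inv_mem_iff A).1 this
    have hker : φ.ker = ⊥ := by
      rcases hs.eq_bot_or_eq_top_of_normal φ.ker inferInstance with h | h
      · exact h
      · exfalso
        have hAt : A = ⊤ := by
          rw [eq_top_iff]
          intro t _
          rw [hφ]
          have : t ∈ φ.ker := by rw [h]; exact mem_top t
          rw [MonoidHom.mem_ker.1 this]
          rfl
        rw [hAt, Subgroup.index_top] at hA
        omega
    have hinj : Function.Injective φ := (MonoidHom.ker_eq_bot_iff φ).1 hker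
    have hidx : φ.range.index = 2 := by
      have h1 := φ.range.card_mul_index
      have h2 : Nat.card φ.range = Nat.card T :=
        (Nat.card_congr (MonoidHom.ofInjective hinj).toEquiv).symm
      have h3 : Nat.card (Equiv.Perm (T ⧸ A)) = n.factorial := by
        rw [Nat.card_perm]
        congr 1
      rw [h2, h3, ← hT, mul_comm] at h1
      exact Nat.eq_of_mul_eq_mul_right Nat.card_pos h1
    have hr := Equiv.Perm.eq_alternatingGroup_of_index_eq_two hidx
    refine ⟨(MonoidHom.ofInjective hinj).trans (MulEquiv.subgroupCongr hr), fun t => ?_⟩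
    rw [hφ]
    rfl
  intro A B hA hB
  obtain ⟨iA, fA, hfA⟩ := key A hA
  obtain ⟨iB, fB, hfB⟩ := key B hB
  have hcard : Fintype.card (T ⧸ A) = Fintype.card (T ⧸ B) := by
    rw [← Nat.card_eq_fintype_card, ← Nat.card_eq_fintype_card]
    exact hA.trans hB.symm
  let ε₀ : (T ⧸ A) ≃ (T ⧸ B) := Fintype.equivOfCardEq hcard
  let ε : (T ⧸ A) ≃ (T ⧸ B) := ε₀.trans (Equiv.swap (ε₀ (QuotientGroup.mk 1)) (QuotientGroup.mk 1))
  have hε : ε (QuotientGroup.mk 1) = QuotientGroup.mk 1 := by
    change Equiv.swap (ε₀ (QuotientGroup.mk 1)) (QuotientGroup.mk 1) (ε₀ (QuotientGroup.mk 1)) = _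
    rw [Equiv.swap_apply_left]
  refine ⟨(fA.trans (Equiv.altCongrHom ε)).trans fB.symm, fun t => ?_⟩
  rw [hfB, hfA]
  change _ ↔ ((fB (fB.symm (Equiv.altCongrHom ε (fA t))) : alternatingGroup (T ⧸ B)) :
    Equiv.Perm (T ⧸ B)) _ = _
  rw [MulEquiv.apply_symm_apply, Equiv.altCongrHom_apply_coe]
  change _ ↔ ε ((fA t : Equiv.Perm (T ⧸ A)) (ε.symm (QuotientGroup.mk 1))) = QuotientGroup.mk 1
  have h1 : ε.symm (QuotientGroup.mk 1) = QuotientGroup.mk 1 := by
    rw [Equiv.symm_apply_eq, hε]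
  rw [h1]
  constructor
  · intro h
    rw [h, hε]
  · intro h
    apply ε.injective
    rw [h, hε]

theorem rowAt_alt {n : ℕ} (hn : 5 ≤ n) : RowAt (alternatingGroup (Fin n)) n := by
  have : Nontrivial (Fin n) := Fin.nontrivial_iff_two_le.2 (by omega)
  apply rowAt_of_card
  · exact alternatingGroup.isSimpleGroup (by rw [Nat.card_fin]; exact hn)
  · omega
  · rw [two_mul_nat_card_alternatingGroup, Nat.card_perm, Nat.card_fin]

theorem bound (r d : ℕ) (hr : 1 ≤ r) (hd : 3 ≤ d) :
    (r ^ 2 + 2 * r) * d + 2 < 2 * (r + 1) ^ d := by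
  induction d, hd using Nat.le_induction with
  | base =>
    have h1 : 1 ≤ r ^ 2 := Nat.one_le_pow _ _ hr
    have h2 : 1 ≤ r ^ 3 := Nat.one_le_pow _ _ hr
    ring_nf
    nlinarith
  | succ d hd ih =>
    rw [pow_succ (r + 1) d]
    have h1 : 2 ≤ r + 1 := by omega
    have h2 : 2 * (r + 1) ^ d * 2 ≤ 2 * (r + 1) ^ d * (r + 1) := Nat.mul_le_mul_left _ h1
    have h3 : (r ^ 2 + 2 * r) * 3 ≤ (r ^ 2 + 2 * r) * d := Nat.mul_le_mul_left _ hd
    nlinarith

theorem gcd_eq_one {q d p j : ℕ} (hq : 2 ≤ q) (hd : 3 ≤ d) (hp : p.Prime)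
    (h : q ^ d - 1 = p ^ j * (q - 1)) : Nat.gcd d (q - 1) = 1 := by
  by_contra hne
  obtain ⟨l, hl, hld⟩ := Nat.exists_prime_and_dvd hne
  have hl1 : l ∣ d := hld.trans (Nat.gcd_dvd_left _ _)
  have hl2 : l ∣ q - 1 := hld.trans (Nat.gcd_dvd_right _ _)
  have hlf : Fact l.Prime := ⟨hl⟩
  have hpf : Fact p.Prime := ⟨hp⟩
  have hlq : ¬ l ∣ q := by
    intro hlq
    have h1 : l ∣ q - (q - 1) := Nat.dvd_sub hlq hl2
    rw [Nat.sub_sub_self (by omega)] at h1
    exact hl.one_lt.ne' (Nat.dvd_one.1 h1)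
  have hq1 : q - 1 ≠ 0 := by omega
  have hpj : p ^ j ≠ 0 := pow_ne_zero _ hp.ne_zero
  have hv : padicValNat l (q ^ d - 1) = padicValNat l (p ^ j) + padicValNat l (q - 1) := by
    rw [h, padicValNat.mul hpj hq1]
  have hb := bound (q - 1) d (by omega) hd
  rw [Nat.sub_add_cancel (by omega : 1 ≤ q)] at hb
  have h1 : 1 ≤ q ^ d := Nat.one_le_pow _ _ (by omega)
  have hdv : 1 ≤ padicValNat l d := one_le_padicValNat_of_dvd (by omega) hl1
  have hd' : l ^ padicValNat l d ≤ d := Nat.le_of_dvd (by omega) pow_padicValNat_dvd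
  rcases hl.eq_two_or_odd' with rfl | hodd
  · -- `l = 2`
    have h2 := padicValNat.pow_two_sub_one (x := q) (n := d) (by omega) hlq (by omega)
      (even_iff_two_dvd.2 hl1)
    have hq2 : 1 ≤ padicValNat 2 (q + 1) := by
      apply one_le_padicValNat_of_dvd (by omega)
      omega
    have hpl : p = 2 := by
      by_contra hne2
      have h3 : padicValNat 2 (p ^ j) = 0 := by
        rw [padicValNat.pow, padicValNat_primes (Ne.symm hne2), mul_zero]
      omega
    subst hpl
    rw [padicValNat.prime_pow] at hv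
    have h3 : j + 1 = padicValNat 2 (q + 1) + padicValNat 2 d := by omega
    have h4 : 2 ^ padicValNat 2 (q + 1) ≤ q + 1 := Nat.le_of_dvd (by omega) pow_padicValNat_dvd
    have h5 : 2 ^ (j + 1) ≤ (q + 1) * d := by
      rw [h3, pow_add]
      exact Nat.mul_le_mul h4 hd'
    have h6 : 2 * (2 ^ j * (q - 1)) ≤ (q + 1) * d * (q - 1) := by
      calc 2 * (2 ^ j * (q - 1)) = 2 ^ (j + 1) * (q - 1) := by ring
        _ ≤ _ := Nat.mul_le_mul_right _ h5
    rw [← h] at h6
    obtain ⟨r, rfl⟩ : ∃ r, q = r + 1 := ⟨q - 1, by omega⟩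
    rw [Nat.add_sub_cancel] at hb h6
    have h7 : (r + 1 + 1) * d * r = (r ^ 2 + 2 * r) * d := by ring
    rw [h7] at h6
    omega
  · -- `l` odd
    have h2 := padicValNat.pow_sub_pow (p := l) hodd (x := q) (y := 1) (by omega) hl2 hlq
      (n := d) (by omega)
    rw [one_pow] at h2
    have hpl : p = l := by
      by_contra hne2
      have h3 : padicValNat l (p ^ j) = 0 := by
        rw [padicValNat.pow, padicValNat_primes (Ne.symm hne2), mul_zero]
      omega
    subst hpl
    rw [padicValNat.prime_pow] at hv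
    have h3 : j = padicValNat p d := by omega
    rw [← h3] at hd'
    have h6 : 2 * (p ^ j * (q - 1)) ≤ 2 * (d * (q - 1)) :=
      Nat.mul_le_mul_left _ (Nat.mul_le_mul_right _ hd')
    rw [← h] at h6
    obtain ⟨r, rfl⟩ : ∃ r, q = r + 1 := ⟨q - 1, by omega⟩
    rw [Nat.add_sub_cancel] at hb h6
    have h7 : 2 * (d * r) ≤ (r ^ 2 + 2 * r) * d := by
      have : (r ^ 2 + 2 * r) * d = 2 * (d * r) + r ^ 2 * d := by ring
      omega
    omega

end Cfsg.Agent.H561.PPow
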