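import Mathlib
import Cfsg.Agent.H561.PPRowA
import Cfsg.Agent.S2543
import Cfsg.Agent.H363.PSL2Spec
import Cfsg.Agent.H352.Order120
import Cfsg.Agent.H495.Frob

/-!
# Subgroups of index 11 of `PSL₂(11)`
-/

set_option autoImplicit false
open scoped Pointwise

namespace Cfsg.Agent.H561.PPow

open Subgroup
open Cfsg.Agent.H163.PSLEleven Cfsg.Agent.H163.AltFive Cfsg.Agent.H163.TwoClasses

/-- A solvable group of order `15 * m` with `m` prime to 15 contains an element of order 15. -/
theorem exists_fifteen {A : Type*} [Group A] [Finite A] (hA : Group.IsSolvable A) (m : ℕ)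
    (hm : Nat.card A = 15 * m) (hc : Nat.Coprime 15 m) : ∃ x : A, orderOf x = 15 := by
  obtain ⟨H, hH⟩ := Cfsg.Agent.S0003.result 15 m hm hc
  obtain ⟨x, hx⟩ := Cfsg.Agent.H495.Frob.isCyclic_of_card_fifteen hH
  exact ⟨x, by rw [Subgroup.orderOf_coe]; exact hx⟩

section

variable {F : Type*} [Field F] [Fintype F]

theorem charP_eleven (hF : Fintype.card F = 11) : CharP F 11 := by
  have : Fact (Nat.Prime 11) := ⟨by norm_num⟩
  exact charP_of_card_eq_prime hF

/-- There is no element of order 15. -/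
theorem orderOf_ne_fifteen (hF : Fintype.card F = 11) (g : PSL F) : orderOf g ≠ 15 := by
  intro h
  have : Fact (Nat.Prime 11) := ⟨by norm_num⟩
  have := charP_eleven hF
  have := Cfsg.Agent.H363.PSL2Spec.orderOf_cases hF 11 g
  rw [h] at this
  revert this
  decide

/-- A subgroup of order 60 is conjugate in the automorphism group to a fixed one. -/
theorem rowAt_psl_eleven (hF : Fintype.card F = 11) : RowAt (PSL F) 11 := by
  apply RowAt.of_base (closure {a0 F, b0 hF})
  intro A hA
  have hcA : Nat.card A = 60 := by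
    have h1 := A.card_mul_index
    rw [hA, S2543.card_psl hF] at h1
    omega
  have hns : ¬ Group.IsSolvable A := by
    intro hs
    obtain ⟨x, hx⟩ := exists_fifteen hs 4 (by rw [hcA]) (by decide)
    exact orderOf_ne_fifteen hF (x : PSL F) (by rw [Subgroup.orderOf_coe]; exact hx)
  obtain ⟨e⟩ := Cfsg.Agent.H352.Order120.alt5_of_card_60 hcA hns
  obtain ⟨a, b, hcl, hty, -⟩ := S2543.sub_structure hF e
  obtain ⟨g, hg⟩ := canonical_psl hF hty
  -- conjugation
  have hconj : MulAut.conj g • A = closure {g * a * g⁻¹, g * b * g⁻¹} := by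
    rw [← hcl, S2543.conj_closure]
  have hmem : ∀ t : PSL F, t ∈ A ↔ MulAut.conj g t ∈ MulAut.conj g • A := by
    intro t
    exact Subgroup.smul_mem_pointwise_smul_iff.symm
  rcases hg with ⟨h1, h2⟩ | ⟨h1, h2⟩
  · refine ⟨MulAut.conj g, fun t => ?_⟩
    rw [hmem, hconj, h1, h2]
  · obtain ⟨δ, -, -, h3, h4⟩ := S2543.delta_exists hF
    refine ⟨δ * MulAut.conj g, fun t => ?_⟩
    rw [hmem, hconj, h1, h2, MulAut.mul_apply]
    have h5 : (closure {a0' F, b0' hF}).map δ.toMonoidHom = closure {a0 F, b0 hF} := by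
      rw [MonoidHom.map_closure, Set.image_pair]
      change closure {δ (a0' F), δ (b0' hF)} = _
      rw [h3, h4]
    rw [← h5]
    constructor
    · intro ht
      exact ⟨_, ht, rfl⟩
    · rintro ⟨s, hs, hst⟩
      rw [← δ.injective hst]
      exact hs

end

end Cfsg.Agent.H561.PPow
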