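import Cfsg.Agent.H102.AAGen
import Cfsg.Agent.H235.AA.CycFull
import Cfsg.Agent.SignalizersComponents.Components

/-!
# The `AA` problem for sporadic groups: more tools (helper561)

* `noRC_of_sq` : only the primes `p` with `p ^ 2 ∣ |K|` matter;
* `core_of_noRC` : `Core` from `NoRC`, automorphisms of odd order being inner;
* `false_of_quasi` : the element lies in a proper quasisimple subgroup with centre of order prime to `p`.
-/

set_option autoImplicit false

namespace Cfsg.Agent.H561.AATool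

open Subgroup Cfsg Cfsg.Agent.H459.Rad Cfsg.Agent.H460.AA Cfsg.Agent.H102.AAGen

theorem noRC_of_sq {K : Type*} [Group K] [Finite K] [IsSimpleGroup K] (hna : ¬ IsMulCommutative K)
    (h : ∀ (p : ℕ) [Fact p.Prime], p ≠ 2 → p ^ 2 ∣ Nat.card K → ∀ a : K, orderOf a = p → RC (MulAut.conj a) →
      (∀ g : K, PE p (a * (g * a * g⁻¹))) → False) : NoRC K := by
  intro p hp hp2 a ha hR hP
  by_cases h2 : p ^ 2 ∣ Nat.card K
  · exact h p hp2 h2 a ha hR hP
  · have h1 : p ∣ Nat.card K := by rw [← ha]; exact orderOf_dvd_natCard a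
    obtain ⟨g, hg⟩ := Cfsg.Agent.H235.AA.Cyc.pa_cyc_full hna hp2
      (fun P => Cfsg.Agent.H235.AA.Cyc.card_sylow_of_not_sq h1 h2 P) ha
    exact hg (hP g)

theorem core_of_noRC {K : Type*} [Group K] [Finite K] [IsSimpleGroup K] (hna : ¬ IsMulCommutative K)
    (hO : ∀ α : MulAut K, Odd (orderOf α) → ∃ g : K, α = MulAut.conj g) (h : NoRC K) : Core K := by
  refine core_of_inner ?_ (fun p hp hp2 x hx => hO x (by rw [hx]; exact hp.out.odd_of_ne_two hp2)) h
  rcases (inferInstance : (center K).Normal).eq_bot_or_eq_top with h1 | h1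
  · exact h1
  · exfalso
    apply hna
    exact ⟨⟨fun x y => (mem_center_iff.1 (by rw [h1]; exact mem_top y : y ∈ center K) x)⟩⟩

/-- the primes with square dividing the order -/
theorem mem_of_sq {p : ℕ} (hp' : p.Prime) (l : List (ℕ × ℕ)) (hl : ∀ q ∈ l, q.1.Prime) {N : ℕ}
    (hN : N = (l.map fun q => q.1 ^ q.2).prod) (h : p ^ 2 ∣ N) : ∃ q ∈ l, q.1 = p := by
  have h := (dvd_pow_self p two_ne_zero).trans h
  rw [hN] at h
  obtain ⟨a, ha, hpa⟩ := (Prime.dvd_prod_iff hp'.prime).1 h
  obtain ⟨q, hq, rfl⟩ := List.mem_map.1 ha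
  exact ⟨q, hq, ((Nat.prime_dvd_prime_iff_eq hp' (hl q hq)).1 (hp'.dvd_of_dvd_pow hpa)).symm⟩

variable {K : Type*} [Group K] [Finite K] {p : ℕ} [hp : Fact p.Prime]

theorem false_of_quasi {H : Subgroup K} (hH : H ≠ ⊤) (hq : IsQuasisimple H) (hk : ¬ p ∣ Nat.card (center H))
    {a : K} (ha : orderOf a = p) (haH : a ∈ H) (h : RC (MulAut.conj a)) : False := by
  have hs : IsSimpleGroup (H ⧸ center H) := hq.2
  have hna : ¬ IsMulCommutative (H ⧸ center H) := by
    intro hc
    apply Cfsg.Agent.SignalizersComponents.Components.quasisimple_not_isSolvable hq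
    have h1 : Group.IsSolvable (H ⧸ center H) := Group.isSolvable_of_comm (fun a b => hc.is_comm.comm a b)
    have h2 : Group.IsSolvable ↥(center H) :=
      Group.isSolvable_of_comm (fun a b => Subtype.ext (mem_center_iff.1 b.2 a))
    exact (Group.isSolvable_iff_subgroup_quotient (center H)).2 ⟨h2, h1⟩
  exact false_of_mem_onto hna hH (QuotientGroup.mk' (center H)) (QuotientGroup.mk'_surjective _)
    (card_eq_card_quotient_mul_card_subgroup (center H)) hk ha haH h

/-- an element of order `p` fixes a point of each set of order prime to `p` -/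
theorem exists_conj_mem {H : Subgroup K} (hi : ¬ p ∣ H.index) {a : K} (ha : orderOf a = p) :
    ∃ g : K, g * a * g⁻¹ ∈ H := by
  have h1 : IsPGroup p (zpowers a) := IsPGroup.of_card (n := 1) (by rw [Nat.card_zpowers, ha, pow_one])
  have h2 : (MulAction.fixedPoints (zpowers a) (K ⧸ H)).Nonempty :=
    h1.nonempty_fixed_point_of_prime_not_dvd_card (α := K ⧸ H) hi
  obtain ⟨y, hy⟩ := h2
  obtain ⟨g, rfl⟩ := QuotientGroup.mk_surjective y
  refine ⟨g⁻¹, ?_⟩
  have h3 := hy ⟨a, mem_zpowers a⟩
  have h4 : ((a * g : K) : K ⧸ H) = (g : K ⧸ H) := h3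
  rw [QuotientGroup.eq] at h4
  have h5 := H.inv_mem h4
  rw [inv_inv]
  have e : ((a * g)⁻¹ * g)⁻¹ = g⁻¹ * a * g := by group
  rwa [e] at h5

theorem false_of_simple_index {H : Subgroup K} (hH : H ≠ ⊤) (hi : ¬ p ∣ H.index) (hs : IsSimpleGroup H)
    (hna : ¬ IsMulCommutative H) {a : K} (ha : orderOf a = p) (h : RC (MulAut.conj a)) : False :=
  false_of_onto hna hH hi (MonoidHom.id H) Function.surjective_id (mul_one _).symm hp.out.not_dvd_one ha h

theorem false_of_simple_mem {H : Subgroup K} (hH : H ≠ ⊤) (hs : IsSimpleGroup H)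
    (hna : ¬ IsMulCommutative H) {a : K} (ha : orderOf a = p) (haH : a ∈ H) (h : RC (MulAut.conj a)) : False :=
  false_of_mem_onto hna hH (MonoidHom.id H) Function.surjective_id (mul_one _).symm hp.out.not_dvd_one ha haH h

theorem not_comm_of_card {G : Type*} [Group G] [Finite G] [IsSimpleGroup G] (h : ¬ (Nat.card G).Prime) :
    ¬ IsMulCommutative G := by
  intro hm
  let _ : CommGroup G := { (inferInstance : Group G) with mul_comm := hm.is_comm.comm }
  exact h IsSimpleGroup.prime_card

theorem not_comm_congr {G H : Type*} [Group G] [Group H] (e : G ≃* H) (h : ¬ IsMulCommutative H) :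
    ¬ IsMulCommutative G := fun hm => h
  ⟨⟨fun x y => e.symm.injective (by rw [map_mul, map_mul, hm.is_comm.comm])⟩⟩

omit [Finite K] hp in
theorem orderOf_conj' {a : K} (g : K) : orderOf (g * a * g⁻¹) = orderOf a :=
  orderOf_injective (MulAut.conj g).toMonoidHom (MulAut.conj g).injective a

end Cfsg.Agent.H561.AATool
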