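import Mathlib
import Cfsg.Prelude.Def_PLocal
import Cfsg.Agent.PLocal.ThompsonJ
import Cfsg.Agent.PLocal.Timmesfeld
import Cfsg.Agent.PLocal.FFBridge
import Cfsg.Agent.Lib.PSolvable
import Cfsg.Agent.PLocal.FFMin
import Cfsg.Agent.PLocal.HallHigmanPrime
import Cfsg.Agent.S0611
import Cfsg.Agent.S0616

/-!
# Abelian best offenders

The Timmesfeld replacement theorem for abelian (not necessarily elementary abelian) offenders, and its consequence:
in a solvable group `H` with `O_2(H) = 1` acting faithfully on an elementary abelian 2-group `V`, an abelian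
2-subgroup `A` with `|B| |C_V(B)| ≤ |A| |C_V(A)|` for all `B ≤ A` is elementary abelian.
-/

set_option autoImplicit false
open Cfsg
open scoped commutatorElement

namespace Cfsg.Agent.H561.FFAbelian

open PLocal.Timmesfeld

/-- The inequality of best offenders. -/
def Ineq {G : Type*} [Group G] (V A : Subgroup G) : Prop :=
  ∀ B : Subgroup G, B ≤ A →
      Nat.card B * Nat.card ↥(V ⊓ Subgroup.centralizer (B : Set G)) ≤
        Nat.card A * Nat.card ↥(V ⊓ Subgroup.centralizer (A : Set G))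

/-- Replacement for abelian offenders: `B = C_A([V, A])`. -/
theorem replacement {G : Type*} [Group G] [Finite G] {p : ℕ} [Fact p.Prime] (V A : Subgroup G)
    (hV : Cfsg.IsElementaryAbelian p V) (hAV : A ≤ Subgroup.normalizer (V : Set G))
    (hbest : Ineq V A) (hAA : ⁅A, A⁆ ≤ Subgroup.centralizer (V : Set G)) :
    Cfsg.IsBestOffenderOn p V (A ⊓ Subgroup.centralizer ((⁅V, A⁆ : Subgroup G) : Set G)) ∧
    V ⊓ Subgroup.centralizer ((A ⊓ Subgroup.centralizer ((⁅V, A⁆ : Subgroup G) : Set G) : Subgroup G) : Set G) =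
      ⁅V, A⁆ ⊔ (V ⊓ Subgroup.centralizer (A : Set G)) := by
  classical
  have hVc : ∀ x ∈ V, ∀ y ∈ V, x * y = y * x := fun x hx y hy =>
    congrArg Subtype.val (hV.1.1.1 (⟨x, hx⟩ : V) (⟨y, hy⟩ : V))
  have hVp : ∀ x ∈ V, x ^ p = 1 := (PLocal.ThompsonJ.isElementaryAbelian_iff.1 hV).2
  set C : Subgroup G := V ⊓ Subgroup.centralizer (A : Set G) with hC
  set m : ℕ := Nat.card A * Nat.card C with hm
  have hmpos : 0 < m := Nat.mul_pos Nat.card_pos Nat.card_pos
  -- upper bound for the measure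
  have hle : ∀ W : Subgroup G, W ≤ V → meas A W ≤ m := by
    intro W hW
    refine le_trans (Nat.mul_le_mul_left _ ?_) (hbest (A ⊓ Subgroup.centralizer (W : Set G)) inf_le_left)
    refine Subgroup.card_le_of_le ?_
    refine le_inf hW ?_
    rw [Subgroup.le_centralizer_iff]
    exact inf_le_right
  -- commutators lie in V
  have hUV : ⁅V, A⁆ ≤ V := by
    rw [Subgroup.commutator_le]
    intro u hu a ha
    exact commutator_mem_of_mem hAV hu ha
  have hCV : C ≤ V := inf_le_left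
  -- `[V, A]` is the join of the `[u, A]`
  let T : Finset G := (Set.toFinite (V : Set G)).toFinset
  have hT : ∀ u, u ∈ T ↔ u ∈ V := fun u => by simp [T]
  have hsup : ⁅V, A⁆ ≤ T.sup (elemComm A) := by
    rw [Subgroup.commutator_le]
    intro u hu a ha
    exact Finset.le_sup (f := elemComm A) ((hT u).2 hu) (Subgroup.subset_closure ⟨a, ha, rfl⟩)
  have hsup' : T.sup (elemComm A) = ⁅V, A⁆ := by
    refine le_antisymm (Finset.sup_le fun u hu => (Subgroup.closure_le _).2 ?_) hsup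
    rintro x ⟨a, ha, rfl⟩
    exact Subgroup.commutator_mem_commutator ((hT u).1 hu) ha
  have hmeasC : m ≤ meas A (⊥ ⊔ C) := by
    rw [bot_sup_eq, meas_def]
    refine Nat.mul_le_mul_right _ (Subgroup.card_le_of_le ?_)
    refine le_inf le_rfl ?_
    rw [Subgroup.le_centralizer_iff]
    exact inf_le_right
  have hmain : (m ≤ meas A (⁅V, A⁆ ⊔ C)) ∧ ⁅V, A⁆ ≤ V := by
    rw [← hsup']
    refine Finset.sup_induction (p := fun W => m ≤ meas A (W ⊔ C) ∧ W ≤ V) ⟨hmeasC, bot_le⟩ ?_ ?_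
    · rintro W₁ ⟨h₁, h₁'⟩ W₂ ⟨h₂, h₂'⟩
      refine ⟨?_, sup_le h₁' h₂'⟩
      have h3 := meas_mul_meas_le A (W₁ ⊔ C) (W₂ ⊔ C)
      have h4 : (W₁ ⊔ C) ⊔ (W₂ ⊔ C) = W₁ ⊔ W₂ ⊔ C := (sup_sup_distrib_right W₁ W₂ C).symm
      rw [h4] at h3
      have h5 := hle ((W₁ ⊔ C) ⊓ (W₂ ⊔ C)) (inf_le_left.trans (sup_le h₁' hCV))
      have h6 : m * m ≤ meas A (W₁ ⊔ W₂ ⊔ C) * m :=
        (Nat.mul_le_mul h₁ h₂).trans (h3.trans (Nat.mul_le_mul_left _ h5))
      exact Nat.le_of_mul_le_mul_right h6 hmpos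
    · intro u hu
      exact ⟨le_meas_elemComm hVc hAV hAA ((hT u).1 hu), elemComm_le hAV ((hT u).1 hu)⟩
  have hmain1 := hmain.1
  set X : Subgroup G := ⁅V, A⁆ with hX
  set B : Subgroup G := A ⊓ Subgroup.centralizer (X : Set G) with hB
  have hBW : A ⊓ Subgroup.centralizer ((X ⊔ C : Subgroup G) : Set G) = B := by
    refine le_antisymm (inf_le_inf_left _ (Subgroup.centralizer_le (SetLike.coe_subset_coe.2 le_sup_left))) ?_
    refine le_inf inf_le_left ?_
    rw [centralizer_sup]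
    refine le_inf inf_le_right (inf_le_left.trans ?_)
    rw [Subgroup.le_centralizer_iff]
    exact inf_le_right
  have hXC : X ⊔ C ≤ V ⊓ Subgroup.centralizer (B : Set G) := by
    refine le_inf (sup_le hUV hCV) ?_
    rw [Subgroup.le_centralizer_iff, ← hBW]
    exact inf_le_right
  have hcard1 : m ≤ Nat.card B * Nat.card (X ⊔ C : Subgroup G) := by
    rw [meas_def, hBW] at hmain1
    exact hmain1
  have hcard2 := hbest B inf_le_left
  have hcard3 : Nat.card (X ⊔ C : Subgroup G) = Nat.card (V ⊓ Subgroup.centralizer (B : Set G) : Subgroup G) := by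
    refine le_antisymm (Subgroup.card_le_of_le hXC) ?_
    exact Nat.le_of_mul_le_mul_left (hcard2.trans hcard1) Nat.card_pos
  have hfix : V ⊓ Subgroup.centralizer (B : Set G) = X ⊔ C :=
    (Subgroup.eq_of_le_of_card_ge hXC hcard3.ge).symm
  refine ⟨⟨?_, ?_, ?_⟩, hfix⟩
  · intro B' hB'
    refine (hbest B' (hB'.trans inf_le_left)).trans ?_
    rw [← hcard3]
    exact hcard1
  · exact (Subgroup.commutator_mono inf_le_left inf_le_left).trans hAA
  · -- quadratic action
    intro b hb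
    rw [Subgroup.mem_centralizer_iff]
    intro v hv
    have hbc : ∀ x ∈ X, b * x = x * b := fun x hx =>
      ((Subgroup.mem_centralizer_iff.1 hb.2) x hx).symm
    have hc : ⁅v, b⁆ ∈ X := Subgroup.commutator_mem_commutator hv hb.1
    have hcV : ⁅v, b⁆ ∈ V := hUV hc
    have key : ∀ n : ℕ, v * b ^ n = ⁅v, b⁆ ^ n * (b ^ n * v) := by
      intro n
      induction n with
      | zero => simp
      | succ n ih =>
        have h1 : v * b = ⁅v, b⁆ * (b * v) := by rw [commutatorElement_def]; group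
        have h2 : ⁅v, b⁆ * b ^ n = b ^ n * ⁅v, b⁆ :=
          ((show Commute b ⁅v, b⁆ from hbc _ hc).pow_left n).symm.eq
        calc v * b ^ (n + 1) = v * b ^ n * b := by rw [pow_succ]; group
          _ = ⁅v, b⁆ ^ n * (b ^ n * (v * b)) := by rw [ih]; group
          _ = ⁅v, b⁆ ^ n * (b ^ n * ⁅v, b⁆ * b * v) := by rw [h1]; group
          _ = ⁅v, b⁆ ^ n * (⁅v, b⁆ * b ^ n * b * v) := by rw [h2]
          _ = ⁅v, b⁆ ^ (n + 1) * (b ^ (n + 1) * v) := by rw [pow_succ, pow_succ]; group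
    rw [key p, hVp _ hcV, one_mul]

/-- Nilpotent action: if the `p`-group `A` normalizes the abelian `p`-group `V` and `V = [V, A] C_V(A)`, then
`[V, A] = 1`. -/
theorem commutator_eq_bot {G : Type*} [Group G] [Finite G] {p : ℕ} [Fact p.Prime] {V A : Subgroup G}
    (hV : IsPGroup p V) (hVc : ∀ x ∈ V, ∀ y ∈ V, x * y = y * x) (hA : IsPGroup p A)
    (hAV : A ≤ Subgroup.normalizer (V : Set G))
    (h1 : V ≤ ⁅V, A⁆ ⊔ (V ⊓ Subgroup.centralizer (A : Set G))) : ⁅V, A⁆ = ⊥ := by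
  have hVA : ⁅V, A⁆ ≤ V := by
    rw [Subgroup.commutator_le]
    intro u hu a ha
    exact commutator_mem_of_mem hAV hu ha
  have hH : IsPGroup p (V ⊔ A : Subgroup G) := hV.to_sup_of_normal_left' hA hAV
  have hnil : Group.IsNilpotent (V ⊔ A : Subgroup G) := hH.isNilpotent
  refine eq_bot_of_le_commutator hnil (hVA.trans le_sup_left) ?_
  let K : Subgroup G :=
    { carrier := {v | v ∈ V ∧ ∀ a ∈ A, ⁅v, a⁆ ∈ ⁅⁅V, A⁆, A⁆}
      one_mem' := ⟨one_mem _, fun a _ => by rw [commutatorElement_one_left]; exact one_mem _⟩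
      mul_mem' := by
        rintro x y ⟨hx, hx'⟩ ⟨hy, hy'⟩
        refine ⟨mul_mem hx hy, fun a ha => ?_⟩
        have e : ⁅x * y, a⁆ = ⁅y, a⁆ * ⁅x, a⁆ := by
          have := hVc x hx _ (commutator_mem_of_mem hAV hy ha)
          calc ⁅x * y, a⁆ = (x * ⁅y, a⁆) * x⁻¹ * ⁅x, a⁆ := by
                simp only [commutatorElement_def]; group
            _ = (⁅y, a⁆ * x) * x⁻¹ * ⁅x, a⁆ := by rw [this]
            _ = _ := by group
        rw [e]
        exact mul_mem (hy' a ha) (hx' a ha)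
      inv_mem' := by
        rintro x ⟨hx, hx'⟩
        refine ⟨inv_mem hx, fun a ha => ?_⟩
        have e : ⁅x⁻¹, a⁆ = ⁅x, a⁆⁻¹ := by
          have := hVc x⁻¹ (inv_mem hx) _ (inv_mem (commutator_mem_of_mem hAV hx ha))
          calc ⁅x⁻¹, a⁆ = (x⁻¹ * ⁅x, a⁆⁻¹) * x := by
                simp only [commutatorElement_def]; group
            _ = (⁅x, a⁆⁻¹ * x⁻¹) * x := by rw [this]
            _ = _ := by group
        rw [e]
        exact inv_mem (hx' a ha) }
  have hVK : V ≤ K := by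
    refine h1.trans (sup_le ?_ ?_)
    · intro w hw
      exact ⟨hVA hw, fun a ha => Subgroup.commutator_mem_commutator hw ha⟩
    · rintro c ⟨hcV, hcA⟩
      refine ⟨hcV, fun a ha => ?_⟩
      have : ⁅c, a⁆ = 1 := by
        rw [commutatorElement_eq_one_iff_mul_comm]
        exact (Subgroup.mem_centralizer_iff.1 hcA a ha).symm
      rw [this]
      exact one_mem _
  calc ⁅V, A⁆ ≤ ⁅⁅V, A⁆, A⁆ := by
        rw [Subgroup.commutator_le]
        intro v hv a ha
        exact (hVK hv).2 a ha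
    _ ≤ _ := Subgroup.commutator_mono le_rfl le_sup_right

/-- `H` is solvable and acts faithfully on the elementary abelian 2-group `V`, and `O_2(H) = 1`. -/
structure Sit {G : Type*} [Group G] (V H : Subgroup G) : Prop where
  hV : Cfsg.IsElementaryAbelian 2 V
  hHV : H ≤ Subgroup.normalizer (V : Set G)
  hf : H ⊓ Subgroup.centralizer (V : Set G) = ⊥
  hs : Group.IsSolvable H
  hO : Cfsg.pCore 2 H = ⊥

section
variable {G : Type*} [Group G] [Finite G] {V H : Subgroup G}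

omit [Finite G] in
/-- `O_2(K) = 1` for `K` normal in `H`. -/
theorem Sit.pCore_eq_bot (h : Sit V H) {K : Subgroup G} (hKH : K ≤ H)
    (hHK : H ≤ Subgroup.normalizer (K : Set G)) : Cfsg.pCore 2 K = ⊥ := by
  set P : Subgroup G := (Cfsg.pCore 2 K).map K.subtype with hP
  have hPK : P ≤ K := Subgroup.map_subtype_le _
  have hPn : H ≤ Subgroup.normalizer (P : Set G) :=
    hHK.trans (PLocal.FFBridge.normalizer_le_normalizer_map K _ (Lib.Cores.pCore_characteristic 2))
  have hPp : IsPGroup 2 P := (Lib.Cores.pCore_isPGroup (G := K) 2).map _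
  have h1 : P.subgroupOf H ≤ Cfsg.pCore 2 H := by
    apply Lib.Cores.le_pCore
    · exact Subgroup.normal_subgroupOf_of_le_normalizer hPn
    · exact hPp.comap_of_injective H.subtype H.subtype_injective
  rw [h.hO, le_bot_iff, Subgroup.subgroupOf_eq_bot, disjoint_iff, inf_eq_left.2 (hPK.trans hKH)] at h1
  rw [hP, Subgroup.map_eq_bot_iff_of_injective _ K.subtype_injective] at h1
  exact h1

/-- `C_K(O(K)) ≤ O(K)` for `K` normal in `H`. -/
theorem Sit.centralizer_le (h : Sit V H) {K : Subgroup G} (hKH : K ≤ H)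
    (hHK : H ≤ Subgroup.normalizer (K : Set G)) :
    Subgroup.centralizer (Cfsg.pPrimeCore 2 K : Set K) ≤ Cfsg.pPrimeCore 2 K := by
  have hs := h.hs
  have : Group.IsSolvable K := Group.isSolvable_of_isSolvable_injective (Subgroup.inclusion_injective hKH)
  exact PLocal.HallHigmanPrime.centralizer_pPrimeCore_le_of_pSolvable 2
    (Lib.PSolvable.IsPSolvable_of_solvable 2) (h.pCore_eq_bot hKH hHK)

/-- The group generated by the best offenders in `H`. -/
def gen (V H : Subgroup G) : Subgroup G :=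
  ⨆ A : {A : Subgroup G // A ≤ H ∧ Cfsg.IsBestOffenderOn 2 V A}, (A : Subgroup G)

omit [Finite G] in
theorem gen_le (V H : Subgroup G) : gen V H ≤ H := iSup_le fun A => A.2.1

omit [Finite G] in
theorem le_gen {A : Subgroup G} (hA : A ≤ H) (hb : Cfsg.IsBestOffenderOn 2 V A) : A ≤ gen V H :=
  le_iSup (fun A : {A : Subgroup G // A ≤ H ∧ Cfsg.IsBestOffenderOn 2 V A} => (A : Subgroup G)) ⟨A, hA, hb⟩

omit [Finite G] in
theorem gen_eq (V H : Subgroup G) : gen V H =
    ⨆ A : {A : Subgroup G // A ≤ gen V H ∧ Cfsg.IsBestOffenderOn 2 V A}, (A : Subgroup G) := by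
  apply le_antisymm
  · refine iSup_le ?_
    rintro ⟨A, hA, hb⟩
    exact le_iSup (fun A : {A : Subgroup G // A ≤ gen V H ∧ Cfsg.IsBestOffenderOn 2 V A} => (A : Subgroup G))
      ⟨A, le_gen hA hb, hb⟩
  · exact iSup_le fun A => A.2.1

omit [Finite G] in
theorem Sit.le_normalizer_gen (h : Sit V H) : H ≤ Subgroup.normalizer (gen V H : Set G) := by
  intro g hg
  have key : ∀ x ∈ H, (gen V H).map (MulAut.conj x).toMonoidHom ≤ gen V H := by
    intro x hx
    rw [gen, Subgroup.map_iSup]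
    refine iSup_le ?_
    rintro ⟨A, hA, hb⟩
    apply le_gen
    · rintro _ ⟨a, ha, rfl⟩
      exact H.mul_mem (H.mul_mem hx (hA ha)) (H.inv_mem hx)
    · exact PLocal.FFMin.isBestOffenderOn_map_conj (h.hHV hx) hb
  rw [Subgroup.mem_normalizer_iff]
  intro x
  constructor
  · intro hx
    exact key g hg ⟨x, hx, rfl⟩
  · intro hx
    have h1 := key g⁻¹ (H.inv_mem hg) ⟨_, hx, rfl⟩
    have e : (MulAut.conj g⁻¹).toMonoidHom (g * x * g⁻¹) = x := by
      show g⁻¹ * (g * x * g⁻¹) * g⁻¹⁻¹ = x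
      group
    rwa [e] at h1

omit [Finite G] in
theorem card_le_two_mul [Finite G] {A A' : Subgroup G} {b : G} (h : ∀ a ∈ A, a ∈ A' ∨ b⁻¹ * a ∈ A') :
    Nat.card A ≤ Nat.card A' * 2 := by
  classical
  have h2 : Nat.card (A' × Bool) = Nat.card A' * 2 := by
    rw [Nat.card_prod, Nat.card_eq_fintype_card (α := Bool), Fintype.card_bool]
  rw [← h2]
  refine Nat.card_le_card_of_injective
    (fun a : A => if ha : (a : G) ∈ A' then ((⟨a, ha⟩, false) : A' × Bool)
      else (⟨b⁻¹ * a, (h a a.2).resolve_left ha⟩, true)) ?_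
  intro x y hxy
  by_cases hx : (x : G) ∈ A' <;> by_cases hy : (y : G) ∈ A'
  · simp only [hx, hy, dif_pos, Prod.mk.injEq, Subtype.mk.injEq, and_true] at hxy
    exact Subtype.ext hxy
  · simp [hx, hy] at hxy
  · simp [hx, hy] at hxy
  · simp only [hx, hy, dif_neg, not_false_eq_true, Prod.mk.injEq, Subtype.mk.injEq, and_true,
      mul_right_inj] at hxy
    exact Subtype.ext hxy

theorem card_two_mul_le {X Y : Subgroup G} (h : X < Y) : 2 * Nat.card X ≤ Nat.card Y := by
  obtain ⟨k, hk⟩ := Subgroup.card_dvd_of_le h.le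
  have h1 : Nat.card X ≠ Nat.card Y := by
    intro h2
    exact h.ne (Subgroup.eq_of_le_of_card_ge h.le h2.ge)
  have h2 : 0 < Nat.card Y := Nat.card_pos
  rcases k with _ | _ | k
  · omega
  · omega
  · rw [hk]
    nlinarith [Nat.card_pos (α := X)]

/-- Abelian offenders are elementary abelian. -/
theorem Sit.sq_eq_one (h : Sit V H) : ∀ (n : ℕ) (A : Subgroup G), Nat.card A = n → A ≤ H → IsPGroup 2 A →
    (∀ a ∈ A, ∀ b ∈ A, a * b = b * a) → Ineq V A → ∀ a ∈ A, a * a = 1 := by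
  intro n
  induction n using Nat.strong_induction_on with
  | _ n ih =>
  intro A hn hAH hAp hAc hbest
  have hVc : ∀ x ∈ V, ∀ y ∈ V, x * y = y * x := fun x hx y hy =>
    congrArg Subtype.val (h.hV.1.1.1 (⟨x, hx⟩ : V) (⟨y, hy⟩ : V))
  have hV2 : ∀ x ∈ V, x ^ 2 = 1 := (PLocal.ThompsonJ.isElementaryAbelian_iff.1 h.hV).2
  have hVp : IsPGroup 2 V := fun x => ⟨1, Subtype.ext (by simpa using hV2 x x.2)⟩
  have hAV : A ≤ Subgroup.normalizer (V : Set G) := hAH.trans h.hHV
  have hAA : ⁅A, A⁆ ≤ Subgroup.centralizer (V : Set G) := by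
    have : ⁅A, A⁆ = ⊥ := by
      rw [Subgroup.commutator_eq_bot_iff_le_centralizer]
      intro a ha
      rw [Subgroup.mem_centralizer_iff]
      exact fun b hb => hAc b hb a ha
    rw [this]
    exact bot_le
  by_cases hA1 : A = ⊥
  · subst hA1
    intro a ha
    rw [Subgroup.mem_bot] at ha
    rw [ha, one_mul]
  obtain ⟨hB, hfix⟩ := replacement V A h.hV hAV hbest hAA
  set B : Subgroup G := A ⊓ Subgroup.centralizer ((⁅V, A⁆ : Subgroup G) : Set G) with hBdef
  have hBne : ⁅V, B⁆ ≠ ⊥ := by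
    intro hbot
    rw [Subgroup.commutator_eq_bot_iff_le_centralizer] at hbot
    rw [inf_eq_left.2 hbot] at hfix
    have h1 := commutator_eq_bot hVp hVc hAp hAV hfix.le
    rw [Subgroup.commutator_eq_bot_iff_le_centralizer, Subgroup.le_centralizer_iff] at h1
    exact hA1 (le_bot_iff.1 (h.hf ▸ le_inf hAH h1))
  -- a minimal offender
  obtain ⟨B₁, hB₁min⟩ := (Set.toFinite {C : Subgroup G | C ≤ B ∧ Cfsg.IsBestOffenderOn 2 V C ∧
    ⁅V, C⁆ ≠ ⊥}).exists_minimal ⟨B, le_rfl, hB, hBne⟩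
  obtain ⟨⟨hB₁B, hB₁, hB₁ne⟩, hmin'⟩ := hB₁min
  have hmin : ∀ C : Subgroup G, C ≤ B₁ → Cfsg.IsBestOffenderOn 2 V C → ⁅V, C⁆ ≠ ⊥ → C = B₁ :=
    fun C hC hC1 hC2 => le_antisymm hC (hmin' ⟨hC.trans hB₁B, hC1, hC2⟩ hC)
  have hB₁A : B₁ ≤ A := hB₁B.trans inf_le_left
  have hB₁H : B₁ ≤ H := hB₁A.trans hAH
  set K := gen V H with hK
  have hKH : K ≤ H := gen_le V H
  have hHK : H ≤ Subgroup.normalizer (K : Set G) := h.le_normalizer_gen
  have hB₁K : B₁ ≤ K := le_gen hB₁H hB₁
  have hK1 : K ≠ ⊥ := by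
    intro hK1
    rw [hK1, le_bot_iff] at hB₁K
    apply hB₁ne
    rw [hB₁K, Subgroup.commutator_bot_right]
  have hKf : K ⊓ Subgroup.centralizer (V : Set G) = ⊥ :=
    le_bot_iff.1 (h.hf ▸ inf_le_inf_right _ hKH)
  have hKc := h.centralizer_le hKH hHK
  have hB₁card : Nat.card B₁ = 2 :=
    (S0611.result V K h.hV (hKH.trans h.hHV) hKf hKc (gen_eq V H) hK1 B₁ hB₁K hB₁ hB₁ne hmin).1
  obtain ⟨-, -, hW4, hWi, hWs, -⟩ :=
    S0616.result V K h.hV (hKH.trans h.hHV) hKf hKc (gen_eq V H) hK1 B₁ hB₁K hB₁ hB₁ne hmin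
  set N : Subgroup G := (Cfsg.pPrimeCore 2 ↥K).map K.subtype with hN
  set E : Subgroup G := ⁅N, B₁⁆ ⊔ B₁ with hE
  set W : Subgroup G := ⁅V, E⁆ with hW
  have hNK : N ≤ K := Subgroup.map_subtype_le _
  have hNn : H ≤ Subgroup.normalizer (N : Set G) :=
    hHK.trans (PLocal.FFBridge.normalizer_le_normalizer_map K _ (Lib.Cores.pPrimeCore_characteristic 2))
  have hWV : W ≤ V := by
    rw [← hWs]; exact le_sup_left
  -- `A` normalizes `E` and `W`
  have hmapB : ∀ a ∈ A, B₁.map (MulAut.conj a).toMonoidHom = B₁ := by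
    intro a ha
    apply Subgroup.mem_normalizer_iff_map_conj_eq.1
    rw [Subgroup.mem_normalizer_iff]
    intro x
    constructor
    · intro hx
      rw [hAc a ha x (hB₁A hx), mul_inv_cancel_right]
      exact hx
    · intro hx
      have h1 := hAc a⁻¹ (A.inv_mem ha) _ (hB₁A hx)
      have h2 : x = a * x * a⁻¹ := by
        calc x = a⁻¹ * (a * x * a⁻¹) * a := by group
          _ = (a * x * a⁻¹) * a⁻¹ * a := by rw [h1]
          _ = _ := by group
      rw [h2]; exact hx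
  have hmapN : ∀ a ∈ A, N.map (MulAut.conj a).toMonoidHom = N := fun a ha =>
    Subgroup.mem_normalizer_iff_map_conj_eq.1 (hNn (hAH ha))
  have hmapV : ∀ a ∈ A, V.map (MulAut.conj a).toMonoidHom = V := fun a ha =>
    Subgroup.mem_normalizer_iff_map_conj_eq.1 (hAV ha)
  have hmapE : ∀ a ∈ A, E.map (MulAut.conj a).toMonoidHom = E := by
    intro a ha
    rw [hE, Subgroup.map_sup, Subgroup.map_commutator, hmapB a ha, hmapN a ha]
  have hmapW : ∀ a ∈ A, W.map (MulAut.conj a).toMonoidHom = W := by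
    intro a ha
    rw [hW, Subgroup.map_commutator, hmapV a ha, hmapE a ha]
  have hAW : ∀ a ∈ A, ∀ w ∈ W, a * w * a⁻¹ ∈ W := by
    intro a ha w hw
    have h1 : (MulAut.conj a).toMonoidHom w ∈ W.map (MulAut.conj a).toMonoidHom := ⟨w, hw, rfl⟩
    rw [hmapW a ha] at h1
    exact h1
  -- the generator `b` of `B₁`
  obtain ⟨b, hb, hb1⟩ : ∃ b ∈ B₁, b ≠ 1 := by
    by_contra hcon
    push Not at hcon
    have : B₁ = ⊥ := (Subgroup.eq_bot_iff_forall _).2 hcon
    rw [this, Subgroup.card_bot] at hB₁card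
    omega
  have hbA : b ∈ A := hB₁A hb
  have hbb : b * b = 1 := by
    have h1 : (⟨b, hb⟩ : B₁) ^ 2 = 1 := by
      rw [← hB₁card]; exact pow_card_eq_one'
    have h2 := congrArg Subtype.val h1
    rw [← pow_two]
    exact h2
  have hB₁eq : ∀ x ∈ B₁, x = 1 ∨ x = b := by
    intro x hx
    by_contra hcon
    push Not at hcon
    have h1 : ({1, b, x} : Set G) ⊆ (B₁ : Set G) := by
      intro y hy
      rcases hy with rfl | rfl | rfl
      · exact B₁.one_mem
      · exact hb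
      · exact hx
    have h2 := Set.ncard_le_ncard h1
    have h3 : ({1, b, x} : Set G).ncard = 3 := by
      rw [Set.ncard_eq_three]
      exact ⟨1, b, x, hb1.symm, hcon.1.symm, hcon.2.symm, rfl⟩
    have h4 : (B₁ : Set G).ncard = 2 := hB₁card
    omega
  obtain ⟨w₁, hw₁, hw₁b⟩ : ∃ w ∈ W, b * w ≠ w * b := by
    by_contra hcon
    push Not at hcon
    apply hB₁ne
    rw [Subgroup.commutator_eq_bot_iff_le_centralizer, ← hWs]
    refine sup_le ?_ ?_
    · intro w hw
      rw [Subgroup.mem_centralizer_iff]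
      intro x hx
      rcases hB₁eq x hx with rfl | rfl
      · rw [one_mul, mul_one]
      · exact hcon w hw
    · exact inf_le_right.trans (Subgroup.centralizer_le (SetLike.coe_subset_coe.2 le_sup_right))
  have hWsq : ∀ w ∈ W, w * w = 1 := fun w hw => by rw [← pow_two]; exact hV2 w (hWV hw)
  have hWinv : ∀ w ∈ W, w⁻¹ = w := fun w hw => inv_eq_of_mul_eq_one_left (hWsq w hw)
  have hWc : ∀ x ∈ W, ∀ y ∈ W, x * y = y * x := fun x hx y hy => hVc x (hWV hx) y (hWV hy)
  set w₂ := b * w₁ * b⁻¹ with hw₂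
  have hw₂W : w₂ ∈ W := hAW b hbA w₁ hw₁
  set w₀ := w₂ * w₁ with hw₀
  have hw₀W : w₀ ∈ W := W.mul_mem hw₂W hw₁
  have hw21 : w₂ ≠ w₁ := by
    intro h1
    apply hw₁b
    rw [hw₂] at h1
    calc b * w₁ = b * w₁ * b⁻¹ * b := by group
      _ = w₁ * b := by rw [h1]
  have hw₀1 : w₀ ≠ 1 := by
    intro h1
    apply hw21
    have h2 := eq_inv_of_mul_eq_one_left h1
    rw [h2, hWinv w₁ hw₁]
  have hw₁1 : w₁ ≠ 1 := by
    intro h1
    apply hw₁b
    rw [h1, mul_one, one_mul]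
  have hw₂1 : w₂ ≠ 1 := by
    intro h1
    apply hw₁1
    rw [hw₂] at h1
    exact conj_eq_one_iff.1 h1
  have hw01 : w₀ ≠ w₁ := by
    intro h1
    apply hw₂1
    rw [hw₀] at h1
    exact mul_eq_right.1 h1
  have hw02 : w₀ ≠ w₂ := by
    intro h1
    apply hw₁1
    rw [hw₀] at h1
    exact mul_eq_left.1 h1
  have hWeq : (W : Set G) = {1, w₀, w₁, w₂} := by
    symm
    apply Set.eq_of_subset_of_ncard_le
    · rintro x (rfl | rfl | rfl | rfl)
      · exact W.one_mem
      · exact hw₀W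
      · exact hw₁
      · exact hw₂W
    · have h4 : (W : Set G).ncard = 4 := hW4
      rw [h4, Set.ncard_insert_of_notMem (by
          simp only [Set.mem_insert_iff, Set.mem_singleton_iff, not_or]
          exact ⟨hw₀1.symm, hw₁1.symm, hw₂1.symm⟩),
        Set.ncard_eq_three.2 ⟨w₀, w₁, w₂, hw01, hw02, hw21.symm, rfl⟩]
    · exact Set.toFinite _
  have hbw₀ : b * w₀ * b⁻¹ = w₀ := by
    have h1 : b * w₂ * b⁻¹ = w₁ := by
      rw [hw₂]
      calc b * (b * w₁ * b⁻¹) * b⁻¹ = (b * b) * w₁ * (b * b)⁻¹ := by group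
        _ = w₁ := by rw [hbb]; group
    calc b * w₀ * b⁻¹ = (b * w₂ * b⁻¹) * (b * w₁ * b⁻¹) := by rw [hw₀]; group
      _ = w₁ * w₂ := by rw [h1]
      _ = w₀ := hWc _ hw₁ _ hw₂W
  -- elements of `A` fix `w₀`
  have hAw₀ : ∀ a ∈ A, a * w₀ * a⁻¹ = w₀ := by
    intro a ha
    have h1 : a * w₀ * a⁻¹ ∈ (W : Set G) := hAW a ha w₀ hw₀W
    have h2 : b * (a * w₀ * a⁻¹) * b⁻¹ = a * w₀ * a⁻¹ := by
      have h3 := hAc a ha b hbA
      calc b * (a * w₀ * a⁻¹) * b⁻¹ = (b * a) * w₀ * (b * a)⁻¹ := by group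
        _ = (a * b) * w₀ * (a * b)⁻¹ := by rw [h3]
        _ = a * (b * w₀ * b⁻¹) * a⁻¹ := by group
        _ = a * w₀ * a⁻¹ := by rw [hbw₀]
    rw [hWeq] at h1
    rcases h1 with h1 | h1 | h1 | h1
    · exact absurd (conj_eq_one_iff.1 h1) hw₀1
    · exact h1
    · exfalso
      rw [h1] at h2
      exact hw21 h2
    · exfalso
      rw [Set.mem_singleton_iff] at h1
      rw [h1] at h2
      apply hw21
      have h3 : b * w₂ * b⁻¹ = b * w₁ * b⁻¹ := by rw [h2]
      exact mul_left_cancel (mul_right_cancel h3)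
  have hcent : ∀ x : G, x * w₀ * x⁻¹ = w₀ → x * w₁ * x⁻¹ = w₁ → x ∈ Subgroup.centralizer (W : Set G) := by
    intro x h0 h1
    have h2 : x * w₂ * x⁻¹ = w₂ := by
      have e : w₂ = w₀ * w₁ := by
        rw [hw₀, mul_assoc, hWsq w₁ hw₁, mul_one]
      rw [e]
      calc x * (w₀ * w₁) * x⁻¹ = (x * w₀ * x⁻¹) * (x * w₁ * x⁻¹) := by group
        _ = w₀ * w₁ := by rw [h0, h1]
    rw [Subgroup.mem_centralizer_iff]
    intro w hw
    rw [hWeq] at hw
    have key : ∀ v : G, x * v * x⁻¹ = v → v * x = x * v := by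
      intro v hv
      calc v * x = (x * v * x⁻¹) * x := by rw [hv]
        _ = x * v := by group
    rcases hw with rfl | rfl | rfl | hw
    · rw [one_mul, mul_one]
    · exact key _ h0
    · exact key _ h1
    · rw [Set.mem_singleton_iff] at hw
      rw [hw]
      exact key _ h2
  have hdich : ∀ a ∈ A, a ∈ A ⊓ Subgroup.centralizer (W : Set G) ∨
      b⁻¹ * a ∈ A ⊓ Subgroup.centralizer (W : Set G) := by
    intro a ha
    have h1 : a * w₁ * a⁻¹ ∈ (W : Set G) := hAW a ha w₁ hw₁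
    rw [hWeq] at h1
    rcases h1 with h1 | h1 | h1 | h1
    · exact absurd (conj_eq_one_iff.1 h1) hw₁1
    · exfalso
      have h2 : a * w₁ * a⁻¹ = a * w₀ * a⁻¹ := by rw [h1, hAw₀ a ha]
      exact hw01 (mul_left_cancel (mul_right_cancel h2)).symm
    · exact Or.inl ⟨ha, hcent a (hAw₀ a ha) h1⟩
    · right
      rw [Set.mem_singleton_iff] at h1
      have hba : b⁻¹ * a ∈ A := A.mul_mem (A.inv_mem hbA) ha
      refine ⟨hba, hcent _ (hAw₀ _ hba) ?_⟩
      calc b⁻¹ * a * w₁ * (b⁻¹ * a)⁻¹ = b⁻¹ * (a * w₁ * a⁻¹) * b := by group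
        _ = b⁻¹ * (b * w₁ * b⁻¹) * b := by rw [h1]
        _ = w₁ := by group
  set A' : Subgroup G := A ⊓ Subgroup.centralizer (W : Set G) with hA'
  have hbA' : b ∉ A' := by
    intro hbA'
    exact hw₁b (Subgroup.mem_centralizer_iff.1 hbA'.2 w₁ hw₁).symm
  have hlt : Nat.card A' < n := by
    rw [← hn]
    have h1 : A' < A := lt_of_le_of_ne inf_le_left (fun h1 => hbA' (h1 ▸ hbA))
    have := card_two_mul_le h1
    have h2 : 0 < Nat.card A' := Nat.card_pos
    omega
  have hineq : Ineq V A' := by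
    intro C hC
    have h1 := hbest C (hC.trans inf_le_left)
    have h2 : Nat.card A ≤ Nat.card A' * 2 := card_le_two_mul hdich
    have h3 : 2 * Nat.card ↥(V ⊓ Subgroup.centralizer (A : Set G)) ≤
        Nat.card ↥(V ⊓ Subgroup.centralizer (A' : Set G)) := by
      apply card_two_mul_le
      refine lt_of_le_of_ne (inf_le_inf_left _ (Subgroup.centralizer_le (SetLike.coe_subset_coe.2 inf_le_left))) ?_
      intro h4
      have h5 : w₁ ∈ V ⊓ Subgroup.centralizer (A' : Set G) := by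
        refine ⟨hWV hw₁, ?_⟩
        refine Subgroup.mem_centralizer_iff.2 ?_
        intro x hx
        exact ((Subgroup.mem_centralizer_iff.1 hx.2) w₁ hw₁).symm
      rw [← h4] at h5
      exact hw₁b (Subgroup.mem_centralizer_iff.1 h5.2 b hbA)
    calc Nat.card C * Nat.card ↥(V ⊓ Subgroup.centralizer (C : Set G)) ≤
          Nat.card A * Nat.card ↥(V ⊓ Subgroup.centralizer (A : Set G)) := h1
      _ ≤ Nat.card A' * 2 * Nat.card ↥(V ⊓ Subgroup.centralizer (A : Set G)) := by gcongr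
      _ = Nat.card A' * (2 * Nat.card ↥(V ⊓ Subgroup.centralizer (A : Set G))) := by ring
      _ ≤ _ := by gcongr
  have hIH := ih _ hlt A' rfl (inf_le_left.trans hAH) (hAp.to_le inf_le_left)
    (fun a ha b hb => hAc a ha.1 b hb.1) hineq
  intro a ha
  rcases hdich a ha with h1 | h1
  · exact hIH a h1
  · have h2 := hIH _ h1
    have h3 := hAc b⁻¹ (A.inv_mem hbA) a ha
    have h4 : b⁻¹ * b⁻¹ = 1 := by rw [← mul_inv_rev, hbb, inv_one]
    calc a * a = (b⁻¹ * b⁻¹) * (a * a) := by rw [h4, one_mul]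
      _ = b⁻¹ * (b⁻¹ * a) * a := by group
      _ = b⁻¹ * (a * b⁻¹) * a := by rw [h3]
      _ = b⁻¹ * a * (b⁻¹ * a) := by group
      _ = 1 := h2

end

end Cfsg.Agent.H561.FFAbelian
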