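import Mathlib
import Cfsg.Agent.H561.FFAbelian
import Cfsg.Agent.PLocal.ThompsonJA
import Cfsg.Agent.PLocal.ElemAbSup
import Cfsg.Agent.PLocal.FFBridge

/-!
# Abelian subgroups of largest order as offenders
-/

set_option autoImplicit false
open Cfsg
open scoped commutatorElement

namespace Cfsg.Agent.H561.FFAbelian

open PLocal.FFBridge Subgroup

/-- Abelian subgroups of largest order satisfy the best-offender inequality on every abelian normal subgroup
contained in `T`. -/
theorem ineq_of_max {G : Type*} [Group G] [Finite G] {T A V : Subgroup G}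
    (hA : A ∈ PLocal.ThompsonJA.maxAbelianIn T) (hVT : V ≤ T)
    (hVc : ∀ x ∈ V, ∀ y ∈ V, x * y = y * x) : Ineq V A := by
  obtain ⟨hAT, hAc, hmax⟩ := hA
  rw [PLocal.ThompsonJA.isMulCommutative_iff] at hAc
  intro B hBA
  have h2 : V ⊓ centralizer (B : Set G) ≤ centralizer (B : Set G) := inf_le_right
  rw [← PLocal.ElemAbSup.card_sup_mul_card_inf h2]
  refine Nat.mul_le_mul (hmax _ (sup_le (hBA.trans hAT) (inf_le_left.trans hVT)) ?_)
    (Subgroup.card_le_of_le ?_)
  · rw [PLocal.ThompsonJA.isMulCommutative_iff]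
    have key : B ⊔ (V ⊓ centralizer (B : Set G)) ≤
        centralizer ((B ⊔ (V ⊓ centralizer (B : Set G)) : Subgroup G) : Set G) := by
      refine sup_le ?_ ?_
      · rw [le_centralizer_iff]
        refine sup_le ?_ inf_le_right
        intro x hx
        rw [mem_centralizer_iff]
        exact fun y hy => hAc y (hBA hy) x (hBA hx)
      · rw [le_centralizer_iff]
        refine sup_le ?_ ?_
        · rw [le_centralizer_iff]
          exact inf_le_right
        · intro x hx
          rw [mem_centralizer_iff]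
          exact fun y hy => hVc y hy.1 x hx.1
    intro x hx y hy
    exact (mem_centralizer_iff.1 (key hy) x hx)
  · intro x hx
    refine mem_inf.2 ⟨hx.2.1, ?_⟩
    rw [mem_centralizer_iff]
    intro a ha
    exact hAc a ha x (hBA hx.1)

section
variable {K Γ : Type*} [Group K] [Group Γ] {V : Subgroup K} {f : K →* Γ} {j : V →* Γ}

/-- Images under a compatible pair satisfy the inequality. -/
theorem ineq_map [Finite K] (h : Compat V f j) [V.Normal] {A : Subgroup K}
    (h1 : Ineq V A) : Ineq j.range (A.map f) := by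
  intro B hB
  -- `B = f(B')` with `B' = A ∩ f⁻¹(B) ≥ A ∩ ker f`
  let B' : Subgroup K := A ⊓ B.comap f
  have hB'A : B' ≤ A := inf_le_left
  have hB' : B'.map f = B := by
    apply le_antisymm
    · rintro _ ⟨b, hb, rfl⟩
      exact hb.2
    · intro b hb
      obtain ⟨a, ha, rfl⟩ := hB hb
      exact ⟨a, ⟨ha, hb⟩, rfl⟩
  have h4 := h1 B' hB'A
  rw [← hB', h.card_inf_centralizer, h.card_inf_centralizer]
  -- orders: `|A| = |f(A)| |A ∩ ker f|`, `|B'| = |f(B')| |A ∩ ker f|`
  have hcard : ∀ C : Subgroup K, Nat.card C = Nat.card (C.map f) * Nat.card ↥(C ⊓ f.ker) := by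
    intro C
    have e1 : (C.map f) = (f.comp C.subtype).range := by
      rw [MonoidHom.range_comp, Subgroup.range_subtype]
    have e2 : Nat.card ↥(C ⊓ f.ker) = Nat.card (f.comp C.subtype).ker := by
      have e3 : (f.comp C.subtype).ker = (C ⊓ f.ker).subgroupOf C := by
        ext x
        simp [MonoidHom.mem_ker, Subgroup.mem_subgroupOf]
      rw [e3]
      exact (Nat.card_congr (Subgroup.subgroupOfEquivOfLe inf_le_left).toEquiv).symm
    rw [e1, e2, ← Subgroup.index_ker, mul_comm, Subgroup.card_mul_index]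
  have hk : B' ⊓ f.ker = A ⊓ f.ker := by
    ext x
    constructor
    · rintro ⟨⟨hx, _⟩, hx'⟩
      exact ⟨hx, hx'⟩
    · rintro ⟨hx, hx'⟩
      refine ⟨⟨hx, ?_⟩, hx'⟩
      change f x ∈ B
      rw [(hx' : f x = 1)]
      exact B.one_mem
  rw [hcard B', hcard A, hk] at h4
  have hpos : 0 < Nat.card ↥(A ⊓ f.ker) := Nat.card_pos
  have h5 : (Nat.card ↥(A ⊓ f.ker)) *
      (Nat.card ↥(B'.map f) * Nat.card ↥(V ⊓ centralizer (B' : Set K))) ≤
      (Nat.card ↥(A ⊓ f.ker)) *
      (Nat.card ↥(A.map f) * Nat.card ↥(V ⊓ centralizer (A : Set K))) := by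
    calc _ = Nat.card ↥(B'.map f) * Nat.card ↥(A ⊓ f.ker) *
          Nat.card ↥(V ⊓ centralizer (B' : Set K)) := by ring
      _ ≤ _ := h4
      _ = _ := by ring
  exact Nat.le_of_mul_le_mul_left h5 hpos

end

/-- The situation in the semidirect product: `Γ ≥ f(X), j(U)`. -/
theorem sit_of_compat {X Γ : Type*} [Group X] [Finite X] [Group Γ] [Group.IsSolvable X] (U : Subgroup X) (hUn : U.Normal)
    (hU : Cfsg.IsElementaryAbelian 2 U) (hO : Cfsg.pCore 2 (X ⧸ centralizer (U : Set X)) = ⊥)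
    {f : X →* Γ} {j : U →* Γ} (h : Compat U f j) (hker : ∀ k : X, f k = 1 ↔ k ∈ centralizer (U : Set X)) :
    Sit j.range f.range := by
  refine ⟨?_, ?_, ?_, ?_, ?_⟩
  · rw [PLocal.ThompsonJ.isElementaryAbelian_iff] at hU ⊢
    constructor
    · rintro _ ⟨v, rfl⟩ _ ⟨w, rfl⟩
      rw [← map_mul, ← map_mul]
      congr 1
      exact Subtype.ext (hU.1 v v.2 w w.2)
    · rintro _ ⟨v, rfl⟩
      rw [← map_pow]
      have : v ^ 2 = 1 := Subtype.ext (hU.2 v v.2)
      rw [this, map_one]
  · rintro _ ⟨k, rfl⟩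
    rw [Subgroup.mem_normalizer_iff]
    intro x
    constructor
    · rintro ⟨v, rfl⟩
      exact ⟨⟨k * v * k⁻¹, hUn.conj_mem _ v.2 k⟩, (h.act k v _ rfl).symm⟩
    · rintro ⟨v, hv⟩
      have h1 := h.act k⁻¹ v ⟨k⁻¹ * v * k⁻¹⁻¹, hUn.conj_mem _ v.2 k⁻¹⟩ rfl
      refine ⟨_, h1.symm.trans ?_⟩
      rw [hv, map_inv]; group
  · rw [eq_bot_iff]
    rintro _ ⟨⟨k, rfl⟩, hk⟩
    have : k ∈ centralizer (U : Set X) := by
      rw [Subgroup.mem_centralizer_iff]
      intro v hv
      exact ((h.commute_iff k ⟨v, hv⟩).1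
        ((Subgroup.mem_centralizer_iff.1 hk) (j ⟨v, hv⟩) ⟨⟨v, hv⟩, rfl⟩).symm).symm
    rw [(hker k).2 this]
    exact Subgroup.one_mem _
  · exact Group.isSolvable_of_surjective f.rangeRestrict_surjective
  · have hk : f.ker = centralizer (U : Set X) := by
      ext x
      exact hker x
    let e : X ⧸ centralizer (U : Set X) ≃* f.range :=
      (QuotientGroup.quotientMulEquivOfEq hk.symm).trans (QuotientGroup.quotientKerEquivRange f)
    have h1 := Lib.Cores.map_equiv_pCore e 2
    rw [hO, Subgroup.map_bot] at h1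
    exact h1.symm

end Cfsg.Agent.H561.FFAbelian
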