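import Mathlib
import Cfsg.Agent.H571.SylowNumber
import Cfsg.Agent.H571.SylowParts
import Cfsg.Agent.Classification.QDW.FuCop

/-!
# Sylow numbers of groups with a normal `p'`-subgroup

`good_pprime`: if `K` is a normal `p'`-subgroup of `G` and `P` a Sylow `p`-subgroup, every prime part of the
number of Sylow `p`-subgroups of `PK` is `≡ 1` mod `p`.

`exists_list_of_good`: such a number is a product of prime powers `≡ 1` mod `p`.
-/

set_option autoImplicit false

namespace Cfsg.Agent.H561.HallSylow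

open Subgroup
open Cfsg.Agent.H571.SylowNumber

/-- If `P ≤ H` normalizes `R` then `|PR : H ∩ PR| = |R : H ∩ R|`. -/
theorem relIndex_sup_of_le_normalizer {G : Type*} [Group G] [Finite G] (P R H : Subgroup G)
    (hPR : P ≤ normalizer (R : Set G)) (hPH : P ≤ H) : H.relIndex (P ⊔ R) = H.relIndex R := by
  set M := P ⊔ R with hM
  have hn : (R.subgroupOf M).Normal := by
    apply Subgroup.normal_subgroupOf_of_le_normalizer
    exact sup_le hPR Subgroup.le_normalizer
  have h1 : H.subgroupOf M ⊔ R.subgroupOf M = ⊤ := by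
    rw [eq_top_iff]
    have h2 : P.subgroupOf M ⊔ R.subgroupOf M = ⊤ := by
      rw [← Subgroup.subgroupOf_sup (le_sup_left : P ≤ M) (le_sup_right : R ≤ M)]
      exact Subgroup.subgroupOf_self M
    rw [← h2]
    exact sup_le_sup_right (Subgroup.comap_mono hPH) _
  have h2 := relIndex_sup_of_normal (H.subgroupOf M) (R.subgroupOf M)
  rw [h1, Subgroup.relIndex_top_right] at h2
  have h3 : (H.subgroupOf M).relIndex (R.subgroupOf M) = H.relIndex R :=
    Subgroup.relIndex_subgroupOf le_sup_right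
  rw [← h3, ← h2]
  rfl

section
variable {G : Type*} [Group G] [Finite G] {p : ℕ} [hp : Fact p.Prime]

/-- If `R` is a `P`-invariant `p'`-subgroup then `N_R(P) = C_R(P)`. -/
theorem normalizer_inf_eq (P : Sylow p G) (R : Subgroup G) (hR : ¬ p ∣ Nat.card R)
    (hPR : (P : Subgroup G) ≤ normalizer (R : Set G)) :
    normalizer ((P : Subgroup G) : Set G) ⊓ R = R ⊓ centralizer ((P : Subgroup G) : Set G) := by
  apply le_antisymm
  · rintro x ⟨hxN, hxR⟩
    refine ⟨hxR, ?_⟩
    have hcop : Nat.Coprime (Nat.card R) (Nat.card (P : Subgroup G)) := by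
      obtain ⟨n, hn⟩ := IsPGroup.iff_card.1 P.isPGroup'
      rw [hn]
      exact (Nat.Coprime.pow_left n ((Nat.Prime.coprime_iff_not_dvd hp.out).2 hR)).symm
    have hdis := (Subgroup.disjoint_of_coprime_natCard hcop).eq_bot
    refine Subgroup.mem_centralizer_iff.2 ?_
    intro y hy
    have h1 : x * y * x⁻¹ * y⁻¹ ∈ R ⊓ (P : Subgroup G) := by
      refine ⟨?_, ?_⟩
      · have h2 : y * x⁻¹ * y⁻¹ ∈ R := (Subgroup.mem_normalizer_iff.1 (hPR hy) _).1 (R.inv_mem hxR)
        have h3 := R.mul_mem hxR h2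
        have e : x * y * x⁻¹ * y⁻¹ = x * (y * x⁻¹ * y⁻¹) := by group
        rw [e]; exact h3
      · exact (P : Subgroup G).mul_mem ((Subgroup.mem_normalizer_iff.1 hxN _).1 hy)
          ((P : Subgroup G).inv_mem hy)
    rw [hdis, Subgroup.mem_bot] at h1
    have h2 : x * y * x⁻¹ * y⁻¹ * (y * x) = y * x := by rw [h1, one_mul]
    rw [← h2]
    group
  · rintro x ⟨hxR, hxC⟩
    refine ⟨?_, hxR⟩
    exact Subgroup.centralizer_le_normalizer _ hxC

/-- The prime parts of the number of Sylow `p`-subgroups of `PK`, `K` a normal `p'`-subgroup, are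
`≡ 1` modulo `p`. -/
theorem good_pprime (P : Sylow p G) (K : Subgroup G) [K.Normal] (hK : ¬ p ∣ Nat.card K) :
    Cfsg.Agent.H571.SylowParts.Good p (Nat.card (Sylow p ((P : Subgroup G) ⊔ K : Subgroup G))) := by
  intro r hr
  have hrF : Fact r.Prime := ⟨hr⟩
  have hKn : ∀ b ∈ (P : Subgroup G), ∀ u ∈ K, b * u * b⁻¹ ∈ K := fun b _ u hu =>
    Subgroup.Normal.conj_mem inferInstance u hu b
  obtain ⟨R, hRK, hR, hRi, hPR⟩ := Cfsg.Agent.Classification.QDW.FuCop.exists_inv
    P.isPGroup' hK hKn r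
  obtain ⟨hC1, hC2⟩ := Cfsg.Agent.Classification.QDW.FuCop.centralizer_sylow
    P.isPGroup' hK hKn hRK hR hRi hPR
  have hPK : (P : Subgroup G) ≤ normalizer (K : Set G) := by
    rw [Subgroup.normalizer_eq_top]; exact le_top
  have hPR' : (P : Subgroup G) ≤ normalizer (R : Set G) := by
    intro b hb
    rw [Subgroup.mem_normalizer_iff]
    intro x
    refine ⟨fun hx => hPR b hb x hx, fun hx => ?_⟩
    have h1 := hPR b⁻¹ ((P : Subgroup G).inv_mem hb) _ hx
    have e : b⁻¹ * (b * x * b⁻¹) * b⁻¹⁻¹ = x := by group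
    rwa [e] at h1
  have hRp : ¬ p ∣ Nat.card R := fun h => hK (h.trans (Subgroup.card_dvd_of_le hRK))
  -- numbers
  have e1 : Nat.card (Sylow p ((P : Subgroup G) ⊔ K : Subgroup G)) =
      (K ⊓ centralizer ((P : Subgroup G) : Set G)).relIndex K := by
    rw [card_sylow_eq_relIndex P _ le_sup_left,
      relIndex_sup_of_le_normalizer _ _ _ hPK Subgroup.le_normalizer, ← Subgroup.inf_relIndex_right,
      normalizer_inf_eq P K hK hPK]
  have e2 : Nat.card (Sylow p ((P : Subgroup G) ⊔ R : Subgroup G)) =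
      (R ⊓ centralizer ((P : Subgroup G) : Set G)).relIndex R := by
    rw [card_sylow_eq_relIndex P _ le_sup_left,
      relIndex_sup_of_le_normalizer _ _ _ hPR' Subgroup.le_normalizer, ← Subgroup.inf_relIndex_right,
      normalizer_inf_eq P R hRp hPR']
  set C := centralizer ((P : Subgroup G) : Set G) with hC
  have e3 : (R ⊓ C).relIndex R * R.relIndex K = (R ⊓ C).relIndex K :=
    Subgroup.relIndex_mul_relIndex _ _ _ inf_le_left hRK
  have e4 : (R ⊓ C).relIndex (K ⊓ C) * (K ⊓ C).relIndex K = (R ⊓ C).relIndex K :=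
    Subgroup.relIndex_mul_relIndex _ _ _ (inf_le_inf_right _ hRK) inf_le_left
  have n1 : (R ⊓ C).relIndex R ≠ 0 := Subgroup.index_ne_zero_of_finite
  have n2 : R.relIndex K ≠ 0 := Subgroup.index_ne_zero_of_finite
  have n3 : (R ⊓ C).relIndex (K ⊓ C) ≠ 0 := Subgroup.index_ne_zero_of_finite
  have n4 : (K ⊓ C).relIndex K ≠ 0 := Subgroup.index_ne_zero_of_finite
  have hv : ((K ⊓ C).relIndex K).factorization r = ((R ⊓ C).relIndex R).factorization r := by
    have h1 := congrArg (fun n => Nat.factorization n r) (e4.trans e3.symm)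
    simp only [Nat.factorization_mul n3 n4, Nat.factorization_mul n1 n2, Finsupp.add_apply] at h1
    rw [Nat.factorization_eq_zero_of_not_dvd hC2, Nat.factorization_eq_zero_of_not_dvd hRi] at h1
    simpa using h1
  have hpow : r ^ ((R ⊓ C).relIndex R).factorization r = (R ⊓ C).relIndex R := by
    have h3 : (R ⊓ C).relIndex R ∣ Nat.card R := Subgroup.relIndex_dvd_card _ _
    obtain ⟨n, hn⟩ := IsPGroup.iff_card.1 hR
    rw [hn] at h3
    obtain ⟨k, -, hk⟩ := (Nat.dvd_prime_pow hr).1 h3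
    rw [hk, hr.factorization_pow, Finsupp.single_eq_same]
  rw [e1, hv, hpow, ← e2]
  exact card_sylow_modEq_one p _

end

/-- A number all of whose prime parts are `≡ 1` mod `p` is a product of prime powers `≡ 1` mod `p`. -/
theorem exists_list_of_good {p n : ℕ} (hp : p.Prime) (hn : n ≠ 0)
    (h : Cfsg.Agent.H571.SylowParts.Good p n) :
    ∃ l : List ℕ, l.prod = n ∧ ∀ m ∈ l, IsPrimePow m ∧ m % p = 1 := by
  refine ⟨n.primeFactors.toList.map (fun r => r ^ n.factorization r), ?_, ?_⟩
  · rw [Finset.prod_map_toList]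
    conv_rhs => rw [← Nat.prod_factorization_pow_eq_self hn]
    rw [Finsupp.prod, Nat.support_factorization]
  · intro m hm
    rw [List.mem_map] at hm
    obtain ⟨r, hr, rfl⟩ := hm
    rw [Finset.mem_toList, Nat.mem_primeFactors] at hr
    obtain ⟨hr1, hr2, -⟩ := hr
    refine ⟨hr1.isPrimePow.pow (hr1.factorization_pos_of_dvd hn hr2).ne', ?_⟩
    have := h r hr1
    rw [Nat.ModEq, Nat.mod_eq_of_lt hp.one_lt] at this
    exact this

end Cfsg.Agent.H561.HallSylow
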