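import Mathlib
import Cfsg.Agent.H561.PPRowA
import Cfsg.Agent.H561.PPRowL
import Cfsg.Agent.Lib.SolvableNormalP
import Cfsg.Agent.SmallSimple.S1000.Order25920Hom
import Cfsg.Agent.Classification.SmallOrders.N480
import Cfsg.Agent.H316.RedQ
import Cfsg.Agent.S0553

/-!
# Subgroups of index 27 of the simple group of order 25920
-/

set_option autoImplicit false

namespace Cfsg.Agent.H561.PPow

open Subgroup
open Cfsg.Agent.SmallSimple.S1000 Cfsg.Agent.SmallSimple.S1000.Order25920Local
  Cfsg.Agent.SmallSimple.S1000.Order25920Model Cfsg.Agent.SmallSimple.S1000.Order25920Aut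
  Cfsg.Agent.SmallSimple.S1000.Order25920Graph Cfsg.Agent.SmallSimple.S1000.Order25920Hom

/-- A solvable minimal normal subgroup is a `p`-group. -/
theorem isPGroup_of_min {M : Type*} [Group M] [Finite M] (N : Subgroup M) (hNn : N.Normal)
    (hN : N ≠ ⊥) (hmin : ∀ K : Subgroup M, K.Normal → K ≤ N → K = ⊥ ∨ K = N)
    (hs : Group.IsSolvable N) : ∃ p : ℕ, p.Prime ∧ IsPGroup p N := by
  have hnt : Nontrivial N := (Subgroup.nontrivial_iff_ne_bot N).2 hN
  obtain ⟨D, hDc, hDm, hD⟩ := Lib.SolvableNormalP.exists_comm_characteristic N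
  have hDN : D.map N.subtype = N := by
    rcases hmin (D.map N.subtype) inferInstance (Subgroup.map_subtype_le D) with h | h
    · exact absurd ((Subgroup.map_eq_bot_iff_of_injective D N.subtype_injective).1 h) hD
    · exact h
  have hDtop : D = ⊤ := by
    rw [eq_top_iff]
    intro x _
    have : (x : M) ∈ D.map N.subtype := by rw [hDN]; exact x.2
    obtain ⟨y, hy, hyx⟩ := this
    rwa [← Subtype.ext hyx]
  subst hDtop
  have hcomm : ∀ a b : N, a * b = b * a := fun a b =>
    congrArg Subtype.val (hDm.is_comm.comm ⟨a, mem_top a⟩ ⟨b, mem_top b⟩)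
  have hcard : Nat.card N ≠ 1 := by
    rw [Ne, Subgroup.card_eq_one]; exact hN
  obtain ⟨p, hp, hpd⟩ := Nat.exists_prime_and_dvd hcard
  have : Fact p.Prime := ⟨hp⟩
  obtain ⟨P⟩ : Nonempty (Sylow p N) := inferInstance
  have hPn : (P : Subgroup N).Normal := by
    constructor
    intro n hn g
    rwa [hcomm g n, mul_inv_cancel_right]
  have hPc : (P : Subgroup N).Characteristic := P.characteristic_of_normal hPn
  refine ⟨p, hp, ?_⟩
  have hPne : (P : Subgroup N) ≠ ⊥ := P.ne_bot_of_dvd_card hpd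
  have hPN : (P : Subgroup N).map N.subtype = N := by
    rcases hmin ((P : Subgroup N).map N.subtype) inferInstance (Subgroup.map_subtype_le _) with h | h
    · exact absurd ((Subgroup.map_eq_bot_iff_of_injective _ N.subtype_injective).1 h) hPne
    · exact h
  have := P.2.map N.subtype
  rwa [hPN] at this

section

variable {G : Type*} [Group G] [Finite G] [IsSimpleGroup G]

theorem not_solvable_of_index (hG : Nat.card G = 25920) (A : Subgroup G) (hA : Nat.card A = 960) :
    ¬ Group.IsSolvable A := by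
  intro hs
  obtain ⟨x, hx⟩ := exists_fifteen hs 64 (by rw [hA]) (by decide)
  have hx' : orderOf (x : G) = 15 := by rw [Subgroup.orderOf_coe]; exact hx
  have h5 : orderOf ((x : G) ^ 3) = 5 := by
    rw [orderOf_pow, hx']
    decide
  have h1 : (x : G) ∈ centralizer ({(x : G) ^ 3} : Set G) := by
    rw [Subgroup.mem_centralizer_singleton_iff]
    exact ((Commute.refl (x : G)).pow_right 3).eq
  rw [self_cent hG h5] at h1
  have h2 := orderOf_dvd_of_mem_zpowers h1
  rw [hx', h5] at h2
  revert h2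
  decide

/-- A subgroup of order 960 has a nontrivial normal 2-subgroup. -/
theorem exists_normal_two (hG : Nat.card G = 25920) (A : Subgroup G) (hA : Nat.card A = 960) :
    ∃ N : Subgroup A, N.Normal ∧ N ≠ ⊥ ∧ IsPGroup 2 N := by
  have hF5 : Fact (Nat.Prime 5) := ⟨by norm_num⟩
  have hns := not_solvable_of_index hG A hA
  have hnt : Nontrivial A := by
    apply Finite.one_lt_card_iff_nontrivial.1; omega
  obtain ⟨N, hNn, hN, hmin⟩ := Cfsg.Agent.S0553.exists_min_normal (G := A)
  have hNcard : Nat.card (N.map A.subtype) = Nat.card N :=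
    Subgroup.card_map_of_injective A.subtype_injective
  have hNd : Nat.card N ∣ 960 := hA ▸ N.card_subgroup_dvd_card
  have hN1 : Nat.card N ≠ 1 := fun h => hN (Subgroup.card_eq_one.1 h)
  by_cases h5 : 5 ∣ Nat.card N
  · exfalso
    -- a Sylow 5-subgroup of `N`
    obtain ⟨P⟩ : Nonempty (Sylow 5 N) := inferInstance
    obtain ⟨m, hm⟩ := h5
    have hm5 : ¬ 5 ∣ m := by
      rintro ⟨c, rfl⟩
      have h1 : 25 ∣ 960 := (Dvd.intro c (by rw [hm]; ring)).trans hNd
      revert h1
      decide
    have hPc : Nat.card P = 5 := by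
      have := Cfsg.Agent.SmallSimple.SylowSub.card_sylow_eq (k := 1) (m := m) (by rw [hm]; ring) hm5 P
      simpa using this
    obtain ⟨y, hy⟩ := exists_prime_orderOf_dvd_card' (G := P) 5 (by rw [hPc])
    have hyN : orderOf (y : N) = 5 := (Subgroup.orderOf_coe y).trans hy
    have hPy : zpowers (y : N) = P := by
      apply Subgroup.eq_of_le_of_card_ge
      · rw [Subgroup.zpowers_le]
        exact y.2
      · rw [Nat.card_zpowers, hyN]
        exact hPc.le
    have hyA : orderOf ((y : N) : A) = 5 := by rw [Subgroup.orderOf_coe, hyN]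
    set x : G := (((y : N) : A) : G) with hxdef
    have hx : orderOf x = 5 := by rw [hxdef, Subgroup.orderOf_coe, hyA]
    have hxA : x ∈ A := ((y : N) : A).2
    have hxN : x ∈ N.map A.subtype := ⟨((y : N) : A), (y : N).2, rfl⟩
    obtain ⟨n, s, hn, hns', hs5, hn3, hsol⟩ := sylow_data hG hx A hxA
    obtain ⟨n', s', hn', hns'', hs5', hn3', hsol'⟩ := sylow_data hG hx (N.map A.subtype) hxN
    rw [hA] at hns'
    have hn10 : n = 10 := by
      rcases hn3 with rfl | rfl | rfl
      · exact absurd (hsol rfl) hns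
      · rfl
      · exfalso
        omega
    subst hn10
    have hle : normalizer (zpowers x : Set G) ⊓ N.map A.subtype ≤ normalizer (zpowers x : Set G) ⊓ A :=
      inf_le_inf_left _ (Subgroup.map_subtype_le N)
    rcases hn3' with rfl | rfl | rfl
    · -- `N` is solvable
      have hsN : Group.IsSolvable N := by
        have h1 : Group.IsSolvable (N.map A.subtype) := hsol' rfl
        exact Group.isSolvable_of_isSolvable_injective
          (f := (N.equivMapOfInjective A.subtype A.subtype_injective).toMonoidHom)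
          (N.equivMapOfInjective A.subtype A.subtype_injective).injective
      obtain ⟨p, hp, hpN⟩ := isPGroup_of_min N hNn hN hmin hsN
      have : Fact p.Prime := ⟨hp⟩
      obtain ⟨k, hk⟩ := IsPGroup.iff_card.1 hpN
      have hp5 : p = 5 := by
        have h1 : 5 ∣ p ^ k := by rw [← hk, hm]; exact Dvd.intro _ rfl
        exact ((Nat.prime_dvd_prime_iff_eq hF5.out hp).1 (hF5.out.dvd_of_dvd_pow h1)).symm
      subst hp5
      have hk1 : k = 1 := by
        have h1 : k ≠ 0 := by
          rintro rfl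
          exact hN1 (by rw [hk, pow_zero])
        by_contra h2
        have h3 : 5 ^ 2 ∣ 960 := (pow_dvd_pow 5 (by omega : 2 ≤ k)).trans (hk ▸ hNd)
        revert h3
        decide
      rw [hk1, pow_one] at hk
      have hNz : N.map A.subtype = zpowers x := by
        symm
        apply Subgroup.eq_of_le_of_card_ge
        · rw [Subgroup.zpowers_le]
          exact hxN
        · rw [Nat.card_zpowers, hx, hNcard, hk]
      have h6 : A ≤ normalizer (zpowers x : Set G) := by
        rw [← hNz]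
        intro a ha
        rw [Subgroup.mem_normalizer_iff]
        intro g
        constructor
        · rintro ⟨b, hb, rfl⟩
          exact ⟨⟨a, ha⟩ * b * ⟨a, ha⟩⁻¹, hNn.conj_mem b hb ⟨a, ha⟩, rfl⟩
        · rintro ⟨b, hb, hbg⟩
          refine ⟨⟨a, ha⟩⁻¹ * b * ⟨a, ha⟩, ?_, ?_⟩
          · have := hNn.conj_mem b hb ⟨a, ha⟩⁻¹
            rwa [inv_inv] at this
          · change a⁻¹ * (b : G) * a = g
            change (b : G) = _ at hbg
            rw [hbg]
            group
      rw [inf_eq_right.2 h6, hA] at hn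
      omega
    · -- Frattini
      have h6 : normalizer (zpowers x : Set G) ⊓ N.map A.subtype =
          normalizer (zpowers x : Set G) ⊓ A :=
        Subgroup.eq_of_le_of_card_ge hle (by rw [hn, hn'])
      have h7 := Sylow.normalizer_sup_eq_top (P := P)
      have h8 : normalizer (((P : Subgroup N).map N.subtype : Subgroup A) : Set A) ≤ N := by
        intro a ha
        have h9 : (a : G) ∈ normalizer (zpowers x : Set G) ⊓ A := by
          refine ⟨?_, a.2⟩
          have h10 : ((P : Subgroup N).map N.subtype).map A.subtype = zpowers x := by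
            rw [← hPy, MonoidHom.map_zpowers, MonoidHom.map_zpowers]
            rfl
          rw [← h10]
          exact Subgroup.le_normalizer_map A.subtype ⟨a, ha, rfl⟩
        rw [← h6] at h9
        obtain ⟨b, hb, hba⟩ := h9.2
        rwa [← Subtype.ext (show (b : G) = a from hba)]
      rw [sup_eq_right.2 h8] at h7
      have hsimple : IsSimpleGroup A :=
        { exists_pair_ne := hnt.exists_pair_ne
          eq_bot_or_eq_top_of_normal := fun K hK => by
            have := hmin K hK (by rw [h7]; exact le_top)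
            rwa [h7] at this }
      refine Cfsg.Agent.Classification.SmallOrders.N480.card_ne_960 (G := A) ?_ hA
      intro hcomm
      apply hns
      exact Group.isSolvable_of_comm hcomm.is_comm.comm
    · have := Subgroup.card_le_of_le hle
      rw [hn, hn'] at this
      omega
  · refine ⟨N, hNn, hN, ?_⟩
    have hN192 : Nat.card N ∣ 2 ^ 6 * 3 ^ 1 := by
      have h1 : Nat.card N ∣ 5 * 192 := hNd
      have h2 : (Nat.card N).Coprime 5 := ((Nat.Prime.coprime_iff_not_dvd hF5.out).2 h5).symm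
      exact h2.dvd_of_dvd_mul_left h1
    have hsN := solvable_of_dvd Nat.prime_two Nat.prime_three hN192
    obtain ⟨p, hp, hpN⟩ := isPGroup_of_min N hNn hN hmin hsN
    have : Fact p.Prime := ⟨hp⟩
    obtain ⟨k, hk⟩ := IsPGroup.iff_card.1 hpN
    have hk0 : k ≠ 0 := by
      rintro rfl
      exact hN1 (by rw [hk, pow_zero])
    have hpd : p ∣ 2 ^ 6 * 3 ^ 1 := (dvd_pow_self p hk0).trans (hk ▸ hN192)
    rcases (Nat.Prime.dvd_mul hp).1 hpd with h1 | h1
    · have h2 := (Nat.prime_dvd_prime_iff_eq hp Nat.prime_two).1 (hp.dvd_of_dvd_pow h1)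
      subst h2
      exact hpN
    · exfalso
      have h2 := (Nat.prime_dvd_prime_iff_eq hp Nat.prime_three).1 (hp.dvd_of_dvd_pow h1)
      subst h2
      have hk1 : k = 1 := by
        by_contra h2
        have h3 : 3 ^ 2 ∣ 2 ^ 6 * 3 ^ 1 := (pow_dvd_pow 3 (by omega : 2 ≤ k)).trans (hk ▸ hN192)
        revert h3
        decide
      rw [hk1, pow_one] at hk
      obtain ⟨y, hy⟩ := exists_prime_orderOf_dvd_card' (G := A) 5 (by rw [hA]; decide)
      have h4 := card_mod_five hG (x := (y : G)) (by rw [Subgroup.orderOf_coe, hy])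
        (N.map A.subtype) (by
          rintro _ ⟨b, hb, rfl⟩
          exact ⟨y * b * y⁻¹, hNn.conj_mem b hb y, rfl⟩) (by rw [hNcard]; exact h5)
      rw [hNcard, hk] at h4
      omega

/-- The subgroups of order 960 are the normalizers of 2-subgroups. -/
theorem eq_normalizer (hG : Nat.card G = 25920) (A : Subgroup G) (hA : Nat.card A = 960) :
    ∃ Q : Subgroup G, IsPGroup 2 Q ∧ Q ≠ ⊥ ∧ ¬ Group.IsSolvable (normalizer (Q : Set G)) ∧
      A = normalizer (Q : Set G) := by
  obtain ⟨N, hNn, hN, h2⟩ := exists_normal_two hG A hA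
  have hle : A ≤ normalizer ((N.map A.subtype : Subgroup G) : Set G) := by
    intro a ha
    rw [Subgroup.mem_normalizer_iff]
    intro g
    constructor
    · rintro ⟨b, hb, rfl⟩
      exact ⟨⟨a, ha⟩ * b * ⟨a, ha⟩⁻¹, hNn.conj_mem b hb ⟨a, ha⟩, rfl⟩
    · rintro ⟨b, hb, hbg⟩
      refine ⟨⟨a, ha⟩⁻¹ * b * ⟨a, ha⟩, ?_, ?_⟩
      · have := hNn.conj_mem b hb ⟨a, ha⟩⁻¹
        rwa [inv_inv] at this
      · change a⁻¹ * (b : G) * a = g
        change (b : G) = _ at hbg
        rw [hbg]
        group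
  have hQ : N.map A.subtype ≠ ⊥ := fun h =>
    hN ((Subgroup.map_eq_bot_iff_of_injective N A.subtype_injective).1 h)
  have hns : ¬ Group.IsSolvable (normalizer ((N.map A.subtype : Subgroup G) : Set G)) := by
    intro h
    apply not_solvable_of_index hG A hA
    exact Group.isSolvable_of_isSolvable_injective (Subgroup.inclusion_injective hle)
  refine ⟨N.map A.subtype, h2.map _, hQ, hns, ?_⟩
  apply Subgroup.eq_of_le_of_card_ge hle
  obtain ⟨x, -, -, -, -, hM, -⟩ := local_structure hG _ (h2.map A.subtype) hQ hns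
  rw [hM, hA]

/-- The group acts faithfully on the graph, the normalizer being a point stabilizer. -/
theorem exists_hom_pt (hG : Nat.card G = 25920) (Q : Subgroup G) (hQ2 : IsPGroup 2 Q) (hne : Q ≠ ⊥)
    (hns : ¬ Group.IsSolvable (normalizer (Q : Set G))) :
    ∃ (f : G →* Equiv.Perm V) (v : V), Function.Injective f ∧
      (∀ g, f g ∈ Cfsg.Agent.SmallSimple.S1000.Order25920Aut.A) ∧
      (∀ w : V, ∃ g, f g v = w) ∧ ∀ g, g ∈ normalizer (Q : Set G) ↔ f g v = v := by
  obtain ⟨x, β, h⟩ := exists_conf hG Q hQ2 hne hns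
  obtain ⟨F, hF, hadj⟩ := exists_model h
  let e : V ≃ G ⧸ normalizer (Q : Set G) := Equiv.ofBijective F hF
  let f : G →* Equiv.Perm V :=
    (Equiv.permCongrHom e.symm).toMonoidHom.comp
      (MulAction.toPermHom G (G ⧸ normalizer (Q : Set G)))
  have hf : ∀ g v, e (f g v) = g • e v := by
    intro g v
    show e (e.symm (g • e.symm.symm v)) = g • e v
    rw [Equiv.apply_symm_apply, Equiv.symm_symm]
  refine ⟨f, e.symm ((1 : G) : G ⧸ normalizer (Q : Set G)), ?_, ?_, ?_, ?_⟩
  · rw [injective_iff_map_eq_one]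
    intro g hg
    by_contra hg1
    have h1 := Cfsg.Agent.SmallSimple.FixCount.card_fixedBy_lt (X := G ⧸ normalizer (Q : Set G))
      (by rw [h.cardX]; norm_num) hg1
    have h2 : MulAction.fixedBy (G ⧸ normalizer (Q : Set G)) g = Set.univ := by
      ext ω
      simp only [Set.mem_univ, iff_true, MulAction.mem_fixedBy]
      have h3 := hf g (e.symm ω)
      rw [hg, Equiv.Perm.one_apply, Equiv.apply_symm_apply] at h3
      exact h3.symm
    rw [h2, Nat.card_univ] at h1
    exact lt_irrefl _ h1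
  · intro g a b
    have h1 : ∀ a b : V, adj G (e a) (e b) ↔ T a b = true := hadj
    have h2 : T (f g a) (f g b) = true ↔ T a b = true := by
      rw [← h1, ← h1, hf, hf, adj_smul]
    exact Bool.eq_iff_iff.2 h2
  · intro w
    obtain ⟨g, hg⟩ := MulAction.exists_smul_eq G ((1 : G) : G ⧸ normalizer (Q : Set G)) (e w)
    refine ⟨g, e.injective ?_⟩
    rw [hf, Equiv.apply_symm_apply, hg]
  · intro g
    rw [← e.injective.eq_iff, hf, Equiv.apply_symm_apply]
    have h1 := Cfsg.Agent.SmallSimple.FixCount.mk_mem_fixedBy_iff (normalizer (Q : Set G)) g 1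
    rw [inv_one, one_mul, mul_one] at h1
    exact h1.symm

/-- **Subgroups of index 27.** -/
theorem rowAt_25920 (hG : Nat.card G = 25920) : RowAt G 27 := by
  intro H K hH hK
  have hcard : ∀ L : Subgroup G, L.index = 27 → Nat.card L = 960 := by
    intro L hL
    have := L.card_mul_index
    rw [hL, hG] at this
    omega
  obtain ⟨Q₁, hQ₁, hne₁, hns₁, h₁⟩ := eq_normalizer hG H (hcard H hH)
  obtain ⟨Q₂, hQ₂, hne₂, hns₂, h₂⟩ := eq_normalizer hG K (hcard K hK)
  obtain ⟨f₁, v₁, hf₁, hA₁, -, hv₁⟩ := exists_hom_pt hG Q₁ hQ₁ hne₁ hns₁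
  obtain ⟨f₂, v₂, hf₂, hA₂, ht₂, hv₂⟩ := exists_hom_pt hG Q₂ hQ₂ hne₂ hns₂
  let e₁ := MonoidHom.ofInjective hf₁
  let e₂ := MonoidHom.ofInjective hf₂
  have c₁ : Nat.card f₁.range = 25920 := by rw [← Nat.card_congr e₁.toEquiv, hG]
  have c₂ : Nat.card f₂.range = 25920 := by rw [← Nat.card_congr e₂.toEquiv, hG]
  have s₁ : IsSimpleGroup f₁.range := e₁.symm.isSimpleGroup
  have s₂ : IsSimpleGroup f₂.range := e₂.symm.isSimpleGroup
  have l₁ : f₁.range ≤ Cfsg.Agent.SmallSimple.S1000.Order25920Aut.A := by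
    rintro _ ⟨g, rfl⟩
    exact hA₁ g
  have l₂ : f₂.range ≤ Cfsg.Agent.SmallSimple.S1000.Order25920Aut.A := by
    rintro _ ⟨g, rfl⟩
    exact hA₂ g
  have heq : f₁.range = f₂.range :=
    le_antisymm (le_of_card l₂ l₁ c₂ c₁) (le_of_card l₁ l₂ c₁ c₂)
  let ε : G ≃* G := e₁.trans ((MulEquiv.subgroupCongr heq).trans e₂.symm)
  have hε : ∀ g, f₂ (ε g) = f₁ g := by
    intro g
    have h3 : e₂ (ε g) = (MulEquiv.subgroupCongr heq) (e₁ g) := by
      simp [ε]
    exact congrArg Subtype.val h3
  obtain ⟨k, hk⟩ := ht₂ v₁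
  refine ⟨MulAut.conj k⁻¹ * ε, fun t => ?_⟩
  rw [h₁, h₂]
  have h5 : t ∈ (normalizer (Q₁ : Set G) : Subgroup G) ↔ f₁ t v₁ = v₁ := hv₁ t
  have h6 : (MulAut.conj k⁻¹ * ε) t ∈ (normalizer (Q₂ : Set G) : Subgroup G) ↔
      f₂ ((MulAut.conj k⁻¹ * ε) t) v₂ = v₂ := hv₂ _
  rw [h5, h6, MulAut.mul_apply, MulAut.conj_apply, inv_inv]
  change _ ↔ f₂ (k⁻¹ * ε t * k) v₂ = v₂
  rw [map_mul, map_mul, Equiv.Perm.mul_apply, Equiv.Perm.mul_apply, hk, hε, map_inv,
    Equiv.Perm.inv_eq_iff_eq, hk]

end

/-- The group `PSp₄(3)`. -/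
theorem rowAt_psp {F : Type*} [Field F] [Fintype F] (hF : Fintype.card F = 3) :
    RowAt (Cfsg.PSp 2 F) 27 := by
  have := Cfsg.Agent.H316.Red.simple_psp hF
  exact rowAt_25920 (Cfsg.Agent.H316.Red.card_psp hF)

theorem outAb_psp {F : Type*} [Field F] [Fintype F] (hF : Fintype.card F = 3) :
    OutAb (Cfsg.PSp 2 F) := by
  apply OutAb.of_index_two
  have h0 := Cfsg.Agent.H316.Red.simple_psp hF
  have h1 := Cfsg.Agent.H316.Red.card_aut hF
  have h2 := Cfsg.Agent.H316.Red.card_psp hF
  have h3 := (MulAut.conj : Cfsg.PSp 2 F →* MulAut (Cfsg.PSp 2 F)).range.card_mul_index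
  have hinj : Function.Injective (MulAut.conj : Cfsg.PSp 2 F →* MulAut (Cfsg.PSp 2 F)) := by
    have h4 := not_comm h2
    rw [← MonoidHom.ker_eq_bot_iff]
    rcases h0.eq_bot_or_eq_top_of_normal
      (MulAut.conj : Cfsg.PSp 2 F →* MulAut (Cfsg.PSp 2 F)).ker inferInstance with h | h
    · exact h
    · exfalso
      apply h4
      refine ⟨⟨fun a b => ?_⟩⟩
      have h5 : a ∈ (MulAut.conj : Cfsg.PSp 2 F →* MulAut (Cfsg.PSp 2 F)).ker := by
        rw [h]; exact mem_top a
      have h6 := DFunLike.congr_fun (MonoidHom.mem_ker.1 h5) b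
      rw [MulAut.conj_apply, MulAut.one_apply, mul_inv_eq_iff_eq_mul] at h6
      exact h6
  have h4 : Nat.card (MulAut.conj : Cfsg.PSp 2 F →* MulAut (Cfsg.PSp 2 F)).range = 25920 := by
    rw [← h2]
    exact (Nat.card_congr (MonoidHom.ofInjective hinj).toEquiv).symm
  rw [h4, h1] at h3
  omega

end Cfsg.Agent.H561.PPow
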