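import Mathlib
import Cfsg.Agent.H561.PPRowA
import Cfsg.Agent.H561.PPRowM
import Cfsg.Agent.H561.PPRowL
import Cfsg.Agent.H561.PPRowS

/-!
# Simple groups with subgroups of prime power index: conjugacy in the automorphism group

`row_of_list` : the property `Row T p` for the groups of the list of Guralnick's theorem (S3608).
-/

set_option autoImplicit false

namespace Cfsg.Agent.H561.PPow

open Subgroup

/-- The list of the simple groups with a subgroup of prime power index `n` (S3608). -/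
def Lst (G : Type*) [Group G] (n : ℕ) : Prop :=
  (5 ≤ n ∧ Nonempty (G ≃* alternatingGroup (Fin n))) ∨
    (∃ (d : ℕ) (F : Type) (_ : Field F) (_ : Fintype F), 2 ≤ d ∧
      Fintype.card F ^ d - 1 = n * (Fintype.card F - 1) ∧
      Nonempty (G ≃* Matrix.ProjectiveSpecialLinearGroup (Fin d) F)) ∨
    (n = 11 ∧ (Nonempty (G ≃* Matrix.ProjectiveSpecialLinearGroup (Fin 2) (ZMod 11)) ∨
      Cfsg.IsM11 G)) ∨
    (n = 23 ∧ Cfsg.IsM23 G) ∨
    (n = 27 ∧ Nonempty (G ≃* Cfsg.PSp 2 (ZMod 3)))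

theorem four_le_card {T : Type*} [Group T] [Finite T] (hs : IsSimpleGroup T)
    (hna : ¬ IsMulCommutative T) {F : Type*} [Field F] [Fintype F]
    (e : T ≃* Matrix.ProjectiveSpecialLinearGroup (Fin 2) F) : 4 ≤ Fintype.card F := by
  by_contra hlt
  have h1 : 1 < Fintype.card F := Fintype.one_lt_card
  have h2 := Cfsg.Agent.ClassicalGeometry.PSL2Basic.card_PSL2_gcd (F := F)
  rw [← Nat.card_congr e.toEquiv] at h2
  have h3 : Nat.card T < 60 := by
    have h4 : Fintype.card F = 2 ∨ Fintype.card F = 3 := by omega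
    rcases h4 with h4 | h4
    · rw [h4] at h2
      have h5 : Nat.gcd 2 (2 - 1) = 1 := by decide
      rw [h5] at h2
      omega
    · rw [h4] at h2
      have h5 : Nat.gcd 2 (3 - 1) = 2 := by decide
      rw [h5] at h2
      omega
  have h4 : Group.IsSolvable T := Cfsg.Agent.H352.Order120.solvable_of_card_lt _ T rfl h3
  apply hna
  exact ⟨⟨fun a b => (IsSimpleGroup.comm_iff_isSolvable).2 h4 a b⟩⟩

/-- **The row lemma.** -/
theorem row_of_list {T : Type*} [Group T] [Finite T] (hs : IsSimpleGroup T)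
    (hna : ¬ IsMulCommutative T) {p : ℕ} (hp : p.Prime)
    (h : ∀ (H : Subgroup T) (k : ℕ), 1 ≤ k → H.index = p ^ k → Lst T (p ^ k)) : Row T p := by
  intro A B j hj hA hB
  suffices hsuff : OutAb T ∧ RowAt T (p ^ j) from ⟨hsuff.1, hsuff.2 A B hA hB⟩
  rcases h A j hj hA with ⟨h5, ⟨e⟩⟩ | ⟨d, F, i1, i2, hd, hq, ⟨e⟩⟩ | ⟨h11, ⟨⟨e⟩⟩ | hM⟩ | ⟨h23, hM⟩ |
    ⟨h27, ⟨e⟩⟩
  · have h6 : p ^ j ≠ 6 := by
      intro h6
      have h2 : 2 ∣ p ^ j := by rw [h6]; decide
      have h3 : 3 ∣ p ^ j := by rw [h6]; decide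
      have e2 := (Nat.prime_dvd_prime_iff_eq Nat.prime_two hp).1 (Nat.prime_two.dvd_of_dvd_pow h2)
      have e3 := (Nat.prime_dvd_prime_iff_eq Nat.prime_three hp).1
        (Nat.prime_three.dvd_of_dvd_pow h3)
      omega
    exact ⟨OutAb.of_equiv e (outAb_alt (by omega) h6), RowAt.of_equiv e (rowAt_alt h5)⟩
  · refine ⟨?_, RowAt.of_equiv e (rowAt_psl hd hq)⟩
    rcases Nat.lt_or_ge d 3 with hd3 | hd3
    · obtain rfl : d = 2 := by omega
      exact OutAb.of_equiv e (outAb_psl_two (four_le_card hs hna e))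
    · exact OutAb.of_equiv e (outAb_psl hd3 (gcd_eq_one Fintype.one_lt_card hd3 hp hq))
  · have : Fact (Nat.Prime 11) := ⟨by norm_num⟩
    rw [h11]
    exact ⟨OutAb.of_equiv e (outAb_psl_two (F := ZMod 11) (by rw [ZMod.card]; norm_num)),
      RowAt.of_equiv e (rowAt_psl_eleven (ZMod.card 11))⟩
  · rw [h11]
    exact ⟨outAb_m11 hM, rowAt_m11 hM⟩
  · rw [h23] at hA ⊢
    have hI := isoM23_of_index hM A hA
    exact ⟨outAb_m23 hI, rowAt_m23 hI⟩
  · have : Fact (Nat.Prime 3) := ⟨by norm_num⟩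
    rw [h27]
    exact ⟨OutAb.of_equiv e (outAb_psp (ZMod.card 3)), RowAt.of_equiv e (rowAt_psp (ZMod.card 3))⟩

/-- **Equivalence of the primitive actions of the same prime power degree**, modulo the list. -/
theorem equiv_of_list {G Ω₁ Ω₂ : Type*} [Group G] [Finite G] [MulAction G Ω₁] [FaithfulSMul G Ω₁]
    [Finite Ω₁] [MulAction G Ω₂] [FaithfulSMul G Ω₂] [Finite Ω₂]
    (p k : ℕ) (hp : p.Prime) (hk : 1 ≤ k) (h₁ : Nat.card Ω₁ = p ^ k) (h₂ : Nat.card Ω₂ = p ^ k)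
    (hprim₁ : MulAction.IsPreprimitive G Ω₁) (hprim₂ : MulAction.IsPreprimitive G Ω₂)
    (h : ∀ T : Subgroup G, IsSimpleGroup T → ¬ IsMulCommutative T →
      ∀ (H : Subgroup T) (j : ℕ), 1 ≤ j → H.index = p ^ j → Lst T (p ^ j)) :
    ∃ (σ : G ≃* G) (f : Ω₁ ≃ Ω₂), ∀ (g : G) (x : Ω₁), f (g • x) = σ g • f x := by
  refine equiv_of_row p k hp hk h₁ h₂ hprim₁ hprim₂ fun T hT hnc => ?_
  have hna : ¬ IsMulCommutative T := by
    intro hc
    obtain ⟨a, b, hab⟩ := hnc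
    exact hab (hc.is_comm.comm a b)
  exact row_of_list hT hna hp (h T hT hna)

end Cfsg.Agent.H561.PPow
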